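import Cfsg.Agent.StdL34.ExistsCov
import Cfsg.Agent.StdL34.Inv2
import Cfsg.Agent.UGT.A7.Mu_m3
import Cfsg.Agent.UGT.FL34.FixX_m3
import Cfsg.Agent.UAlt.Frame
import Cfsg.Agent.UAlt.Bij
import Cfsg.Agent.UGT.I34.OnCode_m3
import Cfsg.Agent.UGT.End_m3
import Cfsg.Agent.UGT.EndBase
import Cfsg.Agent.CoThreeStd.OddCent
import Cfsg.Agent.OddHalf.Table.OutMTwelve
import Mathlib
import Cfsg.Prelude.Def_Balance
import Cfsg.Agent.Lib.ThompsonPQ
import Cfsg.Agent.Lib.KleinGen
import Cfsg.Agent.Lib.CoreCent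
import Cfsg.Agent.WeakTI.BenderModel_m3
import Cfsg.Agent.S1119
import Cfsg.Agent.SuzukiRankOne.PSUModel
import Cfsg.Agent.AschCrit.PSUTorus
import Cfsg.Agent.GH.Defs
import Cfsg.Agent.S0252
import Cfsg.Agent.S0253
import Cfsg.Agent.UGT.U2.FOne.HexMain_m3
import Cfsg.Agent.S0254
import Cfsg.Agent.UGT.EndJ1.Main_m3
import Cfsg.Agent.UGT.End.MEleven
import Cfsg.Agent.TypeM.Two
import Cfsg.Agent.TypeM.OutLyFin
import Cfsg.Agent.GH.AltOut
import Cfsg.Agent.Hexagon.TwD4Par
import Cfsg.Agent.OddHalf.D9.DoubleKill_m3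
import Cfsg.Agent.UGT.L34.Inst
import Cfsg.Agent.UGT.NoGamma_m3
import Cfsg.Agent.UGT.Parity_m3
import Mathlib.GroupTheory.Transfer
import Cfsg.Agent.FastGrp
import Cfsg.Agent.Prune
set_option linter.all false

section
prune_inst 0x7fb0fcf98fb8addfdfff7e7ffedddffc39d5dfffffdffb4bffecebff8fdf03023de56b8d9de058ff1ed6e29430b87803fbffceffea6bdc7ffffd5ff45ffbee0fe5f7bd8151d688340fbc0fff03f07f8e7f3fffffffffffffffffffffffffffbeffffffffffff

-- part: UGT/Cov/Res
section
prune_inst 0x400302004012202000018001200001c428200000000080001104007020e86dc2009022021f8100c02100288c460310040030000100000000000000800011d00808023c202937cad0436000f801005180c00000000000000000000000000041000000000000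
set_option linter.all false
open scoped Cfsg.Agent.FastGrp

-- part: UGT/Cov/KC
section
/-!
# Coordinates on `4₁.L₃(4)`, `4₂.L₃(4)` over `PSL(3,4)`, adapted to an involutory automorphism

* `KC A π b` : coordinates `A` on `K`, `π : K → PSL(3,4)` with `π (A.x i j u) = t i j u`, `b : Aut K → Aut PSL(3,4)`.
* `exists_kc`, `exists_adapted` (an involutory automorphism is of pure type or the conjugation by `A.x 0 2 1`),
  `exists_adapted2` (moreover a given fixed noncentral involution is `A.x 0 2 1` or `A.x 0 2 1 * z`).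
-/

set_option autoImplicit false
set_option linter.constructorNameAsVariable false
set_option linter.unusedSectionVars false
set_option linter.unusedVariables false

namespace Cfsg.Agent.UGT.Cov

open Subgroup
open Cfsg.Agent.SporadicA.FieldFour
open Cfsg.Agent.ONType.Psl (PSL3 t kap)
open Cfsg.Agent.StdL34 (Cov Code Ty cz t0 nk trF invs ctau cmul cinv cact cone elx imgx)
open Cfsg.Agent.OddHalf.D9.L34Mult (CE)

/-- Coordinates over `PSL(3,4)`. -/
structure KC {K : Type*} [Group K] (A : Cov K) (π : K →* PSL3) (b : MulAut K →* MulAut PSL3) : Prop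
    extends Ext π b where
  map_x : ∀ i j, i ≠ j → ∀ u, π (A.x i j u) = t i j u
  ker : π.ker = center K
  cz : center K = zpowers A.s
  ord : orderOf A.s = 4

section

open Cfsg.Agent.ONType.Psl
open Cfsg.Agent.ONType.Lift
open Cfsg.Agent.ONType.Data
open Cfsg.Agent.ONType.OuterL (rv rv_ne rv_rv)
open Cfsg.Agent.ONType.OuterM (trn)
open Cfsg.Agent.StdL34 (gty gty_eq t2_eq card_code fr)

variable {M : Type*} [Group M] {π : M →* PSL3}

/-- a copy of `StdL34.exists_cov_of` with a longer conclusion -/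
theorem exists_cov_of' [Finite M] (C : CExt π) (z : M) (ty : Bool) (hker : π.ker = zpowers z)
    (hz : orderOf z = 4) (hperf : commutator M = ⊤) (R : MRel C.x z C.h (gty ty))
    (hcen : ∀ k : M, (∀ m, k * m = m * k) → π k = 1) :
    ∃ A : Cov M, A.s = z ∧ A.x = C.x := by
  classical
  have hπz : π z = 1 := by
    have : z ∈ π.ker := by rw [hker]; exact mem_zpowers z
    exact this
  have hz4 : z ^ 4 = 1 := by rw [← hz]; exact pow_orderOf_eq_one z
  have hpow : ∀ y : M, π y = 1 → ∃ k : Fin 4, y = z ^ (k : ℕ) := by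
    intro y hy
    have h1 : y ∈ zpowers z := by rw [← hker]; exact hy
    rw [mem_zpowers_iff_mem_range_orderOf] at h1
    obtain ⟨k, hk, hk'⟩ := Finset.mem_image.1 h1
    rw [Finset.mem_range, hz] at hk
    exact ⟨⟨k, hk⟩, hk'.symm⟩
  have hπel : ∀ p : Code, π (elx C.x z p) = t 0 1 p.a * t 1 2 p.b * t 0 2 p.c := by
    intro p
    unfold elx
    rw [map_mul, map_mul, map_mul, map_pow, hπz, one_pow, mul_one, C.map_x 0 1 (by decide),
      C.map_x 1 2 (by decide), C.map_x 0 2 (by decide)]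
  have hinj : Function.Injective (elx C.x z) := by
    intro p q h
    have h1 := congrArg π h
    rw [hπel, hπel] at h1
    obtain ⟨ha, hb, hc⟩ := Cfsg.Agent.ONType.PslCard.t_inj h1
    have hk : z ^ (p.k : ℕ) = z ^ (q.k : ℕ) := by
      unfold elx at h
      rw [ha, hb, hc] at h
      exact mul_left_cancel h
    have hk' : p.k = q.k := by
      have h2 := pow_inj_mod.1 hk
      rw [hz] at h2
      apply Fin.ext
      rw [Nat.mod_eq_of_lt p.k.2, Nat.mod_eq_of_lt q.k.2] at h2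
      exact h2
    cases p; cases q
    simp only at ha hb hc hk'
    subst ha hb hc hk'
    rfl
  have hmem : ∀ l : M, π l * t 0 2 1 = t 0 2 1 * π l ↔ ∃ p, l = elx C.x z p := by
    intro l
    rw [Cfsg.Agent.StdL34.PslCent.cent_t02]
    constructor
    · rintro ⟨a, b, c, h⟩
      have h1 : π ((elx C.x z ⟨a, b, c, 0⟩)⁻¹ * l) = 1 := by
        rw [map_mul, map_inv, hπel, h, inv_mul_cancel]
      obtain ⟨k, hk⟩ := hpow _ h1
      refine ⟨⟨a, b, c, k⟩, ?_⟩
      rw [inv_mul_eq_iff_eq_mul] at hk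
      rw [hk]
      unfold elx
      simp
    · rintro ⟨p, rfl⟩
      exact ⟨p.a, p.b, p.c, hπel p⟩
  have hzz1 : z * z ≠ 1 := by
    intro h
    have h2 := orderOf_dvd_of_pow_eq_one (x := z) (n := 2) (by rw [pow_two]; exact h)
    rw [hz] at h2
    omega
  have hrow : ∀ u v : F4, C.x 0 1 u * C.x 0 2 v = C.x 0 2 v * C.x 0 1 u * (z * z) ^ trn (u * v) := by
    intro u v
    rw [R.row 0 1 2 (by decide) (by decide) (by decide) u v, pow_mul, pow_two]
  have hcol : ∀ u v : F4, C.x 1 2 u * C.x 0 2 v = C.x 0 2 v * C.x 1 2 u * (z * z) ^ trn (u * v) := by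
    intro u v
    rw [R.col 1 2 0 (by decide) (by decide) (by decide) u v, pow_mul, pow_two]
  have hcz : ∀ m : M, z * m = m * z := C.cen z hπz
  refine ⟨{ s := z, x := C.x, h := C.h, ty := ty, s_cen := hcz, s_pow := hz4, x_add := R.add, x_row := ?_, x_col := ?_, x_sum := ?_, x_wey := R.weyl, h_pow := R.h3, h_x := R.tor, h_eq := R.torus, el_inj := hinj, gen := ?_, odd_index := ?_, cent := ?_, r_ne := ?_, outer := ?_ }, rfl, rfl⟩
  · intro i j k h1 h2 h3 u v
    rw [R.row i j k h1 h2 h3, t2_eq]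
  · intro i j k h1 h2 h3 u v
    rw [R.col i j k h1 h2 h3, t2_eq]
  · intro i j k h1 h2 h3 u v
    rw [R.sum i j k h1 h2 h3, gty_eq, ← mul_assoc]
  · exact Cfsg.Agent.ONType.OuterC.closure_x C hperf
  · refine ⟨(centralizer ({t 0 2 1} : Set PSL3)).comap π, ?_, ?_⟩
    · intro l
      rw [mem_comap, mem_centralizer_singleton_iff]
      exact hmem l
    · have hcard : Nat.card ((centralizer ({t 0 2 1} : Set PSL3)).comap π) = 256 := by
        rw [← card_code]
        symm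
        apply Nat.card_congr
        refine Equiv.ofBijective (fun p => ⟨elx C.x z p, ?_⟩) ⟨?_, ?_⟩
        · rw [mem_comap, mem_centralizer_singleton_iff]
          exact (hmem _).2 ⟨p, rfl⟩
        · intro p q h
          exact hinj (congrArg Subtype.val h)
        · rintro ⟨l, hl⟩
          rw [mem_comap, mem_centralizer_singleton_iff] at hl
          obtain ⟨p, hp⟩ := (hmem _).1 hl
          exact ⟨p, Subtype.ext hp.symm⟩
      have hM : Nat.card M = 80640 := by
        rw [C.card_M, hker, Nat.card_zpowers, hz]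
      have h1 := Subgroup.card_mul_index ((centralizer ({t 0 2 1} : Set PSL3)).comap π)
      rw [hcard, hM] at h1
      omega
  · intro l hl
    apply (hmem l).1
    have := congrArg π hl
    rw [map_mul, map_mul, C.map_x 0 2 (by decide)] at this
    exact this
  · intro n h
    have := congrArg π h
    rw [map_pow, map_mul, C.map_x 0 2 (by decide), C.map_x 2 0 (by decide), map_one] at this
    exact Cfsg.Agent.StdL34.PslCent.tt_pow_ne n this
  · intro α
    have hαz : α (z * z) = z * z := by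
      have h1 : π (α z) = 1 := by
        apply hcen
        intro m
        have := congrArg α (hcz (α.symm m))
        rw [map_mul, map_mul, MulEquiv.apply_symm_apply] at this
        exact this
      obtain ⟨k, hk⟩ := hpow _ h1
      have h2 : orderOf (α z) = 4 := by
        rw [← hz]; exact orderOf_injective α.toMonoidHom α.injective z
      rw [map_mul, hk, ← pow_add]
      have h3 : orderOf (z ^ (k : ℕ)) = 4 := by rw [← hk, h2]
      obtain ⟨k, hk4⟩ := k
      simp only at h3 ⊢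
      interval_cases k
      · rw [pow_zero, orderOf_one] at h3; omega
      · rw [pow_two]
      · exfalso
        have := orderOf_dvd_of_pow_eq_one (x := z ^ 2) (n := 2) (by rw [← pow_mul]; exact hz4)
        rw [h3] at this
        omega
      · show z ^ (4 + 2) = z * z
        rw [pow_add, hz4, one_mul, pow_two]
    obtain ⟨l, σ, hσ, -, hx⟩ := Cfsg.Agent.ONType.OuterM.exists_outer C hcen (z * z) hzz1 hrow hcol α
      (fun l => by
        rw [MulAut.mul_apply, MulAut.conj_apply, hαz]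
        rw [← mul_assoc, ← hcz l, mul_assoc z l z, ← hcz l, ← mul_assoc, mul_inv_cancel_right])
    have hσ' : ∃ e : Bool, ∀ u, σ u = fr e u := by
      rcases hσ with h | h
      · exact ⟨false, fun u => by rw [h]; rfl⟩
      · exact ⟨true, fun u => by rw [h]; rfl⟩
    obtain ⟨e, he⟩ := hσ'
    rcases hx with hx | hx
    · refine ⟨l, (e, false), fun i j hij u => ?_⟩
      have := hx i j hij u
      rw [MulAut.mul_apply, MulAut.conj_apply, he] at this
      exact this
    · refine ⟨l, (e, true), fun i j hij u => ?_⟩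
      have := hx i j hij u
      rw [MulAut.mul_apply, MulAut.conj_apply, he] at this
      exact this

end

/-- **Existence of coordinates.** -/
theorem exists_kc {M : Type*} [Group M] [Finite M] (hZc : IsCyclic (center M))
    (hZ4 : Nat.card (center M) = 4) (hperf : commutator M = ⊤)
    {F : Type*} [Field F] [Fintype F] (hF : Fintype.card F = 4)
    (e : M ⧸ center M ≃* Matrix.ProjectiveSpecialLinearGroup (Fin 3) F) :
    ∃ (A : Cov M) (π : M →* PSL3) (b : MulAut M →* MulAut PSL3), KC A π b := by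
  obtain ⟨e'⟩ := nonempty_psl_equiv (n := Fin 3) F hF
  obtain ⟨π, C, z, hker, hcz, hz, hR⟩ := Cfsg.Agent.ONType.Data.exists_data (M := M) hZc hZ4 hperf F4
    F4.card_eq (e.trans e'.symm)
  have hcen : ∀ k : M, (∀ m, k * m = m * k) → π k = 1 := by
    intro k hk
    have : k ∈ π.ker := by
      rw [hker, Subgroup.mem_center_iff]
      exact fun m => (hk m).symm
    exact this
  have hex : ∃ ty, Cfsg.Agent.ONType.Data.MRel C.x z C.h (Cfsg.Agent.StdL34.gty ty) := by
    rcases hR with h | h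
    · exact ⟨false, h⟩
    · exact ⟨true, h⟩
  obtain ⟨ty, R⟩ := hex
  obtain ⟨A, hA, hAx⟩ := exists_cov_of' C z ty (hker.trans hcz) hz hperf R hcen
  have hce : CE π := ⟨C.surj, C.cen⟩
  obtain ⟨b, hb⟩ := hce.exists_bar hcen
  refine ⟨A, π, b, ⟨⟨hce, hperf, ?_, hcen, hb⟩, ?_, hker, ?_, ?_⟩⟩
  · rw [hker]
    exact IsPGroup.of_card (n := 2) (by rw [hZ4]; norm_num)
  · intro i j hij u
    rw [hAx]
    exact C.map_x i j hij u
  · rw [hA, hcz]
  · rw [hA, hz]

/-! ### Transport -/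

section

variable {K : Type*} [Group K]

theorem elx_map (A : Cov K) (γ : MulAut K) (p : Code) :
    elx (fun i j u => γ (A.x i j u)) (γ A.s) p = γ (elx A.x A.s p) := by
  unfold elx
  simp only [map_mul, map_pow]

/-- transport of coordinates by an automorphism -/
def mapE (A : Cov K) (γ : MulAut K) : Cov K where
  s := γ A.s
  x := fun i j u => γ (A.x i j u)
  h := γ A.h
  ty := A.ty
  s_cen m := by
    have := congrArg γ (A.s_cen (γ.symm m))
    rwa [map_mul, map_mul, MulEquiv.apply_symm_apply] at this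
  s_pow := by rw [← map_pow, A.s_pow, map_one]
  x_add i j h u v := by rw [← map_mul, A.x_add i j h]
  x_row i j k h1 h2 h3 u v := by
    have := congrArg γ (A.x_row i j k h1 h2 h3 u v)
    simpa only [map_mul, map_pow] using this
  x_col i j k h1 h2 h3 u v := by
    have := congrArg γ (A.x_col i j k h1 h2 h3 u v)
    simpa only [map_mul, map_pow] using this
  x_sum i j k h1 h2 h3 u v := by
    have := congrArg γ (A.x_sum i j k h1 h2 h3 u v)
    simpa only [map_mul, map_pow] using this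
  x_wey i j k l h1 h2 u := by
    have := congrArg γ (A.x_wey i j k l h1 h2 u)
    simpa only [map_mul, map_inv] using this
  h_pow := by rw [← map_pow, A.h_pow, map_one]
  h_x i j h u := by
    have := congrArg γ (A.h_x i j h u)
    simpa only [map_mul, map_inv] using this
  h_eq i j h := by
    have := congrArg γ (A.h_eq i j h)
    simpa only [map_mul] using this
  el_inj := by
    intro p q h
    rw [elx_map, elx_map] at h
    exact A.el_inj (γ.injective h)
  gen := by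
    have h1 : {y | ∃ i j u, i ≠ j ∧ y = γ (A.x i j u)} =
        γ.toMonoidHom '' {y | ∃ i j u, i ≠ j ∧ y = A.x i j u} := by
      ext y
      constructor
      · rintro ⟨i, j, u, h, rfl⟩
        exact ⟨_, ⟨i, j, u, h, rfl⟩, rfl⟩
      · rintro ⟨_, ⟨i, j, u, h, rfl⟩, rfl⟩
        exact ⟨i, j, u, h, rfl⟩
    rw [h1, ← MonoidHom.map_closure, A.gen, ← MonoidHom.range_eq_map]
    exact MonoidHom.range_eq_top.mpr γ.surjective
  odd_index := by
    obtain ⟨T, hT, h2⟩ := A.odd_index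
    refine ⟨T.map γ.toMonoidHom, ?_, ?_⟩
    · intro l
      constructor
      · rintro ⟨m, hm, rfl⟩
        obtain ⟨p, rfl⟩ := (hT m).mp hm
        exact ⟨p, (elx_map A γ p).symm⟩
      · rintro ⟨p, rfl⟩
        rw [elx_map]
        exact ⟨_, (hT _).mpr ⟨p, rfl⟩, rfl⟩
    · have h3 : (T.map γ.toMonoidHom).index = T.index :=
        Subgroup.index_map_equiv (H := T) (γ : K ≃* K)
      rw [h3]; exact h2
  cent l h := by
    have h1 : γ.symm l * A.x 0 2 1 = A.x 0 2 1 * γ.symm l := by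
      apply γ.injective
      rw [map_mul, map_mul, MulEquiv.apply_symm_apply]
      exact h
    obtain ⟨p, hp⟩ := A.cent _ h1
    refine ⟨p, ?_⟩
    rw [elx_map, ← hp, MulEquiv.apply_symm_apply]
  r_ne n h := by
    apply A.r_ne n
    apply γ.injective
    rw [map_pow, map_mul, map_one]
    exact h
  outer α := by
    obtain ⟨l, τ, h⟩ := A.outer (γ⁻¹ * α * γ)
    refine ⟨γ l, τ, ?_⟩
    intro i j hij u
    have h1 := congrArg γ (h i j hij u)
    have h2 : γ ((γ⁻¹ * α * γ) (A.x i j u)) = α (γ (A.x i j u)) := by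
      rw [MulAut.mul_apply, MulAut.mul_apply, MulAut.apply_inv_self]
    rw [map_mul, map_mul, h2, map_inv] at h1
    rw [h1]
    unfold imgx
    split <;> rfl

theorem mapE_x (A : Cov K) (γ : MulAut K) (i j : Fin 3) (u : F4) :
    (mapE A γ).x i j u = γ (A.x i j u) := rfl

theorem mapE_s (A : Cov K) (γ : MulAut K) : (mapE A γ).s = γ A.s := rfl

theorem mapE_isTau {A : Cov K} (γ : MulAut K) {τ : Ty} {φ : MulAut K}
    (h : A.IsTau τ (γ⁻¹ * φ * γ)) : (mapE A γ).IsTau τ φ := by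
  intro i j hij u
  have h1 := congrArg γ (h i j hij u)
  have h2 : γ ((γ⁻¹ * φ * γ) (A.x i j u)) = φ (γ (A.x i j u)) := by
    rw [MulAut.mul_apply, MulAut.mul_apply, MulAut.apply_inv_self]
  rw [h2] at h1
  show φ (γ (A.x i j u)) = imgx (fun i j u => γ (A.x i j u)) τ i j u
  rw [h1]
  unfold imgx
  split <;> rfl

variable {A : Cov K} {π : K →* PSL3} {b : MulAut K →* MulAut PSL3}

/-- the record is transported by inner automorphisms -/
theorem KC.mapE (D : KC A π b) (l : K) :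
    KC (mapE A (MulAut.conj l)) (((MulAut.conj (π l)⁻¹).toMonoidHom.comp π :))
      ((MulAut.conj (MulAut.conj (π l)⁻¹)).toMonoidHom.comp b) := by
  have h1 : ∀ k, ((MulAut.conj (π l)⁻¹).toMonoidHom.comp π) k = (π l)⁻¹ * π k * π l := by
    intro k
    show (π l)⁻¹ * π k * ((π l)⁻¹)⁻¹ = _
    rw [inv_inv]
  have h2 : ∀ k, ((MulAut.conj (π l)⁻¹).toMonoidHom.comp π) k = 1 ↔ π k = 1 := by
    intro k
    rw [h1]
    constructor
    · intro h
      calc π k = π l * ((π l)⁻¹ * π k * π l) * (π l)⁻¹ := by group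
        _ = 1 := by rw [h]; group
    · intro h
      rw [h]; group
  have hker : ((MulAut.conj (π l)⁻¹).toMonoidHom.comp π).ker = π.ker := by
    ext k
    exact h2 k
  have hs : MulAut.conj l A.s = A.s := by
    rw [MulAut.conj_apply, ← A.s_cen, mul_inv_cancel_right]
  refine ⟨⟨⟨?_, ?_⟩, D.perf, ?_, ?_, ?_⟩, ?_, ?_, ?_, ?_⟩
  · exact (MulAut.conj (π l)⁻¹).surjective.comp D.ce.surj
  · intro k hk m
    exact D.ce.cen k ((h2 k).mp hk) m
  · rw [hker]; exact D.ker2
  · intro k hk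
    exact (h2 k).mpr (D.cen k hk)
  · intro α m
    show (MulAut.conj (MulAut.conj (π l)⁻¹) (b α)) ((MulAut.conj (π l)⁻¹) (π m)) =
      (MulAut.conj (π l)⁻¹) (π (α m))
    rw [MulAut.conj_apply, MulAut.mul_apply, MulAut.mul_apply, MulAut.inv_apply_self, D.bar]
  · intro i j hij u
    rw [h1, mapE_x, MulAut.conj_apply, map_mul, map_mul, map_inv, D.map_x i j hij]
    group
  · rw [hker]; exact D.ker
  · rw [mapE_s, hs]; exact D.cz
  · rw [mapE_s, hs]; exact D.ord

/-- **Adapted coordinates.** -/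
theorem KC.adapt (D : KC A π b) {φ : MulAut K} (h1 : φ ≠ 1) (h2 : φ * φ = 1) :
    ∃ (A' : Cov K) (π' : K →* PSL3) (b' : MulAut K →* MulAut PSL3), KC A' π' b' ∧ A'.ty = A.ty ∧
      ((∃ τ, τ ≠ (false, false) ∧ A'.IsTau τ φ) ∨ φ = MulAut.conj (A'.x 0 2 1)) := by
  obtain ⟨l, hl⟩ := A.inv_class φ h1 h2
  refine ⟨Cfsg.Agent.UGT.Cov.mapE A (MulAut.conj l⁻¹), _, _, D.mapE l⁻¹, rfl, ?_⟩
  have e0 : (MulAut.conj l⁻¹)⁻¹ * φ * MulAut.conj l⁻¹ =
      MulAut.conj l * φ * (MulAut.conj l)⁻¹ := by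
    rw [map_inv, inv_inv]
  rcases hl with ⟨τ, hτ, hl⟩ | hl
  · left
    refine ⟨τ, hτ, mapE_isTau _ ?_⟩
    rw [e0]; exact hl
  · right
    rw [mapE_x]
    have e1 : MulAut.conj (MulAut.conj l⁻¹ (A.x 0 2 1)) =
        MulAut.conj l⁻¹ * MulAut.conj (A.x 0 2 1) * (MulAut.conj l⁻¹)⁻¹ := by
      rw [MulAut.conj_apply, map_mul, map_mul, map_inv, map_inv, map_inv]
    rw [e1, ← hl, ← e0]
    generalize MulAut.conj l⁻¹ = c
    group

theorem z_fix (A : Cov K) (φ : MulAut K) : φ A.z = A.z := by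
  obtain ⟨l, τ, hl⟩ := A.exists_tau φ
  have h1 : φ A.z = MulAut.conj l⁻¹ ((MulAut.conj l * φ) A.z) := by
    rw [MulAut.mul_apply, map_inv, MulAut.inv_apply_self]
  rw [h1, A.z_eq, hl.sp]
  have h2 : ∀ e, StdL34.sg e 2 = 2 := by decide
  rw [h2, MulAut.conj_apply, ← A.sp_cen, mul_inv_cancel_right]

theorem z_sq (A : Cov K) : A.z * A.z = 1 := by
  rw [A.z_eq, A.sp_add, show (2 : Fin 4) + 2 = 0 from rfl, A.sp_zero]

theorem conj_x02_code : ∀ (ty : Bool) (a b c : F4) (k : Fin 4),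
    cmul ty (cmul ty (cinv ty ⟨a, b, c, k⟩) ⟨0, 0, 1, 0⟩) ⟨a, b, c, k⟩ = ⟨0, 0, 1, 0⟩ ∨
    cmul ty (cmul ty (cinv ty ⟨a, b, c, k⟩) ⟨0, 0, 1, 0⟩) ⟨a, b, c, k⟩ = ⟨0, 0, 1, 2⟩ := by
  have key : ∀ (ty : Bool) (a b c : F4),
      cmul ty (cmul ty (cinv ty ⟨a, b, c, 0⟩) ⟨0, 0, 1, 0⟩) ⟨a, b, c, 0⟩ = ⟨0, 0, 1, 0⟩ ∨
      cmul ty (cmul ty (cinv ty ⟨a, b, c, 0⟩) ⟨0, 0, 1, 0⟩) ⟨a, b, c, 0⟩ = ⟨0, 0, 1, 2⟩ := by
    decide +kernel
  intro ty a b c k
  have e : cmul ty (cmul ty (cinv ty ⟨a, b, c, k⟩) ⟨0, 0, 1, 0⟩) ⟨a, b, c, k⟩ =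
      cmul ty (cmul ty (cinv ty ⟨a, b, c, 0⟩) ⟨0, 0, 1, 0⟩) ⟨a, b, c, 0⟩ := by
    delta cmul cinv
    simp only [Code.mk.injEq, true_and]
    abel
  rw [e]
  exact key ty a b c

theorem el_x02z (A : Cov K) : A.el ⟨0, 0, 1, 2⟩ = A.x 0 2 1 * A.z := by
  rw [A.el_eq, A.x_zero 0 1 (by decide), A.x_zero 1 2 (by decide), A.z_eq, one_mul, one_mul]

/-- a noncentral involution is `A.x 0 2 1` up to `z`, in suitable coordinates -/
theorem KC.adapt_inv (D : KC A π b) {s : K} (hs : s * s = 1) (hc : s ∉ center K) :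
    ∃ (A' : Cov K) (π' : K →* PSL3) (b' : MulAut K →* MulAut PSL3), KC A' π' b' ∧ A'.ty = A.ty ∧
      A'.z = A.z ∧ (s = A'.x 0 2 1 ∨ s = A'.x 0 2 1 * A'.z) := by
  have h1 : MulAut.conj s ≠ 1 := by
    intro h
    apply hc
    rw [← D.ker]
    exact D.map_one_of_conj h
  have h2 : MulAut.conj s * MulAut.conj s = 1 := by rw [← map_mul, hs, map_one]
  obtain ⟨l, hl⟩ := A.inv_class (MulAut.conj s) h1 h2
  rcases hl with ⟨τ, hτ, hl⟩ | hl
  · exfalso
    apply hτ
    have h3 : A.HasTy (MulAut.conj l * MulAut.conj s * (MulAut.conj l)⁻¹) (false, false) := by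
      rw [← map_inv, ← map_mul, ← map_mul]
      exact Cov.hasTy_conj _
    exact hl.hasTy.unique h3
  · refine ⟨Cfsg.Agent.UGT.Cov.mapE A (MulAut.conj l⁻¹), _, _, D.mapE l⁻¹, rfl, ?_, ?_⟩
    · show MulAut.conj l⁻¹ A.s * MulAut.conj l⁻¹ A.s = A.z
      rw [← map_mul]
      exact z_fix A _
    · have h3 : MulAut.conj (l * s * l⁻¹ * (A.x 0 2 1)⁻¹) = 1 := by
        rw [map_mul, map_mul, map_mul, map_inv, map_inv, hl, mul_inv_cancel]
      obtain ⟨k, hk⟩ := Cov.conj_eq_one h3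
      have h4 : l * s * l⁻¹ = A.x 0 2 1 * A.sp k := by
        rw [← A.sp_cen, ← hk]; group
      have h5 : A.sp (k + k) = 1 := by
        have h6 : (l * s * l⁻¹) * (l * s * l⁻¹) = 1 := by
          calc (l * s * l⁻¹) * (l * s * l⁻¹) = l * (s * s) * l⁻¹ := by group
            _ = 1 := by rw [hs]; group
        rw [h4] at h6
        calc A.sp (k + k) = A.sp k * A.sp k := (A.sp_add k k).symm
          _ = (A.x 0 2 1 * A.x 0 2 1) * (A.sp k * A.sp k) := by
              rw [A.x_sq 0 2 (by decide), one_mul]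
          _ = A.x 0 2 1 * (A.x 0 2 1 * A.sp k) * A.sp k := by group
          _ = A.x 0 2 1 * (A.sp k * A.x 0 2 1) * A.sp k := by rw [A.sp_cen]
          _ = A.x 0 2 1 * A.sp k * (A.x 0 2 1 * A.sp k) := by group
          _ = 1 := h6
      have h6 : k + k = 0 := by
        have h7 : A.el ⟨0, 0, 0, k + k⟩ = A.el ⟨0, 0, 0, 0⟩ := by
          rw [A.el_sp, A.el_sp, h5, A.sp_zero]
        exact congrArg Code.k (A.inj h7)
      have h7 : k = 0 ∨ k = 2 := by
        have : ∀ k : Fin 4, k + k = 0 → k = 0 ∨ k = 2 := by decide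
        exact this k h6
      have e2 : s = l⁻¹ * (l * s * l⁻¹) * l := by group
      have e3 : ∀ m, MulAut.conj l⁻¹ m = l⁻¹ * m * l := by
        intro m
        rw [MulAut.conj_apply, inv_inv]
      rcases h7 with rfl | rfl
      · left
        rw [mapE_x, e3]
        rw [A.sp_zero, mul_one] at h4
        rw [← h4]; group
      · right
        have e4 : (Cfsg.Agent.UGT.Cov.mapE A (MulAut.conj l⁻¹)).z = MulAut.conj l⁻¹ A.z := by
          show MulAut.conj l⁻¹ A.s * MulAut.conj l⁻¹ A.s = _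
          rw [← map_mul]; rfl
        rw [e4, mapE_x, ← map_mul, e3, A.z_eq, ← h4]
        group

/-- **Coordinates adapted to an outer involutory automorphism and a fixed noncentral involution.** -/
theorem KC.adapt2 (D : KC A π b) {φ : MulAut K} (ho : ∀ k, φ ≠ MulAut.conj k) (h2 : φ * φ = 1)
    {s : K} (hs : s * s = 1) (hc : s ∉ center K) (hφs : φ s = s) :
    ∃ (A' : Cov K) (π' : K →* PSL3) (b' : MulAut K →* MulAut PSL3), KC A' π' b' ∧ A'.ty = A.ty ∧
      A'.z = A.z ∧ (∃ τ, τ ≠ (false, false) ∧ A'.IsTau τ φ) ∧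
        (s = A'.x 0 2 1 ∨ s = A'.x 0 2 1 * A'.z) := by
  obtain ⟨A₁, π₁, b₁, D₁, ht, hz, hs1⟩ := D.adapt_inv hs hc
  have h3 : φ (A₁.x 0 2 1) = A₁.x 0 2 1 := by
    rcases hs1 with h | h
    · rw [← h]; exact hφs
    · have h4 := hφs
      rw [h, map_mul, z_fix] at h4
      exact mul_right_cancel h4
  obtain ⟨x, y, w, τ, hcd⟩ := Cov.exists_cd' h3
  have hτ : τ ≠ (false, false) := by
    rintro rfl
    obtain ⟨k, hk⟩ := hcd.hasTy.inner
    exact ho k hk
  have hsq := hcd.mul hcd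
  rw [h2] at hsq
  obtain ⟨x', y', w', hq⟩ := StdL34.inv_outer A₁.ty τ x y w hτ hsq.one.2
  have hc2 := (hcd.conj ⟨x', y', w', 0⟩).of_cz hq
  set q : Code := ⟨x', y', w', 0⟩ with hqd
  refine ⟨Cfsg.Agent.UGT.Cov.mapE A₁ (MulAut.conj (A₁.el q)⁻¹), _, _, D₁.mapE _, ht, ?_, ⟨τ, hτ, ?_⟩, ?_⟩
  · show MulAut.conj (A₁.el q)⁻¹ A₁.s * MulAut.conj (A₁.el q)⁻¹ A₁.s = A.z
    rw [← map_mul, ← hz]
    exact z_fix A₁ _
  · apply mapE_isTau
    rw [map_inv, inv_inv]
    exact hc2
  · have e4 : (Cfsg.Agent.UGT.Cov.mapE A₁ (MulAut.conj (A₁.el q)⁻¹)).z = A₁.z := by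
      show MulAut.conj (A₁.el q)⁻¹ A₁.s * MulAut.conj (A₁.el q)⁻¹ A₁.s = _
      rw [← map_mul]
      exact z_fix A₁ _
    rw [e4, mapE_x]
    have e5 : MulAut.conj (A₁.el q)⁻¹ (A₁.x 0 2 1) = A₁.x 0 2 1 ∨
        MulAut.conj (A₁.el q)⁻¹ (A₁.x 0 2 1) = A₁.x 0 2 1 * A₁.z := by
      rw [MulAut.conj_apply, inv_inv, A₁.el_inv, ← A₁.el_x02, A₁.el_mul, A₁.el_mul]
      rcases conj_x02_code A₁.ty x' y' w' 0 with h | h
      · left; rw [hqd, h]
      · right; rw [hqd, h, el_x02z, A₁.el_x02]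
    have e6 := z_sq A₁
    rcases hs1 with h | h <;> rcases e5 with h' | h'
    · left; rw [h, h']
    · right; rw [h, h', mul_assoc, e6, mul_one]
    · right; rw [h, h']
    · left; rw [h, h']

end

end Cfsg.Agent.UGT.Cov
end

-- part: UGT/Cov/Res
section
/-!
# The components of the fixed points of field and graph automorphisms of `4ᵢ.L₃(4)`

`res_tau`: for `φ` of type field or graph, `J = ⁅D, D⁆`, `D = π⁻¹(C(b φ))`, is simple, `J ≤ C_K(φ) ≤ J Z(K)`,
`J ∩ Z(K) = 1`.
-/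

set_option autoImplicit false
set_option linter.constructorNameAsVariable false
set_option linter.unusedSectionVars false
set_option linter.unusedVariables false

namespace Cfsg.Agent.UGT.Cov

open Subgroup
open scoped commutatorElement

/-! ### generalities -/

section general

variable {K P : Type*} [Group K] [Group P] {π : K →* P}

theorem comm_le (D : Subgroup K) : ⁅D, D⁆ ≤ D := by
  rw [Subgroup.commutator_le]
  intro x hx y hy
  rw [commutatorElement_def]
  exact mul_mem (mul_mem (mul_mem hx hy) (inv_mem hx)) (inv_mem hy)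

theorem map_comm_comap (hsurj : Function.Surjective π) {F0 : Subgroup P} (hperf : ⁅F0, F0⁆ = F0) :
    (⁅F0.comap π, F0.comap π⁆).map π = F0 := by
  rw [Subgroup.map_commutator, Subgroup.map_comap_eq_self_of_surjective hsurj, hperf]

theorem comap_eq_sup (hsurj : Function.Surjective π) {F0 : Subgroup P} (hperf : ⁅F0, F0⁆ = F0) :
    F0.comap π ≤ ⁅F0.comap π, F0.comap π⁆ ⊔ π.ker := by
  intro d hd
  have h1 : π d ∈ (⁅F0.comap π, F0.comap π⁆).map π := by
    rw [map_comm_comap hsurj hperf]; exact hd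
  obtain ⟨j, hj, hj'⟩ := h1
  have h2 : d = j * (j⁻¹ * d) := by group
  rw [h2]
  refine mul_mem_sup hj ?_
  show π (j⁻¹ * d) = 1
  rw [map_mul, map_inv, hj', inv_mul_cancel]

theorem comm_mul_cen {x y c d : K} (hc : ∀ m, c * m = m * c) (hd : ∀ m, d * m = m * d) :
    ⁅x * c, y * d⁆ = ⁅x, y⁆ := by
  rw [commutatorElement_def, commutatorElement_def]
  calc x * c * (y * d) * (x * c)⁻¹ * (y * d)⁻¹
      = x * (c * (y * d)) * (c⁻¹ * x⁻¹) * (d⁻¹ * y⁻¹) := by group
    _ = x * (y * d * c) * (c⁻¹ * x⁻¹) * (d⁻¹ * y⁻¹) := by rw [hc]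
    _ = x * y * (d * (x⁻¹ * d⁻¹)) * y⁻¹ := by group
    _ = x * y * (x⁻¹ * d⁻¹ * d) * y⁻¹ := by rw [hd]
    _ = _ := by group

theorem comm_comm_comap (hcen : ∀ k, π k = 1 → ∀ m, k * m = m * k)
    (hsurj : Function.Surjective π) {F0 : Subgroup P} (hperf : ⁅F0, F0⁆ = F0) :
    ⁅⁅F0.comap π, F0.comap π⁆, ⁅F0.comap π, F0.comap π⁆⁆ = ⁅F0.comap π, F0.comap π⁆ := by
  apply le_antisymm
  · exact Subgroup.commutator_mono (comm_le _) (comm_le _)
  · rw [Subgroup.commutator_le]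
    intro x hx y hy
    have key : ∀ d ∈ F0.comap π, ∃ j ∈ ⁅F0.comap π, F0.comap π⁆, ∃ c, π c = 1 ∧ d = j * c := by
      intro d hd
      have h1 : π d ∈ (⁅F0.comap π, F0.comap π⁆).map π := by
        rw [map_comm_comap hsurj hperf]; exact hd
      obtain ⟨j, hj, hj'⟩ := h1
      exact ⟨j, hj, j⁻¹ * d, by rw [map_mul, map_inv, hj', inv_mul_cancel], by group⟩
    obtain ⟨j, hj, c, hc, rfl⟩ := key x hx
    obtain ⟨j', hj', c', hc', rfl⟩ := key y hy
    rw [comm_mul_cen (hcen c hc) (hcen c' hc')]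
    exact Subgroup.commutator_mem_commutator hj hj'

/-- transfer: a central 2-subgroup splitting off the Sylow 2-subgroup meets the commutator group trivially -/
theorem comm_inf_cen [Finite K] {D T Z : Subgroup K} (hTD : T ≤ D) (hodd : ¬ 2 ∣ T.relIndex D)
    {C : Type*} [CommGroup C] (ϕ : T →* C) (hZT : Z ≤ T) (hZc : ∀ z ∈ Z, ∀ m, z * m = m * z)
    (hZ2 : IsPGroup 2 Z) (hinj : ∀ z (hz : z ∈ Z), ϕ ⟨z, hZT hz⟩ = 1 → z = 1) :
    ∀ z ∈ ⁅D, D⁆, z ∈ Z → z = 1 := by
  intro z hzD hz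
  let H : Subgroup D := T.subgroupOf D
  let ϕ' : H →* C := ϕ.comp (subgroupOfEquivOfLe hTD).toMonoidHom
  have hzD' : z ∈ D := hTD (hZT hz)
  have hmem : (⟨z, hzD'⟩ : D) ∈ _root_.commutator D := by
    have h1 : (_root_.commutator D).map D.subtype = ⁅D, D⁆ := by
      rw [commutator_def, Subgroup.map_commutator, ← MonoidHom.range_eq_map, D.range_subtype]
    rw [← h1] at hzD
    obtain ⟨y, hy, hy'⟩ := hzD
    have : y = ⟨z, hzD'⟩ := Subtype.ext hy'
    rwa [← this]
  have h1 : (MonoidHom.transfer ϕ') ⟨z, hzD'⟩ = 1 :=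
    Abelianization.commutator_subset_ker (MonoidHom.transfer ϕ') hmem
  have hcenz : ∀ k : ℕ, ∀ m : K, m⁻¹ * z ^ k * m = z ^ k := by
    intro k m
    have : Commute z m := hZc z hz m
    have h2 := (this.pow_left k).eq
    rw [mul_assoc, h2, ← mul_assoc, inv_mul_cancel, one_mul]
  have key : ∀ (k : ℕ) (g₀ : D), g₀⁻¹ * (⟨z, hzD'⟩ : D) ^ k * g₀ ∈ H →
      g₀⁻¹ * (⟨z, hzD'⟩ : D) ^ k * g₀ = (⟨z, hzD'⟩ : D) ^ k := by
    intro k g₀ _
    apply Subtype.ext
    exact hcenz k g₀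
  rw [MonoidHom.transfer_eq_pow ϕ' _ key] at h1
  have h2 : z ^ H.index = 1 := by
    apply hinj (z ^ H.index) (pow_mem hz _)
    exact h1
  obtain ⟨n, hn⟩ := hZ2 ⟨z, hz⟩
  have hn' : z ^ 2 ^ n = 1 := congrArg Subtype.val hn
  have h3 : orderOf z ∣ H.index := orderOf_dvd_of_pow_eq_one h2
  have h4 : orderOf z ∣ 2 ^ n := orderOf_dvd_of_pow_eq_one hn'
  obtain ⟨m, -, hm⟩ := (Nat.dvd_prime_pow Nat.prime_two).mp h4
  rcases m with _ | m
  · exact orderOf_eq_one_iff.mp hm
  · exfalso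
    apply hodd
    refine dvd_trans ?_ h3
    rw [hm, pow_succ]
    exact dvd_mul_left _ _

end general

open Cfsg.Agent.SporadicA.FieldFour
open Cfsg.Agent.ONType.Psl (PSL3 t kap)
open Cfsg.Agent.StdL34 (Cov Code Ty cz t0 nk trF invs ctau cmul cinv cact cone elx cq)
open Cfsg.Agent.OddHalf.D9.L34Mult (CE)
open Cfsg.Agent.UGT.ThEL34 (fx mem_fx)
open Cfsg.Agent.UGT.FL34 (f0 g0 x0 isTau_f0 isTau_g0 isTau_x0 simple_f0 simple_g0 solv0)
open Cfsg.Agent.LThreeFour (datPSL)

/-- `F ∩ P̄` is a Sylow 2-subgroup of `F` -/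
theorem odd_relIndex {F0 : Subgroup PSL3} (ht : t 0 2 1 ∈ F0)
    (hZ : ∀ q ∈ F0, q ∈ datPSL.T → (∀ q' ∈ F0, q' ∈ datPSL.T → q * q' = q' * q) → ∃ c, q = t 0 2 c) :
    ¬ 2 ∣ (datPSL.T ⊓ F0).relIndex F0 := by
  have hfin : Finite PSL3 := datPSL.finite
  have hp : Fact (Nat.Prime 2) := ⟨Nat.prime_two⟩
  have hT2 : IsPGroup 2 datPSL.T := IsPGroup.of_card (n := 6) (by rw [datPSL.card_T]; norm_num)
  have hQ2 : IsPGroup 2 ((datPSL.T ⊓ F0).subgroupOf F0) := by
    refine IsPGroup.of_injective (hT2.to_le inf_le_left : IsPGroup 2 ↥(datPSL.T ⊓ F0))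
      (subgroupOfEquivOfLe (inf_le_right : datPSL.T ⊓ F0 ≤ F0)).toMonoidHom ?_
    exact (subgroupOfEquivOfLe _).injective
  obtain ⟨S, hS⟩ := hQ2.exists_le_sylow
  have htT : t 0 2 1 ∈ datPSL.T := ⟨⟨0, 0, 1⟩, datPSL.el_x02 1⟩
  have htS : (⟨t 0 2 1, ht⟩ : F0) ∈ (S : Subgroup F0) := hS ⟨htT, ht⟩
  have ht1 : t 0 2 1 ≠ 1 := by
    intro h
    have h2 : datPSL.x 0 2 1 = 1 := h
    rw [← datPSL.el_x02, datPSL.el_eq_one] at h2
    exact absurd h2 (by decide)
  have hnt : (Nontrivial (S : Subgroup F0) :) :=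
    ⟨⟨⟨_, htS⟩, 1, fun h => ht1 (congrArg (fun x => ((x : (S : Subgroup F0)) : F0).1) h)⟩⟩
  have hcnt := S.isPGroup'.center_nontrivial
  obtain ⟨⟨z, hzc⟩, hz1⟩ := exists_ne (1 : (center (S : Subgroup F0) :))
  have hcomm : ∀ x : F0, x ∈ (S : Subgroup F0) → (z : F0).1 * x.1 = x.1 * (z : F0).1 := by
    intro x hx
    have h1 := mem_center_iff.mp hzc ⟨x, hx⟩
    have h2 := congrArg (fun y : (S : Subgroup F0) => ((y : F0) : PSL3)) h1
    exact h2.symm
  have hzT : (z : F0).1 ∈ datPSL.T := by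
    rw [← Cfsg.Agent.LThreeFour.Dat.cent_x02]
    exact hcomm _ htS
  obtain ⟨c, hc⟩ := hZ _ (z : F0).2 hzT (fun q' h1 h2 => hcomm ⟨q', h1⟩ (hS ⟨h2, h1⟩))
  have hc0 : c ≠ 0 := by
    rintro rfl
    apply hz1
    apply Subtype.ext
    apply Subtype.ext
    apply Subtype.ext
    rw [show (((⟨z, hzc⟩ : center (S : Subgroup F0)) : (S : Subgroup F0)) : F0).1 = t 0 2 0 from hc,
      Cfsg.Agent.ONType.Psl.t_zero]
    rfl
  have hSQ : (S : Subgroup F0) ≤ (datPSL.T ⊓ F0).subgroupOf F0 := by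
    intro x hx
    refine ⟨?_, x.2⟩
    have h1 := hcomm x hx
    rw [hc] at h1
    exact (Cfsg.Agent.LThreeFour.Dat.cent_x02_any (A := datPSL) hc0).mp h1.symm
  have heq : (datPSL.T ⊓ F0).subgroupOf F0 = S := le_antisymm hS hSQ
  unfold Subgroup.relIndex
  rw [heq]
  exact S.not_dvd_index

/-! ### The component -/

/-- number of nonzero entries -/
def nz (u : F4) : ZMod 4 := if u = 0 then 0 else 1

/-- the central coordinate of a code of a fixed point modulo the centre -/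
def kapp (ty : Bool) (τ : Ty) (p : Code) : ZMod 4 :=
  (show ZMod 4 from p.k) + if ty && τ.1 then 2 * (nz p.a + nz p.b + nz p.c) else 0

set_option maxRecDepth 100000 in
theorem kapp_hom : ∀ (ty : Bool) (τ : Ty), (τ = (true, false) ∨ τ = (false, true)) → ∀ p : Code,
    cq (ctau ty τ p) p → ∀ q : Code, cq (ctau ty τ q) q →
      kapp ty τ (cmul ty p q) = kapp ty τ p + kapp ty τ q := by
  have key : ∀ (ty : Bool) (τ : Ty), (τ = (true, false) ∨ τ = (false, true)) → ∀ a b c : F4,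
      cq (ctau ty τ ⟨a, b, c, 0⟩) ⟨a, b, c, 0⟩ → ∀ a' b' c' : F4,
      cq (ctau ty τ ⟨a', b', c', 0⟩) ⟨a', b', c', 0⟩ →
      kapp ty τ (cmul ty ⟨a, b, c, 0⟩ ⟨a', b', c', 0⟩) =
        kapp ty τ ⟨a, b, c, 0⟩ + kapp ty τ ⟨a', b', c', 0⟩ := by
    decide +kernel
  have hq : ∀ (ty : Bool) (τ : Ty) (a b c : F4) (k : Fin 4),
      cq (ctau ty τ ⟨a, b, c, k⟩) ⟨a, b, c, k⟩ → cq (ctau ty τ ⟨a, b, c, 0⟩) ⟨a, b, c, 0⟩ := by
    rintro ty ⟨e, f⟩ a b c k h
    cases f <;> exact h
  have ar : ∀ k k' g s t X Y Z : ZMod 4, 0 + 0 - g + s + t + X = 0 + Y + (0 + Z) →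
      k + k' - g + s + t + X = k + Y + (k' + Z) := by
    intro k k' g s t X Y Z h
    linear_combination h
  rintro ty τ hτ ⟨a, b, c, k⟩ hp ⟨a', b', c', k'⟩ hp'
  exact ar k k' (StdL34.gx ty (a' * (b * b))) (StdL34.t2 (c * a')) (StdL34.t2 ((a' * b + c) * b')) _ _ _
    (key ty τ hτ a b c (hq ty τ a b c k hp) a' b' c' (hq ty τ a' b' c' k' hp'))

/-- the centre of `F ∩ P̄` -/
theorem center_code : ∀ (ty : Bool) (τ : Ty), (τ = (true, false) ∨ τ = (false, true)) → ∀ a b c : F4,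
    cq (ctau ty τ ⟨a, b, c, 0⟩) ⟨a, b, c, 0⟩ → (∀ a' b' c' : F4,
      cq (ctau ty τ ⟨a', b', c', 0⟩) ⟨a', b', c', 0⟩ →
      cq (cmul ty ⟨a, b, c, 0⟩ ⟨a', b', c', 0⟩) (cmul ty ⟨a', b', c', 0⟩ ⟨a, b, c, 0⟩)) →
      a = 0 ∧ b = 0 := by
  decide +kernel

variable {K : Type*} [Group K] {A : Cov K} {π : K →* PSL3} {b : MulAut K →* MulAut PSL3}

theorem KC.bar_tau' (D : KC A π b) {τ : Ty} {φ : MulAut K} (h : A.IsTau τ φ) :
    datPSL.IsTau (τ.1, τ.2, 0) (b φ) := by
  intro i j hij u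
  have pu0 : ∀ (e f : Bool) (i j : Fin 3) (u : F4),
    Cfsg.Agent.LThreeFour.pu (e, f, 0) i j u = StdL34.fr e u := by decide +kernel
  have h1 := congrArg π (h i j hij u)
  rw [← D.bar, D.map_x i j hij] at h1
  have h2 : b φ (t i j u) = Cfsg.Agent.LThreeFour.imgx t (τ.1, τ.2, 0) i j u := by
    rw [h1]
    unfold StdL34.imgx Cfsg.Agent.LThreeFour.imgx
    rw [pu0]
    split_ifs with hc
    · exact D.map_x _ _ (Cfsg.Agent.ONType.OuterL.rv_ne hij.symm) _
    · exact D.map_x i j hij _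
  exact h2

theorem KC.pi_sp (D : KC A π b) (k : Fin 4) : π (A.sp k) = 1 := by
  have h : A.sp k ∈ π.ker := by
    rw [D.ker, mem_center_iff]
    exact fun m => (A.sp_cen k m).symm
  exact h

theorem KC.pi_el (D : KC A π b) (p : Code) : π (A.el p) = datPSL.el ⟨p.a, p.b, p.c⟩ := by
  rw [A.el_eq, map_mul, map_mul, map_mul, D.pi_sp, mul_one, D.map_x 0 1 (by decide),
    D.map_x 1 2 (by decide), D.map_x 0 2 (by decide)]
  rfl

theorem KC.pi_el_iff (D : KC A π b) (p q : Code) : π (A.el p) = π (A.el q) ↔ cq p q := by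
  rw [D.pi_el, D.pi_el]
  constructor
  · intro h
    have h1 := datPSL.inj h
    exact ⟨congrArg LThreeFour.Code.a h1, congrArg LThreeFour.Code.b h1,
      congrArg LThreeFour.Code.c h1⟩
  · rintro ⟨h1, h2, h3⟩
    rw [h1, h2, h3]

theorem KC.of_pi (D : KC A π b) {k : K} (h : π k = 1) : ∃ m : Fin 4, k = A.sp m := by
  have h1 : MulAut.conj k = 1 := D.conj_one h
  exact Cov.conj_eq_one h1

theorem KC.exists_code (D : KC A π b) {l : K} (h : π l ∈ datPSL.T) : ∃ p, A.el p = l := by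
  obtain ⟨q, hq⟩ := h
  obtain ⟨m, hm⟩ := D.of_pi (k := (A.el ⟨q.a, q.b, q.c, 0⟩)⁻¹ * l) (by
    rw [map_mul, map_inv, D.pi_el, ← hq, inv_mul_cancel])
  refine ⟨⟨q.a, q.b, q.c, m⟩, ?_⟩
  rw [A.el_nk]
  show A.el ⟨q.a, q.b, q.c, 0⟩ * A.sp m = l
  rw [← hm, mul_inv_cancel_left]

theorem KC.fixed_code (D : KC A π b) {τ : Ty} {φ : MulAut K} (h : A.IsTau τ φ) (p : Code) :
    π (A.el p) ∈ fx (b φ) ↔ cq (ctau A.ty τ p) p := by
  rw [mem_fx, D.bar, h.el, D.pi_el_iff]

/-- the data of the component of the fixed points -/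
structure ResData (φ : MulAut K) (J : Subgroup K) : Prop where
  le : J ≤ fx φ
  simple : IsSimpleGroup J
  perf : ⁅J, J⁆ = J
  inf : ∀ j ∈ J, j ∈ center K → j = 1
  sup : fx φ ≤ J ⊔ center K
  comm : ⁅fx φ, fx φ⁆ = J
  inv : ∃ s ∈ J, s ≠ 1 ∧ s * s = 1

theorem KC.res_tau [Finite K] (D : KC A π b) {τ : Ty} (hτ : τ = (true, false) ∨ τ = (false, true))
    {φ : MulAut K} (h : A.IsTau τ φ) :
    ResData φ ⁅(fx (b φ)).comap π, (fx (b φ)).comap π⁆ ∧
      (⁅(fx (b φ)).comap π, (fx (b φ)).comap π⁆).map π = fx (b φ) ∧ IsSimpleGroup (fx (b φ)) := by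
  classical
  set F0 := fx (b φ) with hF0
  have hsimple : IsSimpleGroup F0 := by
    rcases hτ with rfl | rfl
    · rw [hF0, (D.bar_tau' h).ext isTau_f0]; exact simple_f0
    · rw [hF0, (D.bar_tau' h).ext isTau_g0]; exact simple_g0
  have htF : ∀ i j : Fin 3, (i = 0 ∧ j = 2 ∨ i = 2 ∧ j = 0) → t i j 1 ∈ F0 := by
    intro i j hij
    have h1 : i ≠ j := by
      rcases hij with ⟨rfl, rfl⟩ | ⟨rfl, rfl⟩ <;> decide
    show b φ (t i j 1) = t i j 1
    rw [← D.map_x i j h1, D.bar]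
    congr 1
    rcases hij with ⟨rfl, rfl⟩ | ⟨rfl, rfl⟩
    · rw [h.x02]
      have : ∀ e, StdL34.fr e (1 : F4) = 1 := by decide
      rw [this]
    · rw [h.x20]
      have : ∀ e, StdL34.fr e (1 : F4) = 1 := by decide
      rw [this]
  have ht02 : t 0 2 1 ∈ F0 := htF 0 2 (Or.inl ⟨rfl, rfl⟩)
  have ht20 : t 2 0 1 ∈ F0 := htF 2 0 (Or.inr ⟨rfl, rfl⟩)
  have hnc : t 0 2 1 * t 2 0 1 ≠ t 2 0 1 * t 0 2 1 := by
    intro hc
    have h1 : (t 0 2 1 * t 2 0 1) ^ (2 ^ 1) = 1 := by
      rw [pow_one, pow_two]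
      calc t 0 2 1 * t 2 0 1 * (t 0 2 1 * t 2 0 1)
          = t 0 2 1 * t 2 0 1 * (t 2 0 1 * t 0 2 1) := by rw [← hc]
        _ = t 0 2 1 * (t 2 0 1 * t 2 0 1) * t 0 2 1 := by group
        _ = 1 := by
          have e1 : t 2 0 1 * t 2 0 1 = 1 := datPSL.x_sq 2 0 (by decide) 1
          have e2 : t 0 2 1 * t 0 2 1 = 1 := datPSL.x_sq 0 2 (by decide) 1
          rw [e1, mul_one, e2]
    exact StdL34.PslCent.tt_pow_ne 1 h1
  have hperf : ⁅F0, F0⁆ = F0 := by
    have h1 : _root_.commutator F0 = ⊥ ∨ _root_.commutator F0 = ⊤ :=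
      hsimple.eq_bot_or_eq_top_of_normal _ inferInstance
    have h2 : (_root_.commutator F0).map F0.subtype = ⁅F0, F0⁆ := by
      rw [commutator_def, Subgroup.map_commutator, ← MonoidHom.range_eq_map, F0.range_subtype]
    rcases h1 with h1 | h1
    · exfalso
      apply hnc
      have h3 : ⁅(⟨t 0 2 1, ht02⟩ : F0), ⟨t 2 0 1, ht20⟩⁆ ∈ _root_.commutator F0 :=
        Subgroup.commutator_mem_commutator (mem_top _) (mem_top _)
      rw [h1, mem_bot, commutatorElement_eq_one_iff_mul_comm] at h3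
      exact congrArg Subtype.val h3
    · rw [h1, ← MonoidHom.range_eq_map, F0.range_subtype] at h2
      exact h2.symm
  -- Sylow
  have hodd : ¬ 2 ∣ (datPSL.T ⊓ F0).relIndex F0 := by
    apply odd_relIndex ht02
    intro q hq hqT hq'
    obtain ⟨k, rfl⟩ := D.ce.surj q
    obtain ⟨p, rfl⟩ := D.exists_code hqT
    have hp : cq (ctau A.ty τ ⟨p.a, p.b, p.c, 0⟩) ⟨p.a, p.b, p.c, 0⟩ := by
      rw [← D.fixed_code h, D.pi_el]
      rw [D.pi_el] at hq
      exact hq
    obtain ⟨ha, hb⟩ := center_code A.ty τ hτ p.a p.b p.c hp (by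
      intro a' b' c' hc'
      rw [← D.pi_el_iff, ← A.el_mul, ← A.el_mul, map_mul, map_mul]
      have h1 := hq' (π (A.el ⟨a', b', c', 0⟩)) ((D.fixed_code h _).mpr hc')
        (by rw [D.pi_el]; exact ⟨_, rfl⟩)
      have h2 : π (A.el ⟨p.a, p.b, p.c, 0⟩) = π (A.el p) := by rw [D.pi_el, D.pi_el]
      rw [h2]; exact h1)
    refine ⟨p.c, ?_⟩
    rw [D.pi_el, ha, hb]
    exact datPSL.el_x02 _
  have hsurj := D.ce.surj
  have hcen := D.ce.cen
  set T1 : Subgroup K := (datPSL.T ⊓ F0).comap π with hT1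
  have hT1D : T1 ≤ F0.comap π := comap_mono inf_le_right
  have hodd1 : ¬ 2 ∣ T1.relIndex (F0.comap π) := by
    rw [hT1, relIndex_comap, map_comap_eq_self_of_surjective hsurj]
    exact hodd
  have hcode : ∀ l : T1, ∃ p, A.el p = (l : K) := fun l => D.exists_code l.2.1
  choose cd hcd using hcode
  have hcdq : ∀ l : T1, cq (ctau A.ty τ (cd l)) (cd l) := by
    intro l
    rw [← D.fixed_code h, hcd]
    exact l.2.2
  let ϕ : T1 →* Multiplicative (ZMod 4) := MonoidHom.mk'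
    (fun l => Multiplicative.ofAdd (kapp A.ty τ (cd l))) (by
      intro l m
      have h1 : cd (l * m) = cmul A.ty (cd l) (cd m) := by
        apply A.inj
        rw [hcd, ← A.el_mul, hcd, hcd]; rfl
      rw [h1, kapp_hom A.ty τ hτ _ (hcdq l) _ (hcdq m), ofAdd_add])
  have hZT : π.ker ≤ T1 := by
    intro z hz
    rw [hT1, mem_comap, show π z = 1 from hz]
    exact one_mem _
  have hker1 : ∀ z ∈ ⁅F0.comap π, F0.comap π⁆, z ∈ π.ker → z = 1 := by
    refine comm_inf_cen hT1D hodd1 ϕ hZT (fun z hz => hcen z hz) D.ker2 ?_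
    intro z hz hz1
    obtain ⟨m, rfl⟩ := D.of_pi hz
    have h1 : cd ⟨A.sp m, hZT hz⟩ = ⟨0, 0, 0, m⟩ := by
      apply A.inj
      rw [hcd, A.el_sp]
    have h2 : kapp A.ty τ (cd ⟨A.sp m, hZT hz⟩) = 0 := Multiplicative.ofAdd.injective hz1
    rw [h1] at h2
    have h3 : ∀ (ty : Bool) (τ : Ty) (m : Fin 4), kapp ty τ ⟨0, 0, 0, m⟩ = 0 → m = 0 := by decide
    rw [h3 _ _ _ h2, A.sp_zero]
  have hmap := map_comm_comap hsurj hperf
  have hsup := comap_eq_sup hsurj hperf
  have hJJ := comm_comm_comap hcen hsurj hperf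
  set J := ⁅F0.comap π, F0.comap π⁆ with hJ
  have hle : J ≤ fx φ := by
    rw [hJ, Subgroup.commutator_le]
    intro x hx y hy
    have key : ∀ x ∈ F0.comap π, ∃ c, π c = 1 ∧ φ x = x * c := by
      intro x hx
      refine ⟨x⁻¹ * φ x, ?_, by group⟩
      rw [map_mul, map_inv, ← D.bar, show b φ (π x) = π x from hx, inv_mul_cancel]
    obtain ⟨c, hc, hxc⟩ := key x hx
    obtain ⟨c', hc', hyc⟩ := key y hy
    show φ ⁅x, y⁆ = ⁅x, y⁆
    rw [map_commutatorElement, hxc, hyc, comm_mul_cen (hcen c hc) (hcen c' hc')]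
  have hfxD : fx φ ≤ F0.comap π := by
    intro k hk
    show b φ (π k) = π k
    rw [D.bar, show φ k = k from hk]
  refine ⟨⟨hle, ?_, hJJ, ?_, ?_, ?_, ?_⟩, hmap, hsimple⟩
  · -- simple
    let f : J →* F0 := (π.comp J.subtype).codRestrict F0 (fun j => by
      rw [← hmap]; exact ⟨j, j.2, rfl⟩)
    have hf : Function.Bijective f := by
      constructor
      · rw [injective_iff_map_eq_one]
        intro j hj
        have h1 : π (j : K) = 1 := congrArg Subtype.val hj
        exact Subtype.ext (hker1 j j.2 h1)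
      · rintro ⟨q, hq⟩
        rw [← hmap] at hq
        obtain ⟨j, hj, rfl⟩ := hq
        exact ⟨⟨j, hj⟩, Subtype.ext rfl⟩
    have e := MulEquiv.ofBijective f hf
    exact e.isSimpleGroup
  · intro j hj hjc
    refine hker1 j hj ?_
    rw [D.ker]; exact hjc
  · refine hfxD.trans (hsup.trans ?_)
    rw [D.ker]
  · apply le_antisymm
    · exact Subgroup.commutator_mono hfxD hfxD
    · rw [← hJJ]
      exact Subgroup.commutator_mono hle hle
  · have h1 : t 0 2 1 ∈ J.map π := by rw [hmap]; exact ht02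
    obtain ⟨s, hs, hs'⟩ := h1
    refine ⟨s, hs, ?_, ?_⟩
    · rintro rfl
      rw [map_one] at hs'
      have h2 : datPSL.x 0 2 1 = 1 := hs'.symm
      rw [← datPSL.el_x02, datPSL.el_eq_one] at h2
      exact absurd h2 (by decide)
    · apply hker1 _ (mul_mem hs hs)
      show π (s * s) = 1
      rw [map_mul, hs']
      exact datPSL.x_sq 0 2 (by decide) 1

end Cfsg.Agent.UGT.Cov
end
end

-- part: UAlt/NineA
section
prune_inst 0x4d03067044522020000180012200020002000000200400001114007020b0ed0202902200048000c121002a08020050000030000504000000000000000000501208022c200937c0d0426000f803007180c00000000000000000000000000041000000000000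
set_option linter.all false
open scoped Cfsg.Agent.FastGrp

-- part: UAlt/PKDef
section
/-!
# The package for the closing argument, degree at least nine; the type conditions

`PK M` and `Mod.Rt` are in `Cfsg.Agent.UAlt.Frame`; `PKE M` is the same package for `9 ≤ |Γ|`.
-/

set_option autoImplicit false

namespace Cfsg.Agent.UAlt

open Cfsg Subgroup
open Cfsg.Agent.Intrinsic.Basic Cfsg.Agent.UGT.Triple

/-- the package for the closing argument, `9 ≤ |Γ|` -/
structure PKE {G : Type*} [Group G] {α : Type*} [Fintype α] [DecidableEq α] {B : Subgroup G} {Γ : Finset α}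
    (M : Mod B Γ) : Prop where
  h9 : 9 ≤ Γ.card
  cent : ∀ u, M.Rt u → centralizer ({u} : Set G) ≤ normalizer (B : Set G)
  core : ∀ u, M.Rt u → core B ⊓ centralizer ({u} : Set G) = core (centralizer ({u} : Set G))
  comp : ∀ u, M.Rt u → IsComp (centralizer ({u} : Set G)) (M.cmp u)

theorem PK.toE {G : Type*} [Group G] {α : Type*} [Fintype α] [DecidableEq α] {B : Subgroup G}
    {Γ : Finset α} {M : Mod B Γ} (P : PK M) : PKE M where
  h9 := by have := P.h13; omega
  cent := P.cent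
  core := P.core
  comp := P.comp

/-- no unbalancing triple `(u, t, J)` with `u ∈ J` for which `C_J(u)` has a 2-component of type `A_k` -/
def NoType (G : Type*) [Group G] (k : ℕ) : Prop :=
  ∀ (u t : G) (J I : Subgroup G), IsTriple u t J → u ∈ J → IsComp (J ⊓ centralizer ({u} : Set G)) I →
    ¬ AltType I k

/-- no unbalancing triple `(u, t, J)` for which `C_J(u)` has a 2-component of type `A_k`, `k ≥ 9` -/
def NoBig (G : Type*) [Group G] : Prop :=
  ∀ (u t : G) (J I : Subgroup G), IsTriple u t J → IsComp (J ⊓ centralizer ({u} : Set G)) I →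
    ∀ k, 9 ≤ k → ¬ AltType I k

theorem NoBig.noType {G : Type*} [Group G] (h : NoBig G) {k : ℕ} (hk : 9 ≤ k) : NoType G k :=
  fun u t J I T _ hI => h u t J I T hI k hk

end Cfsg.Agent.UAlt
end

-- part: UAlt/SmallHom
section
/-!
# Homomorphisms of alternating 2-components into small groups are trivial
-/

set_option autoImplicit false
set_option linter.unusedSectionVars false

namespace Cfsg.Agent.UAlt

open Cfsg Equiv Equiv.Perm Subgroup
open Cfsg.Agent.Intrinsic.Basic Cfsg.Agent.Intrinsic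
open Cfsg.Agent.SignalizersComponents Cfsg.Agent.Lib
open Cfsg.Agent.SignalizersComponents.IntrinsicBasic
open scoped commutatorElement

variable {G : Type*} [Group G] [Finite G] {α : Type*} [Fintype α] [DecidableEq α]
  {D : Subgroup G} {S : Finset α}

/-- if `D = O^{2'}(D)` and the kernel of `f` covers `D / O(D)`, then `f` is trivial -/
theorem Mod.hom_eq_one_of_cover (M : Mod D S) (hD : PComponents.pElem 2 D = D) {H : Type*} [Group H]
    (f : ↥D →* H) (hf : ∀ σ ∈ alt S, ∃ x : ↥D, f x = 1 ∧ M.φ x = σ) (x : ↥D) : f x = 1 := by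
  have key : D ≤ f.ker.map D.subtype := by
    refine hD.ge.trans ((Subgroup.closure_le _).mpr ?_)
    rintro y ⟨hy, n, hn⟩
    obtain ⟨k, hk, hky⟩ := hf (M.φ y) (M.mem_alt y hy)
    have h1 : (k : G)⁻¹ * y ∈ core D := (M.eq_iff k.2 hy).mp hky
    have h2 : k⁻¹ * (⟨y, hy⟩ : ↥D) ∈ oddCore ↥D := by
      have h3 := (mem_core_iff (mul_mem (inv_mem k.2) hy)).mp h1
      exact h3
    refine ⟨⟨y, hy⟩, ?_, rfl⟩
    show (⟨y, hy⟩ : ↥D) ∈ f.ker
    rw [MonoidHom.mem_ker]
    have h3 : f ⟨y, hy⟩ = f (k⁻¹ * ⟨y, hy⟩) := by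
      rw [map_mul, map_inv, hk, inv_one, one_mul]
    -- the right hand side has odd order
    have h4 : Odd (orderOf (k⁻¹ * (⟨y, hy⟩ : ↥D))) := by
      have h5 : Odd (Nat.card (oddCore ↥D)) := by
        have h6 := odd_card_core D
        rwa [core, Subgroup.card_map_of_injective D.subtype_injective] at h6
      exact Odd.of_dvd_nat h5 (Subgroup.orderOf_dvd_natCard _ h2)
    have h5 : orderOf (f ⟨y, hy⟩) ∣ orderOf (k⁻¹ * (⟨y, hy⟩ : ↥D)) := by
      rw [h3]; exact orderOf_map_dvd f _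
    have h6 : orderOf (f ⟨y, hy⟩) ∣ 2 ^ n := by
      apply orderOf_dvd_of_pow_eq_one
      rw [← map_pow]
      have : (⟨y, hy⟩ : ↥D) ^ 2 ^ n = 1 := Subtype.ext hn
      rw [this, map_one]
    have h7 : Nat.Coprime (2 ^ n) (orderOf (k⁻¹ * (⟨y, hy⟩ : ↥D))) :=
      Nat.Coprime.pow_left n h4.coprime_two_left
    exact orderOf_eq_one_iff.mp (Nat.eq_one_of_dvd_coprimes h7 h6 h5)
  obtain ⟨y, hy, hyx⟩ := key x.2
  have : y = x := Subtype.ext hyx
  rw [← this]
  exact hy

/-- **(f4)** homomorphisms of `D`, `D / O(D) ≅ Alt(S)`, into smaller groups are trivial -/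
theorem Mod.hom_eq_one (M : Mod D S) (hD : PComponents.pElem 2 D = D) {H : Type*} [Group H]
    [Finite H] (f : ↥D →* H) (hH : Nat.card H < Nat.card (alt S)) (x : ↥D) : f x = 1 := by
  have hsim := isSimpleGroup_alt M.five
  have hn : (f.ker.map M.homK).Normal := (inferInstance : f.ker.Normal).map _ M.homK_surjective
  rcases hsim.eq_bot_or_eq_top_of_normal _ hn with h | h
  · exfalso
    have h1 : f.ker ≤ M.homK.ker := (Subgroup.map_eq_bot_iff _).mp h
    have h2 : Nat.card (alt S) ≤ Nat.card H := by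
      have h3 : Nat.card (↥D ⧸ M.homK.ker) = Nat.card (alt S) := Nat.card_congr
        (QuotientGroup.quotientKerEquivOfSurjective _ M.homK_surjective).toEquiv
      have h4 : Nat.card (↥D ⧸ f.ker) ≤ Nat.card H := by
        rw [Nat.card_congr (QuotientGroup.quotientKerEquivRange f).toEquiv]
        exact Subgroup.card_le_card_group _
      have h5 : Nat.card (↥D ⧸ M.homK.ker) ≤ Nat.card (↥D ⧸ f.ker) := by
        have h6 : M.homK.ker.index ∣ f.ker.index := Subgroup.index_dvd_of_le h1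
        exact Nat.le_of_dvd (Nat.pos_of_ne_zero f.ker.index_ne_zero_of_finite) h6
      omega
    omega
  · refine M.hom_eq_one_of_cover hD f (fun σ hσ => ?_) x
    have h1 : (⟨σ, hσ⟩ : alt S) ∈ f.ker.map M.homK := by rw [h]; trivial
    obtain ⟨y, hy, hyσ⟩ := h1
    exact ⟨y, hy, congrArg Subtype.val hyσ⟩

/-- no nontrivial action on fewer points -/
theorem Mod.hom_perm_eq_one (M : Mod D S) (hD : PComponents.pElem 2 D = D) {β : Type*} [Fintype β]
    [DecidableEq β] (hβ : Fintype.card β < S.card) (f : ↥D →* Perm β) (x : ↥D) : f x = 1 := by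
  apply M.hom_eq_one hD f
  rw [Nat.card_perm, Nat.card_eq_fintype_card]
  have h5 := M.five
  have h1 := card_alt (S := S) (by omega)
  have h2 : (Fintype.card β).factorial ≤ (S.card - 1).factorial := Nat.factorial_le (by omega)
  have h3 : S.card.factorial = S.card * (S.card - 1).factorial := by
    rw [← Nat.mul_factorial_pred (by omega : S.card ≠ 0)]
  have h4 : 0 < (S.card - 1).factorial := Nat.factorial_pos _
  rw [h3] at h1
  nlinarith

/-- an action on `S'`, `|S'| ≤ |S|`, preserving a nonempty proper subset is trivial -/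
theorem Mod.hom_sym_eq_one (M : Mod D S) (hD : PComponents.pElem 2 D = D) {β : Type*} [Fintype β]
    [DecidableEq β] {S' T : Finset β} (hS' : S'.card ≤ S.card) (hTS : T ⊆ S') (hT : T.Nonempty)
    (hT' : T ≠ S') (f : ↥D →* Perm β) (hf : ∀ x, f x ∈ sym S') (hfT : ∀ x, ∀ y ∈ T, f x y ∈ T)
    (x : ↥D) : f x = 1 := by
  have hTcard : T.card < S'.card := Finset.card_lt_card (Finset.ssubset_iff_subset_ne.mpr ⟨hTS, hT'⟩)
  have hTpos : 0 < T.card := Finset.card_pos.mpr hT
  have hmem : ∀ x y, f x y ∈ T ↔ y ∈ T := by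
    intro x y
    refine ⟨fun h => ?_, hfT x y⟩
    have := hfT x⁻¹ _ h
    simpa using this
  have hS'' : ∀ x y, f x y ∈ S' ↔ y ∈ S' := fun x y => mem_iff_of_mem_sym (hf x)
  -- the action on `T`
  let f₁ : ↥D →* Perm T :=
    { toFun := fun x => (f x).subtypePerm (p := fun y => y ∈ T) (fun y => hmem x y)
      map_one' := by
        apply Equiv.ext
        intro y
        apply Subtype.ext
        show f 1 (y : β) = y
        rw [map_one]; rfl
      map_mul' := fun x x' => by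
        apply Equiv.ext
        intro y
        apply Subtype.ext
        show f (x * x') (y : β) = f x (f x' y)
        rw [map_mul]; rfl }
  let f₂ : ↥D →* Perm ↥(S' \ T) :=
    { toFun := fun x => (f x).subtypePerm (p := fun y => y ∈ S' \ T) (fun y => by
        rw [Finset.mem_sdiff, Finset.mem_sdiff, hmem, hS''])
      map_one' := by
        apply Equiv.ext
        intro y
        apply Subtype.ext
        show f 1 (y : β) = y
        rw [map_one]; rfl
      map_mul' := fun x x' => by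
        apply Equiv.ext
        intro y
        apply Subtype.ext
        show f (x * x') (y : β) = f x (f x' y)
        rw [map_mul]; rfl }
  have h1 : f₁ x = 1 := M.hom_perm_eq_one hD (by rw [Fintype.card_coe]; omega) f₁ x
  have h2 : f₂ x = 1 := M.hom_perm_eq_one hD (by
    rw [Fintype.card_coe, Finset.card_sdiff_of_subset hTS]; omega) f₂ x
  ext y
  by_cases hy : y ∈ S'
  · by_cases hy' : y ∈ T
    · have := congrArg (fun g : Perm T => ((g ⟨y, hy'⟩ : T) : β)) h1
      exact this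
    · have := congrArg (fun g : Perm ↥(S' \ T) =>
        ((g ⟨y, Finset.mem_sdiff.mpr ⟨hy, hy'⟩⟩ : ↥(S' \ T)) : β)) h2
      exact this
  · exact hf x y hy

/-- **(f4')** an action on `S'`, `|S'| ≤ |S|`, commuting with a permutation `τ ≠ 1` of `S'` which has a fixed
point in `S'` is trivial -/
theorem Mod.hom_eq_one_of_comm (M : Mod D S) (hD : PComponents.pElem 2 D = D) {β : Type*}
    [Fintype β] [DecidableEq β] {S' : Finset β} (hS' : S'.card ≤ S.card) {τ : Perm β}
    (hτ : τ ∈ sym S') (hτ1 : τ ≠ 1) (hfix : (fixIn S' τ).Nonempty) (f : ↥D →* Perm β)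
    (hf : ∀ x, f x ∈ sym S') (hc : ∀ x, f x * τ = τ * f x) (x : ↥D) : f x = 1 := by
  refine M.hom_sym_eq_one hD hS' (fixIn_subset S' τ) hfix ?_ f hf (fun x y hy => ?_) x
  · intro h
    apply hτ1
    ext y
    by_cases hy : y ∈ S'
    · rw [← h] at hy
      exact (mem_fixIn.mp hy).2
    · exact hτ y hy
  · exact (apply_mem_fixIn (fun y => mem_iff_of_mem_sym (hf x)) (hc x)).mpr hy

end Cfsg.Agent.UAlt
end

-- part: UAlt/NineA
section
/-!
# Section (9): basic facts about roots; Claim T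

* `card_fixIn`, `rt_conj`, `rt_cj`, `exists_conj_root`;
* `pk_cj`: the conjugates of a package;
* `cent_le_cmp`: `C(u) ≤ N(K_u)`;
* `claim_T`: `u` a root of `B` trivial on `B'`, `t ∈ B'` an involution commuting with `u`: `t` is trivial on `B`.
-/

set_option autoImplicit false
set_option linter.unusedSectionVars false

namespace Cfsg.Agent.UAlt.Nine

open Cfsg Equiv Equiv.Perm Subgroup
open Cfsg.Agent.Intrinsic.Basic Cfsg.Agent.Intrinsic Cfsg.Agent.Intrinsic.Diag
open Cfsg.Agent.SignalizersComponents Cfsg.Agent.Lib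
open Cfsg.Agent.SignalizersComponents.IntrinsicBasic
open Cfsg.Agent.StdAlt.Roots (IsRoot)
open Cfsg.Agent.UAlt Cfsg.Agent.UAlt.PermPK
open scoped commutatorElement

variable {G : Type*} [Group G] {α : Type*} [Fintype α] [DecidableEq α]
variable {B B' : Subgroup G} {S S' : Finset α} {M : Mod B S} {M' : Mod B' S'}

theorem root_ne_one {σ : Perm α} (h : IsRoot σ) : σ ≠ 1 := by
  rintro rfl
  have := h.2
  simp at this

theorem card_fixIn {σ : Perm α} (hS : σ ∈ sym S) (h : IsRoot σ) : (fixIn S σ).card + 4 = S.card := by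
  have h1 : fixIn S σ = S \ σ.support := by
    ext x
    rw [mem_fixIn, Finset.mem_sdiff, mem_support, not_not]
  have h2 : σ.support ⊆ S := by
    intro x hx
    by_contra hn
    exact mem_support.mp hx (hS x hn)
  rw [h1, Finset.card_sdiff_of_subset h2, h.2]
  have := Finset.card_le_card h2
  rw [h.2] at this
  omega

theorem pow21 {u : G} (h : u * u = 1) : u ^ 2 ^ 1 = 1 := by rw [pow_one, pow_two]; exact h

theorem comm_inv {u v : G} (h : u * v = v * u) : u * v⁻¹ = v⁻¹ * u := by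
  rw [eq_inv_mul_iff_mul_eq, ← mul_assoc, ← h, mul_inv_cancel_right]

theorem mem_cent {u v : G} : v ∈ centralizer ({u} : Set G) ↔ v * u = u * v :=
  mem_centralizer_singleton_iff

theorem rt_norm {u : G} (h : M.Rt u) : u ∈ normalizer (B : Set G) := le_normalizer h.1

theorem rt_ne_one {u : G} (h : M.Rt u) : u ≠ 1 := by
  rintro rfl
  exact root_ne_one h.2.2 M.one

theorem rt_order {u : G} (h : M.Rt u) : orderOf u = 2 :=
  orderOf_eq_prime (by rw [pow_two]; exact h.2.1) (rt_ne_one h)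

theorem rt_mem_alt {u : G} (h : M.Rt u) : M.φ u ∈ alt S := M.mem_alt _ h.1

theorem rt_conj {u g : G} (h : M.Rt u) (hg : g ∈ normalizer (B : Set G)) : M.Rt (g * u * g⁻¹) := by
  refine ⟨(mem_normalizer_iff.mp hg u).mp h.1, ?_, ?_⟩
  · rw [show g * u * g⁻¹ * (g * u * g⁻¹) = g * (u * u) * g⁻¹ by group, h.2.1]; group
  · rw [M.conj hg (le_normalizer h.1)]
    exact h.2.2.conj _

theorem rt_cj {u : G} (h : M.Rt u) (g : G) : (M.cj g).Rt (g * u * g⁻¹) := by
  refine ⟨conj_mem_cj h.1, ?_, ?_⟩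
  · rw [show g * u * g⁻¹ * (g * u * g⁻¹) = g * (u * u) * g⁻¹ by group, h.2.1]; group
  · rw [Mod.cj_φ, show g⁻¹ * (g * u * g⁻¹) * g = u by group]
    exact h.2.2

theorem rt_of_cj {v g : G} (h : (M.cj g).Rt v) : M.Rt (g⁻¹ * v * g) := by
  refine ⟨mem_cj.mp h.1, ?_, h.2.2⟩
  rw [show g⁻¹ * v * g * (g⁻¹ * v * g) = g⁻¹ * (v * v) * g by group, h.2.1]; group

section finite

variable [Finite G]

/-- roots are conjugate in `B` -/
theorem exists_conj_root (h6 : 6 ≤ S.card) {u v : G} (hu : M.Rt u) (hv : M.Rt v) :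
    ∃ b ∈ B, b * u * b⁻¹ = v := by
  obtain ⟨c, hc, h1⟩ := exists_conj_in h6 (rt_mem_alt hu) (rt_mem_alt hv) hu.2.2 hv.2.2
  obtain ⟨k, hk, rfl⟩ := M.lift c hc
  have hkN := le_normalizer (H := B) hk
  have h2 : M.Rt (k * u * k⁻¹) := rt_conj hu hkN
  have h3 : M.φ (k * u * k⁻¹) = M.φ v := by rw [M.conj hkN (rt_norm hu)]; exact h1
  have h4 := (M.eq_iff h2.1 hv.1).mp h3
  obtain ⟨o, ho, h5⟩ := Lifting.exists_conj_eq (odd_card_core B) (pow21 h2.2.1) (pow21 hv.2.1)
    (normalizer_le_normalizer_core B (rt_norm h2)) h4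
  refine ⟨o * k, mul_mem (core_le B ho) hk, ?_⟩
  rw [← h5]; group

/-- roots of a given label -/
theorem exists_rt {t : G} (ht : t ∈ normalizer (B : Set G)) (htt : t * t = 1) {σ : Perm α}
    (hσ : σ ∈ alt S) (hr : IsRoot σ) (hc : M.φ t * σ = σ * M.φ t) :
    ∃ v, M.Rt v ∧ t * v = v * t ∧ M.φ v = σ := by
  obtain ⟨k, hk, hkk, htk, h⟩ := M.exists_inv_lift ht (pow21 htt) hσ hr.1 hc
  exact ⟨k, ⟨hk, hkk, by rw [h]; exact hr⟩, htk, h⟩

/-- conjugates of a package -/
theorem pk_cj (P : PKE M) (g : G) : PKE (M.cj g) where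
  h9 := P.h9
  cent := by
    intro v hv x hx
    have h1 := rt_of_cj hv
    have h2 : g⁻¹ * x * g ∈ centralizer ({g⁻¹ * v * g} : Set G) := by
      rw [mem_cent] at hx ⊢
      rw [show g⁻¹ * x * g * (g⁻¹ * v * g) = g⁻¹ * (x * v) * g by group, hx]; group
    have h3 := mem_normalizer_iff_cj.mp (P.cent _ h1 h2)
    rw [mem_normalizer_iff_cj]
    calc cj x (cj g B) = cj g (cj (g⁻¹ * x * g) B) := by
          rw [← IntrinsicBasic.cj_mul, ← IntrinsicBasic.cj_mul]; congr 1; group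
      _ = cj g B := by rw [h3]
  core := by
    intro v hv
    have h1 := P.core _ (rt_of_cj hv)
    have h2 := congrArg (cj g) h1
    rw [cj_inf, ← core_cj, ← core_cj, cj_centralizer] at h2
    rw [show g * (g⁻¹ * v * g) * g⁻¹ = v by group] at h2
    exact h2
  comp := by
    intro v hv
    have hu := rt_of_cj hv
    have h1 := (P.comp _ hu).cj g
    rw [cj_centralizer, show g * (g⁻¹ * v * g) * g⁻¹ = v by group] at h1
    have h2 : cj g (M.cmp (g⁻¹ * v * g)) ≤ cj g B := cj_mono (M.cmp_le _)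
    have h3 := h1.restrict (M := cj g B ⊓ centralizer ({v} : Set G)) inf_le_right
      (le_inf h2 h1.le)
    have h4 := ((M.cj g).isComp_iff_cmp (le_normalizer hv.1) hv.2.1).mp h3
    rw [← h4.1]
    exact h1

/-- `C(u)` normalizes `K_u` -/
theorem cent_le_cmp (P : PKE M) {u : G} (hu : M.Rt u) :
    centralizer ({u} : Set G) ≤ normalizer (M.cmp u : Set G) := by
  intro x hx
  have h1 := isComp_cj_of_mem (P.comp u hu) hx
  have h2 : cj x (M.cmp u) ≤ B := by
    have h3 : cj x B = B := mem_normalizer_iff_cj.mp (P.cent u hu hx)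
    calc cj x (M.cmp u) ≤ cj x B := cj_mono (M.cmp_le _)
      _ = B := h3
  have h3 := h1.restrict (M := B ⊓ centralizer ({u} : Set G)) inf_le_right (le_inf h2 h1.le)
  exact mem_normalizer_iff_cj.mpr ((M.isComp_iff_cmp (rt_norm hu) hu.2.1).mp h3).1

theorem fixIn_one (T : Finset α) : fixIn T (1 : Perm α) = T := by
  ext x
  rw [mem_fixIn]
  exact ⟨fun h => h.1, fun h => ⟨h, rfl⟩⟩

/-- **Claim T** -/
theorem claim_T (h7 : 7 ≤ S'.card) (hS : S.card ≤ S'.card) (h5 : 5 ≤ S.card) {u : G} (hu : M.Rt u)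
    (hcent : centralizer ({u} : Set G) ≤ normalizer (B : Set G))
    (huB : u ∈ normalizer (B' : Set G)) (hu' : M'.φ u = 1) {t : G} (ht : t ∈ B') (htt : t * t = 1)
    (hut : u * t = t * u) : M.φ t = 1 := by
  have hfix : fixIn S' (M'.φ u) = S' := by rw [hu', fixIn_one]
  obtain ⟨MD, hMD⟩ := M'.exists_cmp huB hu.2.1 (by rw [hfix]; exact h7)
  have hD := (M'.isComp_cmp huB hu.2.1 (by rw [hfix]; omega)).pElem_eq
  have hle : M'.cmp u ≤ normalizer (B : Set G) := fun x hx =>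
    hcent (mem_cent.mpr (M'.cmp_comm hx).symm)
  have htD : t ∈ M'.cmp u := M'.mem_cmp ht hut (by rw [hfix]; exact M'.mem_alt _ ht) (pow21 htt)
  have hcard := card_fixIn (M.mem_sym u (rt_norm hu)) hu.2.2
  exact MD.hom_eq_one_of_comm hD (S' := S) (τ := M.φ u) (by rw [hfix]; exact hS)
    (M.mem_sym u (rt_norm hu)) (root_ne_one hu.2.2) (Finset.card_pos.mp (by omega))
    (M.hom.comp (Subgroup.inclusion hle)) (fun x => M.mem_sym _ (hle x.2))
    (fun x => M.comm (hle x.2) (rt_norm hu) (M'.cmp_comm x.2).symm) ⟨t, htD⟩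

/-- a perfect group acts trivially on an invariant set of at most four points -/
theorem perfect_fix {K : Subgroup G} (hK : ⁅K, K⁆ = K) (f : ↥K →* Perm α) {T : Finset α}
    (hT : T.card ≤ 4) (hinv : ∀ x, ∀ y ∈ T, f x y ∈ T) (x : ↥K) {y : α} (hy : y ∈ T) : f x y = y := by
  have hmem : ∀ x y, f x y ∈ T ↔ y ∈ T := by
    intro x y
    refine ⟨fun h => ?_, hinv x y⟩
    have := hinv x⁻¹ _ h
    simpa using this
  let f₁ : ↥K →* Perm T :=
    { toFun := fun x => (f x).subtypePerm (p := fun y => y ∈ T) (fun y => hmem x y)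
      map_one' := by
        apply Equiv.ext
        intro y
        apply Subtype.ext
        show f 1 (y : α) = y
        rw [map_one]; rfl
      map_mul' := fun x x' => by
        apply Equiv.ext
        intro y
        apply Subtype.ext
        show f (x * x') (y : α) = f x (f x' y)
        rw [map_mul]; rfl }
  have hs : Group.IsSolvable (Perm T) := Schreier.Tools.isSolvable_perm_of_card_le_four T (by
    rw [Nat.card_eq_fintype_card, Fintype.card_coe]; exact hT)
  have h1 : f₁.range = ⊥ := by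
    by_contra hne
    refine not_solvable_of_perfect (E := f₁.range) ?_ hne inferInstance
    have h2 : ⁅(⊤ : Subgroup ↥K), (⊤ : Subgroup ↥K)⁆ = ⊤ := by
      apply Subgroup.map_injective K.subtype_injective
      rw [Subgroup.map_commutator, ← MonoidHom.range_eq_map, Subgroup.range_subtype]
      exact hK
    rw [MonoidHom.range_eq_map, ← Subgroup.map_commutator, h2]
  have h2 : f₁ x = 1 := by
    have h3 : f₁ x ∈ f₁.range := ⟨x, rfl⟩
    rw [h1] at h3
    exact mem_bot.mp h3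
  exact congrArg (fun g : Perm T => ((g ⟨y, hy⟩ : T) : α)) h2

/-- elements trivial on the fixed points of `u` fix `K_u` -/
theorem fixes_cmp (P : PKE M) {u t : G} (hu : M.Rt u) (ht : t ∈ centralizer ({u} : Set G))
    (h : ∀ p ∈ fixIn S (M.φ u), M.φ t p = p) : Fixes t (M.cmp u) := by
  have htN := cent_le_cmp P hu ht
  have htB := P.cent u hu ht
  refine ⟨htN, fun m hm => ?_⟩
  have hmB := M.cmp_le u hm
  have hmC : m ∈ centralizer ({u} : Set G) := mem_cent.mpr (M.cmp_comm hm).symm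
  have hmA := M.cmp_mem_alt hm
  have e1 : M.φ t * M.φ m = M.φ m * M.φ t := by
    ext p
    rw [Perm.mul_apply, Perm.mul_apply]
    by_cases hp : p ∈ fixIn S (M.φ u)
    · rw [h p hp, h _ (mem_of_mem_sym (alt_le_sym _ hmA) hp)]
    · rw [hmA.2 p hp]
      symm
      apply hmA.2
      intro hq
      have h2 := h _ hq
      have h3 := (M.φ t).injective h2
      rw [h3] at hq
      exact hp hq
  have h1 : ⁅t, m⁆ ∈ M.cmp u := by
    rw [commutatorElement_def]
    exact mul_mem ((mem_normalizer_iff.mp htN m).mp hm) (inv_mem hm)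
  have h2 : ⁅t, m⁆ ∈ core B := by
    rw [← M.core_iff _ (M.cmp_le u h1), commutatorElement_def,
      M.mul _ _ (mul_mem (mul_mem htB (le_normalizer hmB)) (inv_mem htB)) (inv_mem (le_normalizer hmB)),
      M.conj htB (le_normalizer hmB), M.inv (le_normalizer hmB), mul_inv_eq_one, mul_inv_eq_iff_eq_mul]
    exact e1
  rw [(P.comp u hu).core_eq, ← P.core u hu]
  exact ⟨h1, h2, (P.comp u hu).le h1⟩

/-- if `t` is trivial on `K` then `cmp t` is the 2-part of the centralizer -/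
theorem cmp_eq_cen {K : Subgroup G} {T : Finset α} (M : Mod K T) {t : G} (h : M.φ t = 1) :
    M.cmp t = Cen.cen K t := by
  have h1 : M.pre t = K ⊓ centralizer ({t} : Set G) := by
    ext x
    rw [M.mem_pre, mem_inf, mem_cent, h, fixIn_one]
    exact ⟨fun ⟨a, b, _⟩ => ⟨a, b.symm⟩, fun ⟨a, b⟩ => ⟨a, b.symm, M.mem_alt x a⟩⟩
  rw [Mod.cmp, h1]
  rfl

/-- the Klein four-group generated by commuting involutions -/
def kl (s t : G) (hs : s * s = 1) (ht : t * t = 1) (hst : s * t = t * s) : Subgroup G where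
  carrier := {x | x = 1 ∨ x = s ∨ x = t ∨ x = s * t}
  one_mem' := Or.inl rfl
  mul_mem' := by
    have e1 : s * (s * t) = t := by rw [← mul_assoc, hs, one_mul]
    have e2 : t * (s * t) = s := by rw [hst, ← mul_assoc, ht, one_mul]
    have e3 : s * t * s = t := by rw [mul_assoc, ← hst, e1]
    have e4 : s * t * t = s := by rw [mul_assoc, ht, mul_one]
    have e5 : s * t * (s * t) = 1 := by rw [mul_assoc, e2, hs]
    rintro x y (rfl | rfl | rfl | rfl) (rfl | rfl | rfl | rfl) <;>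
      simp only [Set.mem_setOf_eq, one_mul, mul_one, hs, ht, hst.symm, e1, e2, e3, e4, e5, true_or,
        or_true]
  inv_mem' := by
    have hi : s⁻¹ = s := inv_eq_of_mul_eq_one_left hs
    have hi' : t⁻¹ = t := inv_eq_of_mul_eq_one_left ht
    rintro x (rfl | rfl | rfl | rfl)
    · left; exact inv_one
    · right; left; exact hi
    · right; right; left; exact hi'
    · right; right; right
      rw [mul_inv_rev, hi, hi', hst]

/-- lifting of an involution commuting with two commuting involutions -/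
theorem exists_inv_lift2 (M : Mod B S) {s t : G} (hsN : s ∈ normalizer (B : Set G))
    (htN : t ∈ normalizer (B : Set G)) (hs : s * s = 1) (ht : t * t = 1) (hst : s * t = t * s)
    {σ : Perm α} (hσ : σ ∈ alt S) (hσσ : σ * σ = 1) (h1 : M.φ s * σ = σ * M.φ s)
    (h2 : M.φ t * σ = σ * M.φ t) :
    ∃ k ∈ B, k * k = 1 ∧ s * k = k * s ∧ t * k = k * t ∧ M.φ k = σ := by
  have hPG : IsPGroup 2 (kl s t hs ht hst) := by
    rintro ⟨x, hx⟩
    refine ⟨1, Subtype.ext ?_⟩
    show x ^ 2 ^ 1 = 1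
    rw [pow_one, pow_two]
    rcases hx with rfl | rfl | rfl | rfl
    · exact mul_one 1
    · exact hs
    · exact ht
    · rw [show s * t * (s * t) = s * (t * s) * t by group, ← hst]
      rw [show s * (s * t) * t = (s * s) * (t * t) by group, hs, ht, one_mul]
  have hPN : kl s t hs ht hst ≤ normalizer (B : Set G) := by
    rintro x (rfl | rfl | rfl | rfl)
    · exact one_mem _
    · exact hsN
    · exact htN
    · exact mul_mem hsN htN
  obtain ⟨k, hk, hc, hkσ⟩ := M.exists_fix_lift hPG hPN hσ (by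
    rintro x (rfl | rfl | rfl | rfl)
    · rw [M.one, one_mul, mul_one]
    · exact h1
    · exact h2
    · rw [M.mul _ _ hsN htN, mul_assoc, h2, ← mul_assoc, h1, mul_assoc])
  have hkN := le_normalizer (H := B) hk
  have hkk : k ^ 2 ^ 1 ∈ core B := by
    rw [← M.core_iff _ (pow_mem hk _), M.pow hkN, hkσ, pow_one, pow_two]
    exact hσσ
  obtain ⟨j, h3, h4⟩ := Lifting.exists_two_part (odd_card_core B) hkk
  refine ⟨k ^ j, pow_mem hk j, ?_, ?_, ?_, ?_⟩
  · rw [pow_one, pow_two] at h3; exact h3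
  · exact (Commute.pow_right (show Commute s k from (hc s (Or.inr (Or.inl rfl))).symm) j)
  · exact (Commute.pow_right (show Commute t k from (hc t (Or.inr (Or.inr (Or.inl rfl)))).symm) j)
  · rw [← hkσ]
    exact ((M.eq_iff hk (pow_mem hk j)).mpr h4).symm

end finite

end Cfsg.Agent.UAlt.Nine
end

private theorem dce_1b56e32fcba7 : _root_.True := by
  try have : _root_.True := by simp only [_root_.Cfsg.Agent.UAlt.Mod.cmp.eq_1]
  exact _root_.True.intro
end

-- part: UAlt/PKQuot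
section
set_option linter.all false
open scoped Cfsg.Agent.FastGrp

/-!
# Labellings from a homomorphism of an alternating group into `N(W) / W`

* `QD W q`: `q` is the quotient map of `N(W)` modulo `W`.
* `exists_mod`: an injective homomorphism `f : alt Γ → N(W) / W` gives a subgroup `B` with labelling by `Γ`.
-/

set_option autoImplicit false
set_option linter.unusedSectionVars false

open Cfsg Equiv Equiv.Perm Subgroup
open Cfsg.Agent.Intrinsic.Basic Cfsg.Agent.Intrinsic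
open Cfsg.Agent.SignalizersComponents Cfsg.Agent.Lib
open Cfsg.Agent.SignalizersComponents.IntrinsicBasic
open Cfsg.Agent.StdAlt.Roots (IsRoot)
open scoped commutatorElement

namespace Cfsg.Agent.UAlt.PKQuot

open Cfsg.Agent.UAlt.Glue

variable {G : Type*} [Group G] {α : Type*} [Fintype α] [DecidableEq α]

/-- `q` is the quotient map of `N(W)` modulo `W` -/
structure QD (W : Subgroup G) {Q : Type*} [Group Q] (q : G → Q) : Prop where
  mul : ∀ x ∈ normalizer (W : Set G), ∀ y ∈ normalizer (W : Set G), q (x * y) = q x * q y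
  one_iff : ∀ x ∈ normalizer (W : Set G), q x = 1 ↔ x ∈ W
  surj : ∀ z, ∃ x ∈ normalizer (W : Set G), q x = z

theorem exists_QD.{u} {G : Type u} [Group G] (W : Subgroup G) :
    ∃ (Q : Type u) (_ : Group Q) (q : G → Q), QD W q := by
  classical
  have hn : (W.subgroupOf (normalizer (W : Set G))).Normal :=
    normal_subgroupOf_of_le_normalizer le_rfl
  refine ⟨↥(normalizer (W : Set G)) ⧸ W.subgroupOf (normalizer (W : Set G)), inferInstance,
    fun x => if h : x ∈ normalizer (W : Set G) then QuotientGroup.mk' _ ⟨x, h⟩ else 1, ⟨?_, ?_, ?_⟩⟩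
  · intro x hx y hy
    rw [dif_pos (mul_mem hx hy), dif_pos hx, dif_pos hy, ← map_mul]
    rfl
  · intro x hx
    rw [dif_pos hx]
    exact (QuotientGroup.eq_one_iff _).trans Iff.rfl
  · intro z
    obtain ⟨⟨x, hx⟩, rfl⟩ := QuotientGroup.mk'_surjective _ z
    exact ⟨x, hx, dif_pos hx⟩

namespace QD

variable {W : Subgroup G} {Q : Type*} [Group Q] {q : G → Q} (hq : QD W q)
include hq

theorem one : q 1 = 1 := (hq.one_iff 1 (one_mem _)).2 (one_mem _)

theorem inv {x : G} (hx : x ∈ normalizer (W : Set G)) : q x⁻¹ = (q x)⁻¹ := by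
  have := hq.mul x⁻¹ (inv_mem hx) x hx
  rw [inv_mul_cancel, hq.one] at this
  exact eq_inv_of_mul_eq_one_left this.symm

theorem conj {x y : G} (hx : x ∈ normalizer (W : Set G)) (hy : y ∈ normalizer (W : Set G)) :
    q (x * y * x⁻¹) = q x * q y * (q x)⁻¹ := by
  rw [hq.mul _ (mul_mem hx hy) _ (inv_mem hx), hq.mul _ hx _ hy, hq.inv hx]

theorem eq_iff {x y : G} (hx : x ∈ normalizer (W : Set G)) (hy : y ∈ normalizer (W : Set G)) :
    q x = q y ↔ x⁻¹ * y ∈ W := by
  rw [← hq.one_iff _ (mul_mem (inv_mem hx) hy), hq.mul _ (inv_mem hx) _ hy, hq.inv hx, inv_mul_eq_one]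

theorem comm_iff {x y : G} (hx : x ∈ normalizer (W : Set G)) (hy : y ∈ normalizer (W : Set G)) :
    q x * q y = q y * q x ↔ ⁅x, y⁆ ∈ W := by
  rw [commutatorElement_def, ← hq.one_iff _ (mul_mem (mul_mem (mul_mem hx hy) (inv_mem hx)) (inv_mem hy)),
    hq.mul _ (mul_mem (mul_mem hx hy) (inv_mem hx)) _ (inv_mem hy), hq.conj hx hy, hq.inv hy,
    mul_inv_eq_one, mul_inv_eq_iff_eq_mul]

theorem pow {x : G} (hx : x ∈ normalizer (W : Set G)) (n : ℕ) : q (x ^ n) = q x ^ n := by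
  induction n with
  | zero => rw [pow_zero, pow_zero, hq.one]
  | succ n ih => rw [pow_succ, pow_succ, hq.mul _ (pow_mem hx n) _ hx, ih]

/-- the function on labels induced by `q` -/
theorem exists_kappa {K : Subgroup G} {S : Finset α} (M : Mod K S) (hKN : K ≤ normalizer (W : Set G))
    (hKW : core K ≤ W) : ∃ κ : Perm α → Q, (∀ k ∈ K, κ (M.φ k) = q k) ∧ MulOn S κ := by
  classical
  have hch : ∀ σ : Perm α, ∃ z : Q, ∀ k ∈ K, M.φ k = σ → q k = z := by
    intro σ
    by_cases h : ∃ k ∈ K, M.φ k = σ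
    · obtain ⟨k, hk, hkσ⟩ := h
      refine ⟨q k, fun k' hk' hk'σ => ?_⟩
      rw [hq.eq_iff (hKN hk') (hKN hk)]
      apply hKW
      rw [← M.eq_iff hk' hk, hkσ, hk'σ]
    · exact ⟨1, fun k hk hkσ => absurd ⟨k, hk, hkσ⟩ h⟩
  choose κ hκ using hch
  refine ⟨κ, fun k hk => (hκ _ k hk rfl).symm, ?_⟩
  intro σ hσ τ hτ
  obtain ⟨k, hk, rfl⟩ := M.lift σ hσ
  obtain ⟨l, hl, rfl⟩ := M.lift τ hτ
  rw [← hκ _ k hk rfl, ← hκ _ l hl rfl, ← hq.mul _ (hKN hk) _ (hKN hl)]
  exact (hκ _ (k * l) (mul_mem hk hl) (M.mul _ _ (le_normalizer hk) (le_normalizer hl))).symm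

/-- **a subgroup with labelling** from an injective homomorphism `f : alt Γ → N(W) / W` -/
theorem exists_mod [Finite G] (hW : Odd (Nat.card W)) {Γ : Finset α} (h7 : 7 ≤ Γ.card) {f : Perm α → Q}
    (hf : MulOn Γ f) (hinj : ∀ σ ∈ alt Γ, f σ = 1 → σ = 1) :
    ∃ (B : Subgroup G) (MB : Mod B Γ), W ≤ B ∧ B ≤ normalizer (W : Set G) ∧ core B = W ∧
      (∀ b ∈ B, f (MB.φ b) = q b) ∧
      ∀ b ∈ normalizer (W : Set G), ∀ σ ∈ alt Γ, f σ = q b → b ∈ B ∧ MB.φ b = σ := by
  classical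
  have hinj2 : ∀ σ ∈ alt Γ, ∀ τ ∈ alt Γ, f σ = f τ → σ = τ := by
    intro σ hσ τ hτ h
    have h1 : f (σ⁻¹ * τ) = 1 := by
      rw [hf _ (inv_mem hσ) _ hτ, hf.inv hσ, h, inv_mul_cancel]
    exact inv_mul_eq_one.1 (hinj _ (mul_mem (inv_mem hσ) hτ) h1)
  let B : Subgroup G :=
    { carrier := {b | b ∈ normalizer (W : Set G) ∧ ∃ σ ∈ alt Γ, f σ = q b}
      mul_mem' := by
        rintro a b ⟨ha, σ, hσ, h1⟩ ⟨hb, τ, hτ, h2⟩
        exact ⟨mul_mem ha hb, σ * τ, mul_mem hσ hτ, by rw [hf σ hσ τ hτ, h1, h2, hq.mul a ha b hb]⟩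
      one_mem' := ⟨one_mem _, 1, one_mem _, by rw [hf.one, hq.one]⟩
      inv_mem' := by
        rintro a ⟨ha, σ, hσ, h1⟩
        exact ⟨inv_mem ha, σ⁻¹, inv_mem hσ, by rw [hf.inv hσ, h1, hq.inv ha]⟩ }
  have hBN : B ≤ normalizer (W : Set G) := fun b hb => hb.1
  have hWB : W ≤ B := fun w hw => ⟨le_normalizer hw, 1, one_mem _, by
    rw [hf.one, (hq.one_iff w (le_normalizer hw)).2 hw]⟩
  have hch : ∀ b : ↥B, ∃ σ ∈ alt Γ, f σ = q b := fun b => b.2.2
  choose ε hε1 hε2 using hch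
  let E : ↥B →* Perm α :=
    { toFun := ε
      map_one' := by
        apply hinj2 _ (hε1 _) _ (one_mem _)
        rw [hε2, hf.one]
        exact hq.one
      map_mul' := by
        intro a b
        apply hinj2 _ (hε1 _) _ (mul_mem (hε1 _) (hε1 _))
        rw [hε2, hf _ (hε1 _) _ (hε1 _), hε2, hε2]
        exact hq.mul _ (hBN a.2) _ (hBN b.2) }
  have hEker : E.ker = W.subgroupOf B := by
    ext b
    rw [MonoidHom.mem_ker, mem_subgroupOf, ← hq.one_iff _ (hBN b.2), ← hε2]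
    exact ⟨fun h => by
      change ε b = 1 at h
      rw [h, hf.one], fun h => hinj _ (hε1 b) h⟩
  have hErange : E.range = alt Γ := by
    ext σ
    constructor
    · rintro ⟨b, rfl⟩; exact hε1 b
    · intro hσ
      obtain ⟨x, hx, hxσ⟩ := hq.surj (f σ)
      refine ⟨⟨x, hx, σ, hσ, hxσ.symm⟩, ?_⟩
      apply hinj2 _ (hε1 _) _ hσ
      rw [hε2]
      exact hxσ
  have hWn : (W.subgroupOf B).Normal := by rw [← hEker]; infer_instance
  have hodd : Odd (Nat.card (W.subgroupOf B)) := by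
    rw [Nat.card_congr (subgroupOfEquivOfLe hWB).toEquiv]; exact hW
  have hcore : E.ker = oddCore ↥B := by
    rw [hEker]
    apply le_antisymm
    · exact Cores.le_pPrimeCore hWn (Nat.coprime_two_right.mpr hodd)
    · -- the image of the core is an odd normal subgroup of `alt Γ`
      intro x hx
      rw [← hEker, MonoidHom.mem_ker]
      have h1 : (oddCore ↥B).map E = ⊥ := by
        refine eq_bot_of_no_inv (S := Γ) (by omega) ?_ ?_ ?_
        · rintro _ ⟨y, -, rfl⟩
          exact hε1 y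
        · intro σ hσ
          rw [← hErange] at hσ
          obtain ⟨k, rfl⟩ := hσ
          have h2 : (oddCore ↥B).Normal := Cores.pPrimeCore_normal 2
          rw [mem_normalizer_iff_map_conj_eq]
          rw [Subgroup.map_map]
          have e1 : ((MulAut.conj (E k) : Perm α ≃* Perm α) : Perm α →* Perm α).comp E =
              E.comp ((MulAut.conj k : ↥B ≃* ↥B) : ↥B →* ↥B) := by
            ext1 y
            show E k * E y * (E k)⁻¹ = E (k * y * k⁻¹)
            rw [map_mul, map_mul, map_inv]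
          rw [e1, ← Subgroup.map_map]
          congr 1
          exact mem_normalizer_iff_map_conj_eq.1 (normalizer_eq_top_iff.2 h2 ▸ mem_top k)
        · rintro _ ⟨y, hy, rfl⟩ h2
          have h4 : Odd (Nat.card (oddCore ↥B)) := by
            have := odd_card_core B
            rwa [core, Subgroup.card_map_of_injective (Subgroup.subtype_injective _)] at this
          have h5 : Odd (orderOf y) := Odd.of_dvd_nat h4 (Subgroup.orderOf_dvd_natCard _ hy)
          have h6 : Odd (orderOf (E y)) := Odd.of_dvd_nat h5 (orderOf_map_dvd E y)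
          have h7 : orderOf (E y) ∣ 2 := orderOf_dvd_of_pow_eq_one (by rw [pow_two]; exact h2)
          rcases (Nat.dvd_prime Nat.prime_two).mp h7 with h8 | h8
          · exact orderOf_eq_one_iff.mp h8
          · rw [h8] at h6
            exact absurd h6 (by decide)
      have h2 : E x ∈ (oddCore ↥B).map E := ⟨x, hx, rfl⟩
      rw [h1] at h2
      exact mem_bot.mp h2
  obtain ⟨MB, hMB⟩ := Mod.exists_of_hom (K := B) (S := Γ) h7 E hErange hcore
  have hval : ∀ b ∈ B, f (MB.φ b) = q b := by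
    intro b hb
    have := hMB ⟨b, hb⟩
    rw [show MB.φ b = ε ⟨b, hb⟩ from this, hε2]
  refine ⟨B, MB, hWB, hBN, ?_, hval, ?_⟩
  · rw [core, ← hcore, hEker, map_subgroupOf_eq_of_le hWB]
  · intro b hb σ hσ h
    have hbB : b ∈ B := ⟨hb, σ, hσ, h⟩
    refine ⟨hbB, ?_⟩
    apply hinj2 _ (MB.mem_alt b hbB) _ hσ
    rw [hval b hbB, h]

end QD

end Cfsg.Agent.UAlt.PKQuot
end

-- part: UGT/EndK4_mg
section
prune_inst 0x4c0002204000000000000000000003c4282000000000800000000000004808c0000020020b00000000000200400380040020000400000000000000000011800800000800080080000000006000004000000000000000000000000000000000000000000000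
set_option linter.all false
open scoped Cfsg.Agent.FastGrp

-- part: UGT/EndNode
section
/-!
# Ends of the Unbalanced Group Theorem: locally balanced groups (helper128)

`not_minCex`: `F*(G)` locally balanced (in particular `AutCoreFree`) ⇒ `G` is not a minimal counterexample.
-/

set_option autoImplicit false

open Cfsg Subgroup

namespace Cfsg.Agent.UGT.EndNode

open Cfsg.Agent.UGT.Iface Cfsg.Agent.UGT.EndBase

universe u v

theorem not_minCex {G : Type u} [Group G] [Finite G] (h : IsLocallyBalanced ↥(generalizedFittingSubgroup G)) :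
    ¬ MinCex G := by
  intro hG
  obtain ⟨t, ht, hne⟩ := hG.unbal
  exact hne (Cfsg.Agent.FixBN.BRelative.core_eq_bot hG.simple hG.nonab h ht)

end Cfsg.Agent.UGT.EndNode
end

-- part: UGT/EndMTwelve
section
/-!
# UGT END(M12): `M₁₂` is locally balanced (oddjob 44; helper128)

`autCoreFree`, `locallyBalanced` : for every `X ≅ M₁₂` and all involutions of `Aut X`, `O(C(t)) = 1`.
-/

set_option autoImplicit false

open Cfsg Subgroup

namespace Cfsg.Agent.UGT.EndMTwelve

open Cfsg.Agent.UGT.EndBase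
open Cfsg.Agent.CoThreeStd.MTwelve hiding cj
open Cfsg.Agent.CoThreeStd.InvTwo Cfsg.Agent.CoThreeStd.OutAut Cfsg.Agent.CoThreeStd.OddCent
open Cfsg.Agent.OddHalf.Table.OutMTwelve (al al_mul_al mem_or_mem)

universe u

theorem center_bot : center H = ⊥ := by
  rw [eq_bot_iff]
  intro z hz
  rw [mem_center_iff] at hz
  obtain ⟨σ, h | h⟩ := cent_y z (hz y).symm
  · have h1 : ∀ τ, σ * τ = τ * σ := by
      intro τ
      apply w_injective
      rw [map_mul, map_mul, ← h]
      exact (hz (w τ)).symm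
    rw [mem_bot, h, Cfsg.Agent.CoThreeStd.MTwelve.perm5_central σ h1, map_one]
  · have h1 : ∀ τ, σ * τ = τ * σ := by
      intro τ
      apply w_injective
      have h2 := hz (w τ)
      rw [h] at h2
      rw [map_mul, map_mul]
      have h3 : y * (w τ * w σ) = y * (w σ * w τ) := by
        rw [← mul_assoc, ← mul_assoc, y_comm τ, mul_assoc, h2]
      exact (mul_left_cancel h3).symm
    have h2 := Cfsg.Agent.CoThreeStd.MTwelve.perm5_central σ h1
    rw [h2, map_one, mul_one] at h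
    -- `y` is not central
    exfalso
    have h3 := hz b
    rw [h, ← wd_y, ← wd_b, ← wd_append, ← wd_append] at h3
    exact wd_ne 0 (by decide) (by decide +kernel) h3

theorem autCoreFree : AutCoreFree H := by
  have hal : ∀ x, al x = alpha x := fun _ => rfl
  apply autCoreFree_of_pow 1
  · intro φ
    rcases mem_or_mem φ with h | ⟨x, hx⟩
    · exact pow_mem h _
    · have h1 : φ = al * MulAut.conj x := by rw [hx, ← mul_assoc, al_mul_al, one_mul]
      refine ⟨alpha x * x, ?_⟩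
      rw [h1, pow_one, pow_two]
      apply MulEquiv.ext
      intro u
      simp only [MulAut.mul_apply, MulAut.conj_apply, map_mul, map_inv, hal, alpha_alpha, mul_inv_rev, mul_assoc]
  · intro σ hσ
    have hσ2 : σ * σ = 1 := by rw [← pow_two, ← hσ, pow_orderOf_eq_one]
    have hσ1 : σ ≠ 1 := by
      rintro rfl
      rw [orderOf_one] at hσ
      exact absurd hσ (by decide)
    rcases mem_or_mem σ with ⟨t, rfl⟩ | ⟨x, hx⟩
    · apply noOdd_conj
      intro Y hY hc hn
      have h1 : t * t = 1 := by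
        apply conj_inj center_bot
        rw [map_mul, map_one]
        exact hσ2
      have h2 : t ≠ 1 := by
        rintro rfl
        exact hσ1 (map_one _)
      exact odd_cent h1 h2 Y hY hc hn
    · have h1 : σ = al * MulAut.conj x := by rw [hx, ← mul_assoc, al_mul_al, one_mul]
      -- `σ u = alpha x * alpha u * (alpha x)⁻¹`
      have h2 : ∀ u, σ u = alpha x * alpha u * (alpha x)⁻¹ := by
        intro u
        rw [h1, MulAut.mul_apply, MulAut.conj_apply, hal, map_mul, map_mul, map_inv]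
      have h3 : alpha x * x = 1 := by
        apply conj_inj center_bot
        rw [map_one]
        apply MulEquiv.ext
        intro u
        have h4 := congrArg (fun f : MulAut H => f u) hσ2
        simp only [MulAut.mul_apply, MulAut.one_apply] at h4
        rw [h2, h2, map_mul, map_mul, map_inv, alpha_alpha, alpha_alpha] at h4
        rw [MulAut.conj_apply, MulAut.one_apply]
        calc alpha x * x * u * (alpha x * x)⁻¹ = alpha x * (x * u * x⁻¹) * (alpha x)⁻¹ := by group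
          _ = u := h4
      have h4 : alpha x = x⁻¹ := (eq_inv_of_mul_eq_one_left h3 :)
      intro Y hY hc hn
      refine odd_outer h3 Y hY ?_ ?_
      · intro z hz
        have h5 := hc z hz
        rwa [h2, h4, inv_inv] at h5
      · intro g hg z hz
        apply hn g _ z hz
        rw [h2, h4, inv_inv]
        exact hg

/-- **`M₁₂` is locally balanced.** -/
theorem locallyBalanced {X : Type u} [Group X] (e : X ≃* Spor.M12) : IsLocallyBalanced X := by
  have : Finite X := Finite.of_equiv _ e.symm.toEquiv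
  have hc : center X = ⊥ := by
    rw [eq_bot_iff]
    intro z hz
    rw [mem_center_iff] at hz
    have h1 : e z ∈ center H := by
      rw [mem_center_iff]
      intro g
      obtain ⟨g, rfl⟩ := e.surjective g
      rw [← map_mul, ← map_mul, hz]
    rw [center_bot, mem_bot] at h1
    rw [mem_bot]
    exact e.injective (by rw [h1, map_one])
  exact (autCoreFree.congr e.symm).locallyBalanced hc

end Cfsg.Agent.UGT.EndMTwelve
end

-- part: UGT/C/LocBal
section
/-!
# A criterion for `O(C_A(x)) = 1`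

`x` is an involution of the finite group `A`, `⟨z₁, z₂⟩ ≤ C_A(x)` is a four-group such that for each of its
involutions `z` there is a 2-subgroup `Q` normalised by `C_A(z)` which is centralised by no element of odd order.
-/

set_option autoImplicit false

namespace Cfsg.Agent.UGT.C.LocBal

open Subgroup

variable {A : Type*} [Group A]

/-- the local condition at the involution `z` -/
structure Loc (z : A) (Q : Subgroup A) : Prop where
  pg : IsPGroup 2 Q
  norm : ∀ c, c * z = z * c → c ∈ normalizer (Q : Set A)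
  cent : ∀ c ∈ centralizer (Q : Set A), Odd (orderOf c) → c = 1

theorem Loc.conj {z : A} {Q : Subgroup A} (h : Loc z Q) (g : A) :
    Loc (g * z * g⁻¹) (Q.map (MulAut.conj g).toMonoidHom) := by
  refine ⟨h.pg.map _, fun c hc => ?_, fun c hc ho => ?_⟩
  · have h1 := h.norm (g⁻¹ * c * g) (by
      calc g⁻¹ * c * g * z = g⁻¹ * (c * (g * z * g⁻¹)) * g := by group
        _ = z * (g⁻¹ * c * g) := by rw [hc]; group)
    rw [mem_normalizer_iff] at h1 ⊢
    intro y
    have e : ∀ y, y ∈ Q.map (MulAut.conj g).toMonoidHom ↔ g⁻¹ * y * g ∈ Q := by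
      intro y
      constructor
      · rintro ⟨w, hw, rfl⟩
        have : g⁻¹ * (MulAut.conj g).toMonoidHom w * g = w := by
          show g⁻¹ * (g * w * g⁻¹) * g = w
          group
        rw [this]; exact hw
      · intro hy
        refine ⟨_, hy, ?_⟩
        show g * (g⁻¹ * y * g) * g⁻¹ = y
        group
    rw [e, e, h1 (g⁻¹ * y * g)]
    have : g⁻¹ * c * g * (g⁻¹ * y * g) * (g⁻¹ * c * g)⁻¹ = g⁻¹ * (c * y * c⁻¹) * g := by group
    rw [this]
  · have h1 : g⁻¹ * c * g ∈ centralizer (Q : Set A) := by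
      rw [mem_centralizer_iff]
      intro q hq
      have h2 := mem_centralizer_iff.1 hc (g * q * g⁻¹) ⟨q, hq, rfl⟩
      calc q * (g⁻¹ * c * g) = g⁻¹ * (g * q * g⁻¹ * c) * g := by group
        _ = g⁻¹ * c * g * q := by rw [h2]; group
    have h3 := h.cent _ h1 (by
      have : orderOf (g⁻¹ * c * g) = orderOf c := by
        have := orderOf_injective (MulAut.conj g⁻¹).toMonoidHom (MulAut.conj g⁻¹).injective c
        rw [← this]
        show _ = orderOf (g⁻¹ * c * g⁻¹⁻¹)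
        rw [inv_inv]
      rw [this]; exact ho)
    calc c = g * (g⁻¹ * c * g) * g⁻¹ := by group
      _ = 1 := by rw [h3]; group

variable [Finite A]

/-- Thompson's `A × B` lemma: no element of `C_D(z)`. -/
theorem Loc.eq_one {z x : A} {Q D : Subgroup A} (h : Loc z Q) (hx : x * x = 1) (hxz : x * z = z * x)
    (hD : ¬ 2 ∣ Nat.card D) (hDx : ∀ d ∈ D, d * x = x * d)
    (hn : ∀ c, c * x = x * c → ∀ d ∈ D, c * d * c⁻¹ ∈ D) {d : A} (hd : d ∈ D) (hdz : d * z = z * d) :
    d = 1 := by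
  have : Fact (Nat.Prime 2) := ⟨Nat.prime_two⟩
  have hodd : Odd (orderOf d) := by
    have h1 : orderOf d ∣ Nat.card D := by
      have := _root_.orderOf_dvd_natCard (⟨d, hd⟩ : D)
      rwa [Subgroup.orderOf_mk] at this
    rw [← Nat.not_even_iff_odd, even_iff_two_dvd]
    exact fun h2 => hD (h2.trans h1)
  have hxp : IsPGroup 2 (zpowers x) := by
    rw [IsPGroup.iff_card]
    rcases eq_or_ne x 1 with rfl | h1
    · exact ⟨0, by simp⟩
    · exact ⟨1, by rw [Nat.card_zpowers, pow_one]; exact orderOf_eq_prime (by rw [pow_two, hx]) h1⟩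
  have hdn := h.norm d hdz
  have hcent : zpowers d ≤ centralizer (Q : Set A) := by
    refine Lib.ThompsonPQ.thompson_p_times_q 2 (zpowers x) (zpowers d) Q hxp ?_ h.pg ?_ ?_ ?_ ?_
    · rw [Nat.card_zpowers]
      exact Nat.coprime_two_right.2 hodd
    · rw [zpowers_le, mem_centralizer_iff]
      intro y hy
      obtain ⟨k, rfl⟩ := mem_zpowers_iff.1 hy
      have : Commute d x := hDx d hd
      exact (this.zpow_left k)
    · rw [zpowers_le]
      exact h.norm x hxz
    · rw [zpowers_le]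
      exact hdn
    · intro u hu
      obtain ⟨hu1, hu2⟩ := mem_inf.1 hu
      have hux : u * x = x * u := (mem_centralizer_iff.1 hu2 x (mem_zpowers x)).symm
      -- the commutator
      have h1 : d * u * d⁻¹ * u⁻¹ ∈ Q := mul_mem ((mem_normalizer_iff.1 hdn u).1 hu1) (inv_mem hu1)
      have h2 : d * u * d⁻¹ * u⁻¹ ∈ D := by
        have := mul_mem hd (hn u hux _ (inv_mem hd))
        rwa [← mul_assoc, ← mul_assoc] at this
      have h3 : d * u * d⁻¹ * u⁻¹ = 1 := by
        obtain ⟨k, hk⟩ := (IsPGroup.iff_orderOf.1 h.pg) ⟨_, h1⟩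
        rw [Subgroup.orderOf_mk] at hk
        have h4 : orderOf (d * u * d⁻¹ * u⁻¹) ∣ Nat.card D := by
          have := _root_.orderOf_dvd_natCard (⟨_, h2⟩ : D)
          rwa [Subgroup.orderOf_mk] at this
        rw [hk] at h4
        rcases k with _ | k
        · exact orderOf_eq_one_iff.1 (by rw [hk, pow_zero])
        · exact absurd ((Dvd.intro_left _ (pow_succ 2 k).symm).trans h4) hD
      have h5 : d * u = u * d := by
        have := mul_inv_eq_one.1 h3
        exact (mul_inv_eq_iff_eq_mul.1 this)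
      rw [mem_centralizer_iff]
      intro y hy
      obtain ⟨k, rfl⟩ := mem_zpowers_iff.1 hy
      have : Commute d u := h5
      exact (this.zpow_left k)
  exact h.cent d (hcent (mem_zpowers d)) hodd

/-- **The criterion.** -/
theorem core_eq_bot {x z₁ z₂ : A} {Q₁ Q₂ Q₃ : Subgroup A} (hx : x * x = 1) (h1 : z₁ * z₁ = 1) (h2 : z₂ * z₂ = 1)
    (h12 : z₁ * z₂ = z₂ * z₁) (hx1 : x * z₁ = z₁ * x) (hx2 : x * z₂ = z₂ * x) (hQ1 : Loc z₁ Q₁) (hQ2 : Loc z₂ Q₂)
    (hQ3 : Loc (z₁ * z₂) Q₃) : Cfsg.centralizerPPrimeCore 2 x = ⊥ := by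
  have : Fact (Nat.Prime 2) := ⟨Nat.prime_two⟩
  set D := Cfsg.centralizerPPrimeCore 2 x with hDdef
  have hD : ¬ 2 ∣ Nat.card D := Lib.CoreCent.core_card 2 x
  have hDx : ∀ d ∈ D, d * x = x * d := fun d hd =>
    (mem_centralizer_singleton_iff.1 (Lib.CoreCent.core_le 2 x hd))
  have hn : ∀ c, c * x = x * c → ∀ d ∈ D, c * d * c⁻¹ ∈ D := fun c hc d hd =>
    (mem_normalizer_iff.1 (Lib.CoreCent.core_normalized 2 x (mem_centralizer_singleton_iff.2 hc)) d).1 hd
  have hodd : Odd (Nat.card D) := by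
    rw [← Nat.not_even_iff_odd, even_iff_two_dvd]; exact hD
  have hx3 : x * (z₁ * z₂) = z₁ * z₂ * x := by rw [← mul_assoc, hx1, mul_assoc, hx2, mul_assoc]
  rw [eq_bot_iff]
  refine Lib.KleinGen.le_of_klein D ⊥ hodd z₁ z₂ h1 h2 h12 (hn z₁ hx1.symm) (hn z₂ hx2.symm) ?_ ?_ ?_
  · intro d hd
    obtain ⟨hd1, hd2⟩ := mem_inf.1 hd
    exact mem_bot.2 (hQ1.eq_one hx hx1 hD hDx hn hd1 (mem_centralizer_singleton_iff.1 hd2))
  · intro d hd
    obtain ⟨hd1, hd2⟩ := mem_inf.1 hd
    exact mem_bot.2 (hQ2.eq_one hx hx2 hD hDx hn hd1 (mem_centralizer_singleton_iff.1 hd2))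
  · intro d hd
    obtain ⟨hd1, hd2⟩ := mem_inf.1 hd
    exact mem_bot.2 (hQ3.eq_one hx hx3 hD hDx hn hd1 (mem_centralizer_singleton_iff.1 hd2))

end Cfsg.Agent.UGT.C.LocBal
end

-- part: UGT/End/RankOneTI
section
/-!
# Groups with TI Sylow 2-subgroups, doubly transitive on them: no cores

`X` normal in `G` with trivial centralizer, the Sylow 2-subgroups of `X` are TI, each of them is transitive on
the others, the action of `X` on them is faithful, and every automorphism of order 2 which normalises a Sylow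
2-subgroup centralises a four-group in it.  Then `O(C_G(x)) = 1` for every involution `x` of `G`.
-/

set_option autoImplicit false

namespace Cfsg.Agent.UGT.End.RankOneTI

open Subgroup Pointwise

/-- TI Sylow 2-subgroups; each is transitive on the others; faithful action. -/
structure TISyl (X : Type*) [Group X] : Prop where
  ti : ∀ S T : Sylow 2 X, ∀ x ∈ S, x ∈ T → x ≠ 1 → S = T
  trans : ∀ S T U : Sylow 2 X, T ≠ S → U ≠ S → ∃ s ∈ S, s • T = U
  faith : ∀ g : X, (∀ T : Sylow 2 X, g • T = T) → g = 1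

/-- every automorphism of order at most 2 normalising a Sylow 2-subgroup fixes a four-group of it -/
def FixFour (X : Type*) [Group X] : Prop :=
  ∀ φ : MulAut X, φ * φ = 1 → ∀ S : Sylow 2 X, φ • S = S →
    ∃ u v : X, u ∈ S ∧ v ∈ S ∧ u ≠ 1 ∧ v ≠ 1 ∧ u ≠ v ∧ u * u = 1 ∧ v * v = 1 ∧ u * v = v * u ∧
      φ u = u ∧ φ v = v

section aut

variable {X : Type*} [Group X]

theorem mem_smul_sylow {φ : MulAut X} {S : Sylow 2 X} {x : X} (hx : x ∈ S) : φ x ∈ φ • S := by
  have h1 : φ • x ∈ φ • (S : Subgroup X) := Subgroup.smul_mem_pointwise_smul x φ _ hx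
  exact h1

theorem smul_conj (φ : MulAut X) (g : X) : φ * MulAut.conj g = MulAut.conj (φ g) * φ := by
  ext x
  simp only [MulAut.mul_apply, MulAut.conj_apply, map_mul, map_inv, _root_.MulAut.mul_apply, _root_.MulAut.conj_apply, _root_.map_mul, _root_.map_inv]

theorem smul_eq_of_cent [Finite X] (h : TISyl X) {S : Sylow 2 X} {φ : MulAut X} (ho : Odd (orderOf φ))
    (hS : ∀ s ∈ S, φ s = s) (T : Sylow 2 X) : φ • T = T := by
  have : Fact (Nat.Prime 2) := ⟨Nat.prime_two⟩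
  have hSS : φ • S = S := by
    apply Sylow.ext
    rw [Sylow.pointwise_smul_def]
    ext x
    rw [Subgroup.mem_pointwise_smul_iff_inv_smul_mem]
    constructor
    · intro hx
      have h1 := hS _ hx
      have h2 : φ (φ⁻¹ • x) = x := by
        show φ (φ⁻¹ x) = x
        rw [← MulAut.mul_apply, mul_inv_cancel, MulAut.one_apply]
      rw [h2] at h1
      rw [h1]; exact hx
    · intro hx
      have h1 : φ⁻¹ • x = x := by
        show φ⁻¹ x = x
        have := hS x hx
        nth_rewrite 1 [← this]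
        rw [← MulAut.mul_apply, inv_mul_cancel, MulAut.one_apply]
      rw [h1]; exact hx
  by_cases hT : T = S
  · rw [hT, hSS]
  have hφT : φ • T ≠ S := by
    intro h1
    exact hT (smul_left_cancel φ (h1.trans hSS.symm))
  obtain ⟨s, hs, hsT⟩ := h.trans S T _ hT hφT
  have hcomm : Commute φ (MulAut.conj s) := by
    have := smul_conj φ s
    rw [hS s hs] at this
    exact this
  have hpow : ∀ k : ℕ, φ ^ k • T = (MulAut.conj s) ^ k • T := by
    intro k
    induction k with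
    | zero => simp
    | succ k ih =>
      rw [pow_succ', mul_smul, ih, ← mul_smul, (hcomm.pow_right k).eq, mul_smul, ← hsT,
        Sylow.smul_def, ← mul_smul, ← pow_succ]
  obtain ⟨m, hm⟩ : ∃ m : ℕ, s ^ 2 ^ m = 1 := by
    obtain ⟨m, hm⟩ := S.isPGroup' ⟨s, hs⟩
    exact ⟨m, by simpa only [_root_.SubmonoidClass.mk_pow, _root_.OneMemClass.coe_one] using congrArg Subtype.val hm⟩
  have h1 : φ ^ 2 ^ m • T = T := by
    rw [hpow, ← map_pow, hm, map_one, one_smul]
  obtain ⟨k, hk⟩ := exists_pow_eq_self_of_coprime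
    (Nat.Coprime.pow_left m (Nat.coprime_two_left.mpr ho))
  have h2 : (φ ^ 2 ^ m) ^ k • T = T := by
    have : φ ^ 2 ^ m ∈ MulAction.stabilizer (MulAut X) T := h1
    exact pow_mem this k
  rwa [hk] at h2

theorem eq_one_of_cent [Finite X] (h : TISyl X) {S : Sylow 2 X} {φ : MulAut X} (ho : Odd (orderOf φ))
    (hS : ∀ s ∈ S, φ s = s) : φ = 1 := by
  have hfix := smul_eq_of_cent h ho hS
  ext g
  rw [MulAut.one_apply]
  have h1 : ∀ T : Sylow 2 X, (g⁻¹ * φ g) • T = T := by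
    intro T
    have h2 : MulAut.conj (φ g) • φ • T = φ • MulAut.conj g • T := by
      rw [← mul_smul, ← mul_smul, smul_conj]
    rw [hfix, hfix] at h2
    rw [mul_smul, inv_smul_eq_iff]
    exact h2
  exact (inv_mul_eq_one.mp (h.faith _ h1)).symm

end aut

variable {G : Type*} [Group G] [Finite G] {X : Subgroup G} [X.Normal]

theorem loc (hC : ∀ g : G, (∀ x ∈ X, g * x = x * g) → g = 1) (h : TISyl ↥X) (S : Sylow 2 ↥X)
    {z : ↥X} (hz : z ∈ S) (hz1 : z ≠ 1) :
    C.LocBal.Loc (z : G) ((S : Subgroup ↥X).map X.subtype) where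
  pg := S.isPGroup'.map _
  norm := by
    intro c hc
    have h1 : MulAut.conjNormal c z = z := by
      apply Subtype.ext
      rw [MulAut.conjNormal_apply, hc, mul_inv_cancel_right]
    have h2 : (MulAut.conjNormal c : MulAut ↥X) • S = S := by
      apply h.ti _ _ z _ hz hz1
      have := mem_smul_sylow (φ := MulAut.conjNormal c) hz
      rwa [h1] at this
    have key : ∀ (c : G), (MulAut.conjNormal c : MulAut ↥X) • S = S →
        ∀ y, y ∈ (S : Subgroup ↥X).map X.subtype → c * y * c⁻¹ ∈ (S : Subgroup ↥X).map X.subtype := by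
      rintro c h2 _ ⟨s, hs, rfl⟩
      refine ⟨MulAut.conjNormal c s, ?_, ?_⟩
      · have := mem_smul_sylow (φ := MulAut.conjNormal c) (S := S) hs
        rw [h2] at this
        exact this
      · rw [Subgroup.subtype_apply, MulAut.conjNormal_apply]; rfl
    have h3 : (MulAut.conjNormal c⁻¹ : MulAut ↥X) • S = S := by
      rw [map_inv, inv_smul_eq_iff, h2]
    rw [mem_normalizer_iff]
    intro y
    refine ⟨key c h2 y, fun hy => ?_⟩
    have := key c⁻¹ h3 _ hy
    have e : c⁻¹ * (c * y * c⁻¹) * c⁻¹⁻¹ = y := by group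
    rwa [e] at this
  cent := by
    intro c hc ho
    apply hC
    have h1 : (MulAut.conjNormal c : MulAut ↥X) = 1 := by
      refine eq_one_of_cent h (S := S) ?_ ?_
      · exact Odd.of_dvd_nat ho (orderOf_map_dvd _ c)
      · intro s hs
        apply Subtype.ext
        rw [MulAut.conjNormal_apply]
        have := mem_centralizer_iff.mp hc (s : G) ⟨s, hs, rfl⟩
        rw [← this, mul_inv_cancel_right]
    intro x hx
    have h2 := congrArg (fun φ : MulAut ↥X => ((φ ⟨x, hx⟩ : ↥X) : G)) h1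
    simp only [MulAut.conjNormal_apply, MulAut.one_apply] at h2
    rwa [mul_inv_eq_iff_eq_mul] at h2

/-- **The theorem.** -/
theorem core_eq_bot (hC : ∀ g : G, (∀ x ∈ X, g * x = x * g) → g = 1) (h : TISyl ↥X) (hF : FixFour ↥X)
    {x : G} (hx : x * x = 1) : Cfsg.centralizerPPrimeCore 2 x = ⊥ := by
  have : Fact (Nat.Prime 2) := ⟨Nat.prime_two⟩
  have hφ : (MulAut.conjNormal x : MulAut ↥X) * MulAut.conjNormal x = 1 := by
    rw [← map_mul, hx, map_one]
  have hP : IsPGroup 2 (Subgroup.zpowers (MulAut.conjNormal x : MulAut ↥X)) := by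
    apply IsPGroup.of_card_dvd_pow (n := 1)
    rw [Nat.card_zpowers, pow_one]
    exact orderOf_dvd_of_pow_eq_one (by rw [pow_two, hφ])
  have hodd : ¬ 2 ∣ Nat.card (Sylow 2 ↥X) := by
    have h1 := card_sylow_modEq_one 2 ↥X
    intro h2
    have h3 : Nat.card (Sylow 2 ↥X) % 2 = 1 % 2 := h1
    omega
  obtain ⟨S, hS⟩ := hP.nonempty_fixed_point_of_prime_not_dvd_card (Sylow 2 ↥X) hodd
  have hS' : (MulAut.conjNormal x : MulAut ↥X) • S = S := hS ⟨_, Subgroup.mem_zpowers _⟩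
  obtain ⟨u, v, hu, hv, hu1, hv1, huv, huu, hvv, hcomm, hxu, hxv⟩ := hF _ hφ S hS'
  have key : ∀ w : ↥X, MulAut.conjNormal x w = w → x * (w : G) = w * x := by
    intro w hw
    have h1 := congrArg Subtype.val hw
    rw [MulAut.conjNormal_apply] at h1
    rwa [mul_inv_eq_iff_eq_mul] at h1
  have huv1 : u * v ≠ 1 := by
    intro h1
    apply huv
    have h2 : u = v⁻¹ := eq_inv_of_mul_eq_one_left h1
    rw [h2]
    exact inv_eq_of_mul_eq_one_left hvv
  refine C.LocBal.core_eq_bot (z₁ := (u : G)) (z₂ := (v : G))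
    (Q₃ := (S : Subgroup ↥X).map X.subtype) hx ?_ ?_ ?_ (key u hxu) (key v hxv)
    (loc hC h S hu hu1) (loc hC h S hv hv1) ?_
  · rw [← Subgroup.coe_mul, huu, Subgroup.coe_one]
  · rw [← Subgroup.coe_mul, hvv, Subgroup.coe_one]
  · rw [← Subgroup.coe_mul, hcomm, Subgroup.coe_mul]
  · have := loc hC h S (mul_mem hu hv) huv1
    rwa [Subgroup.coe_mul] at this

end Cfsg.Agent.UGT.End.RankOneTI
end

-- part: UGT/End/RankOneFacts
section
/-!
# `TISyl` and `FixFour` from the rank-one facts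

`Facts X Ω a t Q i` (rank-one set-up) for simple `X` gives `TISyl X`; if there are at least 8 elements of
order at most 2 in `Q` also `FixFour X`.
-/

set_option autoImplicit false

namespace Cfsg.Agent.UGT.End.RankOneFacts

open Subgroup Pointwise
open Cfsg.Agent.LieRecognition Cfsg.Agent.WeakTI.BenderAct Cfsg.Agent.UGT.End.RankOneTI
open MulAction (stabilizer)

variable {X Ω : Type*} [Group X] [MulAction X Ω] {a : Ω} {t : X} {Q : Subgroup X} {i : ℕ}

theorem isPGroup (h : Facts X Ω a t Q i) : IsPGroup 2 Q := by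
  intro x
  refine ⟨2, ?_⟩
  apply Subtype.ext
  have h1 := h.sq x x.2
  rw [Subgroup.coe_pow, Subgroup.coe_one]
  have : (x : X) ^ 2 ^ 2 = (x : X) * x * (x * x) := by
    simp [pow_succ, mul_assoc]
  rw [this, h1]

theorem exists_facts [Finite X] (h : Facts X Ω a t Q i) (S : Sylow 2 X) :
    ∃ (b : Ω) (u : X), Facts X Ω b u (S : Subgroup X) i := by
  have : Fact (Nat.Prime 2) := ⟨Nat.prime_two⟩
  obtain ⟨-, -, -, ⟨P, hP⟩, -⟩ := Cfsg.Agent.S1119.result h.base
  have hQP : Q = P := le_antisymm (P.is_maximal' (isPGroup h) hP).le hP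
  obtain ⟨g, hg⟩ := MulAction.exists_smul_eq X P S
  have h5 : (S : Subgroup X) = Q.map (MulAut.conj g).toMonoidHom := by
    rw [← hg, hQP]; rfl
  rw [h5]
  exact ⟨_, _, h.conj g⟩

section pts

variable {b c : Ω} {u v : X} {S T : Sylow 2 X}

theorem eq_of_point [Finite X] (hS : Facts X Ω b u (S : Subgroup X) i)
    (hT : Facts X Ω b v (T : Subgroup X) i) : S = T := by
  have : Fact (Nat.Prime 2) := ⟨Nat.prime_two⟩
  have h4 : (T : Subgroup X) ≤ Subgroup.normalizer (S : Set X) :=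
    hT.base.le.trans (RankOneBasic.stabilizer_le_normalizer hS.base)
  have h5 : IsPGroup 2 ((S : Subgroup X) ⊔ T : Subgroup X) :=
    S.isPGroup'.to_sup_of_normal_left' T.isPGroup' h4
  have h6 := S.is_maximal' h5 le_sup_left
  have h7 := T.is_maximal' h5 le_sup_right
  apply Sylow.ext
  rw [← h6, h7]

theorem eq_of_mem [Finite X] (hS : Facts X Ω b u (S : Subgroup X) i)
    (hT : Facts X Ω c v (T : Subgroup X) i) {x : X} (hx : x ∈ S) (hx' : x ∈ T) (hx1 : x ≠ 1) :
    S = T := by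
  have h1 : x • b = b := hS.base.le hx
  have h2 : x • c = c := hT.base.le hx'
  have h3 : c = b := by
    by_contra h
    exact hx1 (RankOneBasic.eq_one_of_smul_eq hS.base hx h h2)
  subst h3
  exact eq_of_point hS hT

end pts

theorem trans [Finite X] (h : Facts X Ω a t Q i) (S T U : Sylow 2 X) (hTS : T ≠ S) (hUS : U ≠ S) :
    ∃ s ∈ S, s • T = U := by
  obtain ⟨b, u, hS⟩ := exists_facts h S
  obtain ⟨c, v, hT⟩ := exists_facts h T
  obtain ⟨d, w, hU⟩ := exists_facts h U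
  have hcb : c ≠ b := by
    rintro rfl
    exact hTS (eq_of_point hT hS)
  have hdb : d ≠ b := by
    rintro rfl
    exact hUS (eq_of_point hU hS)
  obtain ⟨x, hx, hxc⟩ := RankOneBasic.exists_smul_eq_of_ne hS.base hcb hdb
  refine ⟨x, hx, ?_⟩
  have h1 : Facts X Ω d (x * v * x⁻¹) ((x • T : Sylow 2 X) : Subgroup X) i := by
    have := hT.conj x
    rw [hxc] at this
    exact this
  exact eq_of_point h1 hU

theorem smul_eq_iff [Finite X] {b : Ω} {u : X} {S : Sylow 2 X} (hS : Facts X Ω b u (S : Subgroup X) i)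
    (g : X) : g • S = S ↔ g ∈ stabilizer X b := by
  have h4 : Facts X Ω (g • b) (g * u * g⁻¹) ((g • S : Sylow 2 X) : Subgroup X) i := hS.conj g
  constructor
  · intro h
    rw [h] at h4
    obtain ⟨s, hs, hs1, -⟩ := RankOneBasic.exists_involution hS.base
    by_contra hne
    have h6 : s • g • b = g • b := h4.base.le hs
    exact hs1 (RankOneBasic.eq_one_of_smul_eq hS.base hs hne h6)
  · intro h
    have h5 : g • b = b := h
    rw [h5] at h4
    exact eq_of_point h4 hS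

theorem tiSyl [Finite X] [IsSimpleGroup X] (h : Facts X Ω a t Q i) : TISyl X where
  ti := by
    intro S T x hx hx' hx1
    obtain ⟨b, u, hS⟩ := exists_facts h S
    obtain ⟨c, v, hT⟩ := exists_facts h T
    exact eq_of_mem hS hT hx hx' hx1
  trans := trans h
  faith := by
    have hfin := RankOneBasic.finite_points h.base
    let N : Subgroup X :=
      { carrier := {g | ∀ T : Sylow 2 X, g • T = T}
        mul_mem' := fun {g k} hg hk T => by rw [mul_smul, hk, hg]
        one_mem' := fun T => one_smul _ T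
        inv_mem' := fun {g} hg T => by rw [inv_smul_eq_iff, hg] }
    have hN : N.Normal := by
      refine ⟨fun n hn g T => ?_⟩
      rw [mul_smul, mul_smul, hn, smul_inv_smul]
    intro g hg
    have hgN : g ∈ N := hg
    rcases hN.eq_bot_or_eq_top with h1 | h1
    · rw [h1] at hgN
      exact mem_bot.mp hgN
    · exfalso
      obtain ⟨S⟩ : Nonempty (Sylow 2 X) := inferInstance
      obtain ⟨b, u, hS⟩ := exists_facts h S
      have h2 : u ∈ N := by rw [h1]; exact mem_top u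
      have h3 : u • S = S := h2 S
      have h4 : Facts X Ω (u • b) (u * u * u⁻¹) ((u • S : Sylow 2 X) : Subgroup X) i := hS.conj u
      rw [h3] at h4
      obtain ⟨s, hs, hs1, -⟩ := RankOneBasic.exists_involution hS.base
      have h5 : s • b = b := hS.base.le hs
      have h6 : s • u • b = u • b := h4.base.le hs
      exact hs1 (RankOneBasic.eq_one_of_smul_eq hS.base hs (RankOneBasic.t_smul_ne hS.base) h6)

/-- one Sylow 2-subgroup is enough -/
theorem fixFour_of_one [Finite X] (P : Sylow 2 X) (h : ∀ φ : MulAut X, φ * φ = 1 → φ • P = P →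
    ∃ u v : X, u ∈ P ∧ v ∈ P ∧ u ≠ 1 ∧ v ≠ 1 ∧ u ≠ v ∧ u * u = 1 ∧ v * v = 1 ∧ u * v = v * u ∧
      φ u = u ∧ φ v = v) : FixFour X := by
  have : Fact (Nat.Prime 2) := ⟨Nat.prime_two⟩
  intro φ hφ S hS
  obtain ⟨g, hg⟩ := MulAction.exists_smul_eq X P S
  have hg' : MulAut.conj g • P = S := hg
  let φ₁ : MulAut X := (MulAut.conj g)⁻¹ * φ * MulAut.conj g
  have hφ₁ : φ₁ * φ₁ = 1 := by
    calc φ₁ * φ₁ = (MulAut.conj g)⁻¹ * (φ * φ) * MulAut.conj g := by
          simp only [φ₁]; group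
      _ = 1 := by rw [hφ]; group
  have h1 : φ₁ • P = P := by
    simp only [φ₁]
    rw [mul_smul, mul_smul, hg', hS, ← hg', inv_smul_smul]
  obtain ⟨u, v, hu, hv, hu1, hv1, huv, huu, hvv, hc, h2, h3⟩ := h φ₁ hφ₁ h1
  have key : ∀ u : X, φ₁ u = u → φ (MulAut.conj g u) = MulAut.conj g u := by
    intro u h2
    have h4 : MulAut.conj g (φ₁ u) = φ (MulAut.conj g u) := by
      simp only [φ₁, MulAut.mul_apply, MulAut.apply_inv_self]
    rw [← h4, h2]
  refine ⟨MulAut.conj g u, MulAut.conj g v, ?_, ?_, ?_, ?_, ?_, ?_, ?_, ?_, key u h2, key v h3⟩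
  · rw [← hg']; exact mem_smul_sylow hu
  · rw [← hg']; exact mem_smul_sylow hv
  · rwa [Ne, MulEquiv.map_eq_one_iff]
  · rwa [Ne, MulEquiv.map_eq_one_iff]
  · exact fun h4 => huv ((MulAut.conj g).injective h4)
  · rw [← map_mul, huu, map_one]
  · rw [← map_mul, hvv, map_one]
  · rw [← map_mul, hc, map_mul]

theorem exists_pair {X : Type*} [Group X] {C : Subgroup X} [Finite C] (h3 : 2 < Nat.card C) :
    ∃ u v : X, u ∈ C ∧ v ∈ C ∧ u ≠ 1 ∧ v ≠ 1 ∧ u ≠ v := by
  have := Fintype.ofFinite C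
  rw [Nat.card_eq_fintype_card, Fintype.two_lt_card_iff] at h3
  obtain ⟨a, b, c, hab, hac, hbc⟩ := h3
  have key : ∀ x y : C, x ≠ 1 → y ≠ 1 → x ≠ y → ∃ u v : X, u ∈ C ∧ v ∈ C ∧ u ≠ 1 ∧ v ≠ 1 ∧ u ≠ v := by
    intro x y hx hy hxy
    exact ⟨x, y, x.2, y.2, fun h => hx (Subtype.ext h), fun h => hy (Subtype.ext h),
      fun h => hxy (Subtype.ext h)⟩
  by_cases ha : a = 1
  · subst ha
    exact key b c hab.symm hac.symm hbc
  · by_cases hb : b = 1
    · subst hb
      exact key a c hab hbc.symm hac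
    · exact key a b ha hb hab

/-- an automorphism of order 2 of an elementary abelian 2-group of order at least 8 fixes three elements -/
theorem two_lt_card_fix {Z : Type*} [CommGroup Z] [Finite Z] (hsq : ∀ z : Z, z * z = 1) (hZ : 8 ≤ Nat.card Z)
    (f : Z →* Z) (hf : ∀ z, f (f z) = z) {C : Subgroup Z} (hC : ∀ z, z ∈ C ↔ f z = z) :
    2 < Nat.card C := by
  let g : Z →* Z := MonoidHom.id Z * f
  have hg : ∀ z, g z = z * f z := fun z => rfl
  have hker : g.ker = C := by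
    ext z
    rw [MonoidHom.mem_ker, hg, hC]
    constructor
    · intro h
      have h1 : f z = z⁻¹ := eq_inv_of_mul_eq_one_right h
      rw [h1]
      exact inv_eq_of_mul_eq_one_left (hsq z)
    · intro h
      rw [h, hsq]
  have hran : g.range ≤ C := by
    rintro _ ⟨z, rfl⟩
    rw [hC, hg, map_mul, hf, mul_comm]
  have h1 : Nat.card Z = Nat.card g.ker * Nat.card g.range := by
    rw [← Subgroup.index_ker, Subgroup.card_mul_index]
  have h2 : Nat.card g.range ≤ Nat.card C := Subgroup.card_le_of_le hran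
  rw [hker] at h1
  by_contra h3
  have h4 : Nat.card C * Nat.card g.range ≤ 2 * 2 := Nat.mul_le_mul (by omega) (by omega)
  omega

theorem fixFour [Finite X] (h : Facts X Ω a t Q i) (h8 : 8 ≤ Nat.card {x : X // x ∈ Q ∧ x * x = 1}) :
    FixFour X := by
  intro φ hφ S hS
  obtain ⟨-, -, -, ⟨P, hP⟩, -⟩ := Cfsg.Agent.S1119.result h.base
  have : Fact (Nat.Prime 2) := ⟨Nat.prime_two⟩
  have hQP : Q = P := le_antisymm (P.is_maximal' (isPGroup h) hP).le hP
  obtain ⟨g, hg⟩ := MulAction.exists_smul_eq X P S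
  have h5 : (S : Subgroup X) = Q.map (MulAut.conj g).toMonoidHom := by
    rw [← hg, hQP]; rfl
  have hF := h.conj g
  rw [← h5] at hF
  let Z : Subgroup X :=
    { carrier := {x | x ∈ (S : Subgroup X) ∧ x * x = 1}
      mul_mem' := by
        rintro x y ⟨hx, hxx⟩ ⟨hy, hyy⟩
        refine ⟨mul_mem hx hy, ?_⟩
        have := hF.cent x hx hxx y hy
        rw [mul_assoc, ← mul_assoc y, ← this, mul_assoc x, hyy, mul_one, hxx]
      one_mem' := ⟨one_mem _, mul_one _⟩
      inv_mem' := by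
        rintro x ⟨hx, hxx⟩
        refine ⟨inv_mem hx, ?_⟩
        rw [← mul_inv_rev, hxx, inv_one] }
  have hmem : ∀ x, x ∈ Z ↔ x ∈ (S : Subgroup X) ∧ x * x = 1 := fun _ => Iff.rfl
  have hcomm : ∀ x y : Z, x * y = y * x := fun x y =>
    Subtype.ext (hF.cent x ((hmem x).mp x.2).1 ((hmem x).mp x.2).2 y ((hmem y).mp y.2).1)
  let cg : CommGroup Z := { (inferInstance : Group Z) with mul_comm := hcomm }
  have hZ8 : 8 ≤ Nat.card Z := by
    refine h8.trans (le_of_eq ?_)
    refine Nat.card_congr ((MulAut.conj g).toEquiv.subtypeEquiv fun x => ?_)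
    have e1 : ((MulAut.conj g).toEquiv x) = MulAut.conj g x := rfl
    rw [hmem, e1, ← map_mul, MulEquiv.map_eq_one_iff, h5]
    refine and_congr_left fun _ => ?_
    constructor
    · intro hx
      exact ⟨x, hx, rfl⟩
    · rintro ⟨y, hy, hyx⟩
      have : y = x := (MulAut.conj g).injective hyx
      rw [← this]; exact hy
  have hφZ : ∀ x : Z, φ x ∈ Z := by
    intro x
    obtain ⟨hx, hxx⟩ := (hmem x).mp x.2
    refine ⟨?_, ?_⟩
    · have := mem_smul_sylow (φ := φ) (S := S) hx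
      rw [hS] at this
      exact this
    · rw [← map_mul, hxx, map_one]
  let f : Z →* Z := (φ.toMonoidHom.comp Z.subtype).codRestrict Z hφZ
  have hf : ∀ z : Z, (f z : X) = φ z := fun z => rfl
  have hff : ∀ z : Z, f (f z) = z := by
    intro z
    apply Subtype.ext
    rw [hf, hf, ← MulAut.mul_apply, hφ, MulAut.one_apply]
  let C : Subgroup Z := f.eqLocus (MonoidHom.id Z)
  have hC : ∀ z : Z, z ∈ C ↔ f z = z := fun z => Iff.rfl
  have hsq : ∀ z : Z, z * z = 1 := fun z => Subtype.ext ((hmem z).mp z.2).2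
  obtain ⟨u, v, hu, hv, hu1, hv1, huv⟩ := exists_pair (two_lt_card_fix hsq hZ8 f hff hC)
  refine ⟨u, v, ((hmem u).mp u.2).1, ((hmem v).mp v.2).1, ?_, ?_, ?_, ((hmem u).mp u.2).2,
    ((hmem v).mp v.2).2, congrArg Subtype.val (hcomm u v), ?_, ?_⟩
  · exact fun h1 => hu1 (Subtype.ext h1)
  · exact fun h1 => hv1 (Subtype.ext h1)
  · exact fun h1 => huv (Subtype.ext h1)
  · rw [← hf, (hC u).mp hu]
  · rw [← hf, (hC v).mp hv]

end Cfsg.Agent.UGT.End.RankOneFacts
end

-- part: UGT/End/PSUCoord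
section
/-!
# The rank-one facts for `PSU₃(2^n)` in coordinates

The set-up of `WeakTI.BenderModel.exists_facts` with the coordinates `Heis σ` on the Sylow 2-subgroup and
all the diagonal elements.
-/

set_option autoImplicit false

namespace Cfsg.Agent.UGT.End.PSUCoord

open Subgroup Pointwise Matrix
open Cfsg.Agent.LieRecognition Cfsg.Agent.LieRecognition.HermHeis
  Cfsg.Agent.SuzukiRankOne.PSUModel Cfsg.Agent.LieRecognition.PSUThreeSylow
  Cfsg.Agent.WeakTI.BenderAct Cfsg.Agent.AschCrit.PSUTorus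
open MulAction (stabilizer)

variable {F : Type*} [Field F] [Finite F] [CharP F 2] {σ : F →+* F}
  [hσ : Fact (∀ x, σ (σ x) = x)] {n : ℕ}

omit [Finite F] [CharP F 2] hσ in
theorem dia_det (α : F) (h0 : α ≠ 0) :
    (!![α, 0, 0; 0, σ α / α, 0; 0, 0, (σ α)⁻¹] : Matrix (Fin 3) (Fin 3) F).det = 1 := by
  have h1 : σ α ≠ 0 := (map_ne_zero σ).mpr h0
  rw [Matrix.det_fin_three]
  simp only [_root_.Fin.isValue, _root_.Matrix.of_apply, _root_.Matrix.cons_val', _root_.Matrix.cons_val_zero, _root_.Matrix.cons_val_fin_one, _root_.Matrix.cons_val_one, _root_.Matrix.cons_val, _root_.MulZeroClass.mul_zero, _root_.sub_zero, _root_.MulZeroClass.zero_mul, _root_.add_zero]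
  field_simp

/-- The element `diag (α, σ α / α, (σ α)⁻¹)`. -/
def dia (α : F) (h0 : α ≠ 0) : SUJ σ :=
  ⟨⟨!![α, 0, 0; 0, σ α / α, 0; 0, 0, (σ α)⁻¹], dia_det α h0⟩, by
    have h1 : σ α ≠ 0 := (map_ne_zero σ).mpr h0
    change (!![α, 0, 0; 0, σ α / α, 0; 0, 0, (σ α)⁻¹] : Matrix (Fin 3) (Fin 3) F)ᵀ * Jm F *
      (!![α, 0, 0; 0, σ α / α, 0; 0, 0, (σ α)⁻¹] : Matrix (Fin 3) (Fin 3) F).map σ = Jm F
    ext i j
    (revert i j; simp only [Jm, Matrix.mul_apply, Fin.sum_univ_three, Matrix.transpose_apply, h0, h1, hσ.out, _root_.Fin.forall_fin_succ, _root_.Matrix.of_apply, _root_.Matrix.cons_val', _root_.Matrix.cons_val_fin_one, Fin.isValue, _root_.Matrix.cons_val_zero, _root_.Matrix.cons_val_one, _root_.Matrix.cons_val, _root_.Matrix.map_apply, _root_.MulZeroClass.mul_zero, _root_.add_zero, _root_.mul_one, _root_.zero_add, _root_.map_zero, _root_.Matrix.cons_val_succ, _root_.map_div₀, _root_.map_inv₀, _root_.forall_const, _root_.MulZeroClass.zero_mul,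 _root_.ne_eq, _root_.not_false_eq_true, _root_.mul_inv_cancel₀, _root_.and_self, _root_.div_mul_div_cancel₀', _root_.div_self, _root_.inv_mul_cancel₀, _root_.implies_true])⟩

omit [Finite F] [CharP F 2] in
theorem dia_mem_borel (α : F) (h0 : α ≠ 0) : dia (σ := σ) α h0 ∈ _root_.Cfsg.Agent.SuzukiRankOne.PSUModel.borel σ := by
  rw [mem_borel]
  constructor <;> simp only [dia, _root_.Cfsg.Agent.UGT.End.PSUCoord.dia, _root_.Fin.isValue, _root_.Matrix.of_apply, _root_.Matrix.cons_val', _root_.Matrix.cons_val_zero, _root_.Matrix.cons_val_fin_one, _root_.Matrix.cons_val_one, _root_.Matrix.cons_val]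

theorem dia_mem_torus (α : F) (h0 : α ≠ 0) : dia (σ := σ) α h0 ∈ torus σ := by
  rw [mem_torus]
  refine ⟨dia_mem_borel α h0, ?_⟩
  rw [wel_inv, mem_borel, coe_mul_SUJ, coe_mul_SUJ, wel_val]
  rw [(mul_Jm_apply _ 1).1, (Jm_mul_apply _ 2).2.1, (mul_Jm_apply _ 2).1, (Jm_mul_apply _ 2).2.2]
  constructor <;> simp [dia]

theorem dia_mul_emb (α : F) (h0 : α ≠ 0) (x : Heis σ) :
    dia (σ := σ) α h0 * emb σ x = emb σ (scal α h0 x) * dia α h0 := by
  obtain ⟨β, hβ, e, -, -, h⟩ := exists_scal (dia_mem_torus (σ := σ) α h0)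
  have : β = α := e.symm
  subst this
  exact h x

theorem exists_coord (hn : 1 ≤ n) (hs : ∀ x, σ x = x ^ (2 ^ n)) (hF : Nat.card F = (2 ^ n) ^ 2) :
    ∃ (H S : Subgroup (Cfsg.PSU 3 F (2 ^ n))) (w : Cfsg.PSU 3 F (2 ^ n)) (ψ : Heis σ ≃* S),
      Facts (Cfsg.PSU 3 F (2 ^ n)) (Cfsg.PSU 3 F (2 ^ n) ⧸ H) ((QuotientGroup.mk 1 : _)) w S 3 ∧
      (∀ (α : F) (h0 : α ≠ 0), ∃ y ∈ H, w⁻¹ * y * w ∈ H ∧
        ∀ x : Heis σ, y * (ψ x : Cfsg.PSU 3 F (2 ^ n)) = ψ (scal α h0 x) * y) ∧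
      (∀ y ∈ H, w⁻¹ * y * w ∈ H → ∃ (α : F) (h0 : α ≠ 0),
        ∀ x : Heis σ, y * (ψ x : Cfsg.PSU 3 F (2 ^ n)) = ψ (scal α h0 x) * y) := by
  have hq : 1 < 2 ^ n := Nat.one_lt_two_pow (by omega)
  obtain ⟨x₀, hx₀⟩ := HermHeis.exists_heis_a (σ := σ) hq hs hF 1
  have hx : ∃ x : Heis σ, x.a ≠ 0 := ⟨x₀, by rw [hx₀]; exact one_ne_zero⟩
  obtain ⟨c, hc⟩ := HermHeis.exists_not_fixed (σ := σ) hq hs hF
  obtain ⟨T, T', hTT', hT⟩ := exists_T hc
  let e : SUJ σ ≃* Cfsg.SU 3 F (2 ^ n) :=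
    ((conjT hTT').subgroupMap (SUJ σ)).trans (MulEquiv.subgroupCongr (SU_eq_map hs hTT' hT))
  let π : SUJ σ →* Cfsg.PSU 3 F (2 ^ n) :=
    (QuotientGroup.mk' (Subgroup.center (Cfsg.SU 3 F (2 ^ n)))).comp e.toMonoidHom
  have hπ : Function.Surjective π := (QuotientGroup.mk'_surjective _).comp e.surjective
  have hker : ∀ g, π g = 1 ↔ g ∈ Subgroup.center (SUJ σ) := by
    intro g
    have h1 : π g = 1 ↔ e g ∈ Subgroup.center (Cfsg.SU 3 F (2 ^ n)) := by
      rw [← QuotientGroup.eq_one_iff]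
      exact Iff.rfl
    rw [h1, Subgroup.mem_center_iff, Subgroup.mem_center_iff]
    constructor
    · intro h k
      apply e.injective
      rw [map_mul, map_mul]
      exact h (e k)
    · intro h k
      obtain ⟨k, rfl⟩ := e.surjective k
      rw [← map_mul, ← map_mul, h k]
  have hkB : π.ker ≤ _root_.Cfsg.Agent.SuzukiRankOne.PSUModel.borel σ := by
    intro g hg
    exact center_le_borel hx ((hker g).mp hg)
  have hD := data_map data_SUJ π hπ hkB
  have hinj : ∀ x : Heis σ, π (emb σ x) = 1 → x = 1 := by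
    intro x h
    exact eq_one_of_mem_center ((hker _).mp h)
  have hinj2 : Function.Injective (π.comp (emb σ)) := by
    rw [injective_iff_map_eq_one]
    exact hinj
  have hSr : (π.comp (emb σ)).range = (emb σ).range.map π := by
    rw [MonoidHom.range_comp]
  let ψ : Heis σ ≃* ((emb σ).range.map π : Subgroup (Cfsg.PSU 3 F (2 ^ n))) :=
    (MonoidHom.ofInjective hinj2).trans (MulEquiv.subgroupCongr hSr)
  have hψ : ∀ x, (ψ x : Cfsg.PSU 3 F (2 ^ n)) = π (emb σ x) := fun _ => rfl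
  have htor : ∀ g' : Cfsg.PSU 3 F (2 ^ n), g' ∈ (torus σ).map π ↔
      g' ∈ (_root_.Cfsg.Agent.SuzukiRankOne.PSUModel.borel σ).map π ∧ (π (wel σ))⁻¹ * g' * π (wel σ) ∈ (_root_.Cfsg.Agent.SuzukiRankOne.PSUModel.borel σ).map π := by
    intro g'
    obtain ⟨g, rfl⟩ := hπ g'
    constructor
    · rintro ⟨k, hk, hkg⟩
      obtain ⟨h1, h2⟩ := mem_torus.mp hk
      rw [← hkg]
      exact ⟨⟨k, h1, rfl⟩, ⟨_, h2, by simp only [_root_.map_mul, _root_.map_inv]⟩⟩
    · rintro ⟨h1, h2⟩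
      refine ⟨g, mem_torus.mpr ⟨mem_of_map_mem π hkB h1, mem_of_map_mem π hkB ?_⟩, rfl⟩
      simpa only [_root_.map_mul, _root_.map_inv, _root_.Subgroup.mem_map, _root_.Subtype.exists] using h2
  have hpar : ∀ x ∈ (emb σ).range.map π, ∃ y : Heis σ, (ψ y : Cfsg.PSU 3 F (2 ^ n)) = x := by
    intro x hx
    obtain ⟨y, hy⟩ := ψ.surjective ⟨x, hx⟩
    exact ⟨y, by rw [hy]⟩
  have hψm : ∀ x y : Heis σ, (ψ x : Cfsg.PSU 3 F (2 ^ n)) * (ψ y : Cfsg.PSU 3 F (2 ^ n)) =
      (ψ (x * y) : Cfsg.PSU 3 F (2 ^ n)) := by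
    intro x y
    rw [map_mul]; rfl
  have hψ1 : ∀ x : Heis σ, (ψ x : Cfsg.PSU 3 F (2 ^ n)) = 1 ↔ x = 1 := by
    intro x
    constructor
    · intro h
      exact ψ.injective (Subtype.ext (by rw [h, map_one]; rfl))
    · rintro rfl
      rw [map_one]; rfl
  refine ⟨(_root_.Cfsg.Agent.SuzukiRankOne.PSUModel.borel σ).map π, (emb σ).range.map π, π (wel σ), ψ, ⟨?_, ?_, ?_, ?_, ?_⟩, ?_, ?_⟩
  · refine setup_of_data hD ?_ ?_ (T := (torus σ).map π) htor ?_
    · rw [← map_mul, wel_mul_wel, map_one]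
    · rw [← Nat.card_congr ψ.toEquiv, HermHeis.card_heis hq hs hF]
      exact (Nat.even_pow' (by norm_num)).mpr ((Nat.even_pow' (by omega)).mpr even_two)
    · have h1 : Nat.card ((torus σ).map π) ∣ Nat.card (torus σ) := Subgroup.card_map_dvd _ _
      have h2 := h1.trans (card_torus_dvd (σ := σ))
      refine Odd.of_dvd_nat ?_ h2
      rw [Nat.card_units, hF]
      refine Nat.Even.sub_odd ?_ ?_ odd_one
      · exact Nat.one_le_pow _ _ (by omega)
      · exact (Nat.even_pow' (by norm_num)).mpr ((Nat.even_pow' (by omega)).mpr even_two)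
  · intro x hx
    obtain ⟨y, rfl⟩ := hpar x hx
    rw [hψm, hψm, hψ1, HermHeis.mul_self_eq_one_iff, mul_a, CharTwo.add_self_eq_zero]
  · intro x hx hxx y hy
    obtain ⟨x, rfl⟩ := hpar x hx
    obtain ⟨y, rfl⟩ := hpar y hy
    rw [hψm, hψ1, HermHeis.mul_self_eq_one_iff] at hxx
    rw [hψm, hψm]
    congr 2
    rw [HermHeis.commute_iff, hxx, map_zero, zero_mul, mul_zero]
  · intro x hx y hy
    have key : ∀ x : Cfsg.PSU 3 F (2 ^ n), x ∈ stabilizer (Cfsg.PSU 3 F (2 ^ n))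
        ((QuotientGroup.mk 1 : _) : Cfsg.PSU 3 F (2 ^ n) ⧸ (_root_.Cfsg.Agent.SuzukiRankOne.PSUModel.borel σ).map π) ⊓
        (stabilizer (Cfsg.PSU 3 F (2 ^ n))
          (π (wel σ) • (QuotientGroup.mk 1 : Cfsg.PSU 3 F (2 ^ n) ⧸ (_root_.Cfsg.Agent.SuzukiRankOne.PSUModel.borel σ).map π)) :) →
        ∃ k ∈ torus σ, π k = x := by
      intro x hx
      obtain ⟨h1, h2⟩ := mem_inf.mp hx
      rw [stab_one] at h1
      rw [mem_stab_smul] at h2
      exact (htor x).mpr ⟨h1, h2⟩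
    obtain ⟨k, hk, rfl⟩ := key x hx
    obtain ⟨l, hl, rfl⟩ := key y hy
    rw [← map_mul, ← map_mul]
    congr 1
    have h1 : (⟨k, hk⟩ : torus σ) * ⟨l, hl⟩ = ⟨l, hl⟩ * ⟨k, hk⟩ := by
      apply torusHom_injective
      rw [map_mul, map_mul, mul_comm]
    exact congrArg Subtype.val h1
  · have h1 : Nat.card ((emb σ).range.map π : Subgroup (Cfsg.PSU 3 F (2 ^ n))) = (2 ^ n) ^ 3 := by
      rw [← Nat.card_congr ψ.toEquiv, HermHeis.card_heis hq hs hF]
    have h2 : Nat.card {x : Cfsg.PSU 3 F (2 ^ n) // x ∈ (emb σ).range.map π ∧ x * x = 1} = 2 ^ n := by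
      refine Eq.trans ?_ (HermHeis.card_fixed (σ := σ) hq hs hF).1
      symm
      refine Nat.card_congr (Equiv.ofBijective
        (fun b : {x : F // σ x = x} => (⟨(ψ (zet b.1 b.2) : Cfsg.PSU 3 F (2 ^ n)),
          (ψ (zet b.1 b.2)).2, by
            rw [hψm, hψ1, HermHeis.mul_self_eq_one_iff, zet_a]⟩ :
          {x : Cfsg.PSU 3 F (2 ^ n) // x ∈ (emb σ).range.map π ∧ x * x = 1})) ⟨?_, ?_⟩)
      · intro b c hbc
        have h4 : (ψ (zet b.1 b.2) : Cfsg.PSU 3 F (2 ^ n)) = ψ (zet c.1 c.2) :=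
          congrArg (fun z : {x : Cfsg.PSU 3 F (2 ^ n) // x ∈ (emb σ).range.map π ∧ x * x = 1} =>
            (z : Cfsg.PSU 3 F (2 ^ n))) hbc
        have h3 := ψ.injective (Subtype.ext h4)
        exact Subtype.ext (congrArg Heis.b h3)
      · rintro ⟨x, hx, hxx⟩
        obtain ⟨y, rfl⟩ := hpar x hx
        have hy : y.a = 0 := by
          rwa [hψm, hψ1, HermHeis.mul_self_eq_one_iff] at hxx
        refine ⟨⟨y.b, b_fixed_of_a_eq_zero hy⟩, ?_⟩
        apply Subtype.ext
        show (ψ (zet y.b _) : Cfsg.PSU 3 F (2 ^ n)) = ψ y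
        congr 2
        exact Heis.ext hy.symm rfl
    rw [h1, h2]
  · intro α h0
    refine ⟨π (dia α h0), ⟨_, dia_mem_borel α h0, rfl⟩,
      ⟨_, (mem_torus.mp (dia_mem_torus (σ := σ) α h0)).2, by simp only [_root_.map_mul, _root_.map_inv]⟩, fun x => ?_⟩
    rw [hψ, hψ, ← map_mul, ← map_mul, dia_mul_emb]
  · intro y hy hwy
    obtain ⟨g, hg, rfl⟩ := (htor y).mpr ⟨hy, hwy⟩
    obtain ⟨α, h0, -, -, -, hα⟩ := exists_scal hg
    refine ⟨α, h0, fun x => ?_⟩
    rw [hψ, hψ, ← map_mul, ← map_mul, hα]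

end Cfsg.Agent.UGT.End.PSUCoord
end

-- part: UGT/End/UThreeFour
section
/-!
# `FixFour` for `PSU₃(4)`

An automorphism of order at most 2 of `PSU₃(4)` which normalises a Sylow 2-subgroup `S` centralises `Z(S)`.
-/

set_option autoImplicit false

namespace Cfsg.Agent.UGT.End.UThreeFour

open Subgroup Pointwise
open Cfsg.Agent.LieRecognition Cfsg.Agent.LieRecognition.HermHeis
  Cfsg.Agent.WeakTI.BenderAct Cfsg.Agent.AschCrit.PSUTorus
  Cfsg.Agent.UGT.End.RankOneTI Cfsg.Agent.UGT.End.RankOneFacts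
open MulAction (stabilizer)

/-! ### the field of order 16 -/

section field

variable {F : Type*} [Field F] [Fintype F] [CharP F 2]

/-- Ring endomorphisms of a finite field of characteristic two. -/
theorem ringHom_eq_pow (p : ℕ) (hF : Fintype.card F = 2 ^ p) (σ : F →+* F) :
    ∃ i < p, ∀ a, σ a = a ^ (2 ^ i) := by
  let _ : Algebra (ZMod 2) F := ZMod.algebra F 2
  have : Fact (Nat.Prime 2) := ⟨Nat.prime_two⟩
  let σ' : F →ₐ[ZMod 2] F :=
    { σ with
      commutes' := fun r => by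
        have h : (σ.comp (algebraMap (ZMod 2) F)) = algebraMap (ZMod 2) F := Subsingleton.elim _ _
        exact RingHom.congr_fun h r }
  obtain ⟨n, hn⟩ := (FiniteField.bijective_frobeniusAlgHom_pow (ZMod 2) F).2 σ'
  have h1 : Fintype.card F = Fintype.card (ZMod 2) ^ Module.finrank (ZMod 2) F :=
    Module.card_eq_pow_finrank
  rw [hF, ZMod.card] at h1
  have h2 : p = Module.finrank (ZMod 2) F := Nat.pow_right_injective (le_refl 2) h1
  refine ⟨n, by rw [h2]; exact n.2, fun a => ?_⟩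
  have h3 := DFunLike.congr_fun hn a
  simp only [AlgHom.coe_pow, FiniteField.coe_frobeniusAlgHom, pow_iterate, ZMod.card] at h3
  exact h3.symm

omit [CharP F 2] in
theorem exists_gen (hF : Fintype.card F = 16) : ∃ g : F, g ≠ 0 ∧ g ^ 5 ≠ 1 ∧ g ^ 4 ≠ g := by
  obtain ⟨u, hu⟩ := IsCyclic.exists_ofOrder_eq_natCard (α := Fˣ)
  have h15 : orderOf u = 15 := by
    rw [hu, Nat.card_units, Nat.card_eq_fintype_card, hF]
  refine ⟨u, u.ne_zero, ?_, ?_⟩
  · intro h
    have h1 : u ^ 5 = 1 := Units.ext (by simpa using h)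
    have := orderOf_dvd_of_pow_eq_one h1
    rw [h15] at this
    omega
  · intro h
    have h1 : u ^ 4 = u := Units.ext (by simpa using h)
    have h2 : u ^ 3 = 1 := by
      have : u ^ 3 * u = 1 * u := by rw [← pow_succ, h1, one_mul]
      exact mul_right_cancel this
    have := orderOf_dvd_of_pow_eq_one h2
    rw [h15] at this
    omega

theorem norm_eq_of_invol (hF : Fintype.card F = 16) (ρ : F →+* F) (hρ : ∀ a, ρ (ρ a) = a) (a : F) :
    (ρ a) ^ 5 = a ^ 5 := by
  have h16 : ∀ x : F, x ^ 16 = x := fun x => by rw [← hF]; exact FiniteField.pow_card x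
  obtain ⟨g, hg0, -, hg⟩ := exists_gen hF
  obtain ⟨i, hi, h⟩ := ringHom_eq_pow 4 (by rw [hF]; norm_num) ρ
  have h2 := hρ g
  rw [h, h] at h2
  rw [h]
  interval_cases i
  · simp
  · exfalso
    apply hg
    norm_num [← pow_mul] at h2
    exact h2
  · norm_num only []
    rw [← pow_mul]
    calc a ^ (4 * 5) = a ^ 16 * a ^ 4 := by rw [← pow_add]
      _ = a ^ 5 := by rw [h16]; ring
  · exfalso
    apply hg
    norm_num [← pow_mul] at h2
    calc g ^ 4 = (g ^ 16) ^ 4 := by rw [h16]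
      _ = g ^ 64 := by rw [← pow_mul]
      _ = g := h2

/-- an involutory semilinear map of the field of order 16 preserves the norm to the field of order 4 -/
theorem norm_eq (hF : Fintype.card F = 16) (τ : F → F) (hadd : ∀ a b, τ (a + b) = τ a + τ b)
    (hττ : ∀ a, τ (τ a) = a) (hsl : ∀ l : F, l ≠ 0 → ∃ m : F, ∀ a, τ (l * a) = m * τ a) (a : F) :
    (τ a) ^ 5 = a ^ 5 := by
  have h0 : τ 0 = 0 := by
    have := hadd 0 0
    rw [add_zero] at this
    exact left_eq_add.mp this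
  set c := τ 1 with hc
  have hc0 : c ≠ 0 := by
    intro h
    have h1 := hττ 1
    rw [← hc, h, h0] at h1
    exact zero_ne_one h1
  have hmul : ∀ l a, τ (l * a) * c = τ l * τ a := by
    intro l a
    by_cases hl : l = 0
    · rw [hl, zero_mul, h0, zero_mul, zero_mul]
    · obtain ⟨m, hm⟩ := hsl l hl
      have h1 := hm 1
      rw [mul_one, ← hc] at h1
      rw [hm a, h1]
      ring
  let ρ : F →+* F :=
    { toFun := fun a => τ a / c
      map_one' := by rw [← hc, div_self hc0]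
      map_zero' := by rw [h0, zero_div]
      map_add' := fun a b => by rw [hadd, add_div]
      map_mul' := fun a b => by
        have := hmul a b
        field_simp
        linear_combination this }
  have hρ : ∀ a, τ a = c * ρ a := fun a => by
    show τ a = c * (τ a / c)
    field_simp
  have h1 : ∀ a, c * (ρ c * ρ (ρ a)) = a := by
    intro a
    have h2 := hττ a
    rw [hρ a, hρ (c * ρ a), map_mul] at h2
    exact h2
  have h2 : c * ρ c = 1 := by
    have := h1 1
    rwa [map_one, map_one, mul_one] at this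
  have h3 : ∀ a, ρ (ρ a) = a := by
    intro a
    have := h1 a
    rwa [← mul_assoc, h2, one_mul] at this
  have h4 : (ρ c) ^ 5 = c ^ 5 := norm_eq_of_invol hF ρ h3 c
  have h5 : c ^ 5 * c ^ 5 = 1 := by
    nth_rewrite 2 [← h4]
    rw [← mul_pow, h2, one_pow]
  have h6 : c ^ 5 = 1 := by
    have h7 : (c ^ 5 + 1) * (c ^ 5 + 1) = 0 := by
      have h8 : (2 : F) = 0 := CharTwo.two_eq_zero
      linear_combination h5 + (c ^ 5 + 1) * h8
    have h9 := mul_self_eq_zero.mp h7
    rw [CharTwo.add_eq_zero] at h9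
    exact h9
  rw [hρ, mul_pow, h6, one_mul]
  exact norm_eq_of_invol hF ρ h3 a

end field

/-! ### `FixFour` -/

section fix

variable {F : Type*} [Field F] [Fintype F] [CharP F 2] {σ : F →+* F} [hσ : Fact (∀ x, σ (σ x) = x)]
variable {X Ω : Type*} [Group X] [Finite X] [MulAction X Ω] {a : Ω} {w : X} {S : Subgroup X} {i : ℕ}

theorem fixFour_of_coord (hF : Fintype.card F = 16) (hs : ∀ x, σ x = x ^ 4) (h : Facts X Ω a w S i)
    (ψ : Heis σ ≃* S)
    (ht1 : ∀ (α : F) (h0 : α ≠ 0), ∃ y ∈ stabilizer X a ⊓ stabilizer X (w • a),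
      ∀ x : Heis σ, y * (ψ x : X) = ψ (scal α h0 x) * y)
    (ht2 : ∀ y ∈ stabilizer X a ⊓ stabilizer X (w • a), ∃ (α : F) (h0 : α ≠ 0),
      ∀ x : Heis σ, y * (ψ x : X) = ψ (scal α h0 x) * y) : FixFour X := by
  have : Fact (Nat.Prime 2) := ⟨Nat.prime_two⟩
  have hF' : Nat.card F = (2 ^ 2) ^ 2 := by rw [Nat.card_eq_fintype_card, hF]; norm_num
  have hq : 1 < 2 ^ 2 := by norm_num
  have hs' : ∀ x, σ x = x ^ (2 ^ 2) := fun x => by rw [hs]; norm_num
  obtain ⟨-, -, -, ⟨P, hP⟩, -⟩ := Cfsg.Agent.S1119.result h.base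
  have hSP : S = P := le_antisymm (P.is_maximal' (isPGroup h) hP).le hP
  subst hSP
  apply fixFour_of_one P
  intro φ hφ hφP
  have hwa : w • a ≠ a := RankOneBasic.t_smul_ne h.base
  have hT : Facts X Ω (w • a) (w * w * w⁻¹) ((w • P : Sylow 2 X) : Subgroup X) i := h.conj w
  set T : Sylow 2 X := w • P with hTdef
  have hTP : T ≠ P := by
    intro h1
    have h2 : w • P = P := h1
    exact hwa ((smul_eq_iff h w).mp h2)
  have hφTP : φ • T ≠ P := by
    intro h1
    exact hTP (smul_left_cancel φ (h1.trans hφP.symm))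
  obtain ⟨s, hs1, hsT⟩ := trans h P T (φ • T) hTP hφTP
  have hsT' : MulAut.conj s • T = φ • T := hsT
  have hsP : MulAut.conj s • P = P := (smul_eq_iff h s).mpr (h.base.le hs1)
  let φ' : MulAut X := (MulAut.conj s)⁻¹ * φ
  have hφ'P : φ' • P = P := by
    simp only [φ']
    rw [mul_smul, hφP, inv_smul_eq_iff, hsP]
  have hφ'T : φ' • T = T := by
    simp only [φ']
    rw [mul_smul, ← hsT', inv_smul_smul]
  have hφ'mem : ∀ x ∈ (P : Subgroup X), φ' x ∈ (P : Subgroup X) := by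
    intro x hx
    have := mem_smul_sylow (φ := φ') (S := P) hx
    rw [hφ'P] at this
    exact this
  have hφ'φ' : φ' * φ' = 1 := by
    have h1 : φ' * φ' = MulAut.conj (s⁻¹ * φ s⁻¹) := by
      simp only [φ']
      rw [← map_inv, mul_assoc, ← mul_assoc φ, smul_conj, mul_assoc _ φ φ, hφ, mul_one, ← map_mul]
    have h2 : s⁻¹ * φ s⁻¹ ∈ (P : Subgroup X) := by
      refine mul_mem (inv_mem hs1) ?_
      have := mem_smul_sylow (φ := φ) (S := P) (inv_mem hs1)
      rw [hφP] at this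
      exact this
    have h3 : (s⁻¹ * φ s⁻¹) • T = T := by
      show MulAut.conj (s⁻¹ * φ s⁻¹) • T = T
      rw [← h1, mul_smul, hφ'T, hφ'T]
    have h4 : s⁻¹ * φ s⁻¹ ∈ (P : Subgroup X) ⊓ stabilizer X (w • a) :=
      mem_inf.mpr ⟨h2, (smul_eq_iff hT _).mp h3⟩
    rw [h.base.inf_eq_bot, mem_bot] at h4
    rw [h1, h4, map_one]
  -- the map on `Heis σ`
  let θ : Heis σ →* Heis σ := ψ.symm.toMonoidHom.comp
    ((φ'.toMonoidHom.comp ((P : Subgroup X).subtype.comp ψ.toMonoidHom)).codRestrict P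
      (fun x => hφ'mem _ (ψ x).2))
  have hθ : ∀ x, (ψ (θ x) : X) = φ' (ψ x) := by
    intro x
    show ((ψ (ψ.symm ⟨φ' (ψ x), _⟩) : (P : Subgroup X)) : X) = _
    rw [MulEquiv.apply_symm_apply]
  have hψinj : ∀ x y : Heis σ, (ψ x : X) = ψ y → x = y := fun x y hxy =>
    ψ.injective (Subtype.ext hxy)
  have hθθ : ∀ x, θ (θ x) = x := by
    intro x
    apply hψinj
    rw [hθ, hθ, ← MulAut.mul_apply, hφ'φ', MulAut.one_apply]
  have hwd : ∀ x y : Heis σ, x.a = y.a → (θ x).a = (θ y).a := by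
    intro x y hxy
    have h1 : (x * y).a = 0 := by
      rw [mul_a, hxy, CharTwo.add_self_eq_zero]
    have h2 : (x * y) * (x * y) = 1 := (mul_self_eq_one_iff _).mpr h1
    have h3 : θ (x * y) * θ (x * y) = 1 := by rw [← map_mul, h2, map_one]
    have h4 := (mul_self_eq_one_iff _).mp h3
    rw [map_mul, mul_a, CharTwo.add_eq_zero] at h4
    exact h4
  choose sec hsec using fun b : F => exists_heis_a (σ := σ) hq hs' hF' b
  let τ : F → F := fun b => (θ (sec b)).a
  have hτ : ∀ x : Heis σ, (θ x).a = τ x.a := fun x => hwd _ _ (hsec x.a).symm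
  have hadd : ∀ b c, τ (b + c) = τ b + τ c := by
    intro b c
    have h1 := hτ (sec b * sec c)
    rw [mul_a, hsec, hsec, map_mul, mul_a, hτ, hτ, hsec, hsec] at h1
    exact h1.symm
  have hττ : ∀ b, τ (τ b) = b := by
    intro b
    have h1 := hτ (θ (sec b))
    rw [hθθ, hsec] at h1
    exact h1.symm
  have h16 : ∀ x : F, x ^ 16 = x := fun x => by rw [← hF]; exact FiniteField.pow_card x
  have hsl : ∀ l : F, l ≠ 0 → ∃ m : F, ∀ b, τ (l * b) = m * τ b := by
    intro l hl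
    have hα0 : (l⁻¹) ^ 8 ≠ 0 := pow_ne_zero _ (inv_ne_zero hl)
    have hα : ((l⁻¹) ^ 8) ^ 2 / σ ((l⁻¹) ^ 8) = l := by
      rw [hs, ← pow_mul, ← pow_mul]
      have h1 : (l⁻¹) ^ (8 * 2) = l⁻¹ := h16 _
      have h2 : (l⁻¹) ^ (8 * 4) = l⁻¹ ^ 2 := by
        rw [show 8 * 4 = 16 * 2 from rfl, pow_mul, h16]
      rw [h1, h2]
      field_simp
    obtain ⟨y, hy, hyψ⟩ := ht1 _ hα0
    obtain ⟨hya, hyw⟩ := mem_inf.mp hy
    have hfix : ∀ (b : Ω) (u : X) (R : Sylow 2 X), Facts X Ω b u (R : Subgroup X) i → φ' • R = R →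
        y ∈ stabilizer X b → φ' y ∈ stabilizer X b := by
      intro b u R hR hφR hyb
      rw [← smul_eq_iff hR] at hyb ⊢
      show MulAut.conj (φ' y) • R = R
      have h1 : MulAut.conj (φ' y) * φ' = φ' * MulAut.conj y := (smul_conj φ' y).symm
      have h2 : MulAut.conj y • R = R := hyb
      calc MulAut.conj (φ' y) • R = MulAut.conj (φ' y) • φ' • R := by rw [hφR]
        _ = φ' • MulAut.conj y • R := by rw [← mul_smul, h1, mul_smul]
        _ = R := by rw [h2, hφR]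
    obtain ⟨β, hβ0, hβ⟩ := ht2 (φ' y) (mem_inf.mpr ⟨hfix a w P h hφ'P hya, hfix _ _ T hT hφ'T hyw⟩)
    refine ⟨β ^ 2 / σ β, fun b => ?_⟩
    have h1 := congrArg φ' (hyψ (sec b))
    rw [map_mul, map_mul, ← hθ, ← hθ, hβ] at h1
    have h2 := hψinj _ _ (mul_right_cancel h1)
    have h3 := congrArg Heis.a h2
    rw [hτ] at h3
    have h4 : (scal ((l⁻¹) ^ 8) hα0 (sec b)).a = l * b := by
      show ((l⁻¹) ^ 8) ^ 2 / σ ((l⁻¹) ^ 8) * (sec b).a = l * b
      rw [hα, hsec]
    have h5 : (scal β hβ0 (θ (sec b))).a = β ^ 2 / σ β * τ b := rfl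
    rw [h4, h5] at h3
    exact h3.symm
  have hnorm := norm_eq hF τ hadd hττ hsl
  -- squares are fixed
  have hsq : ∀ x : Heis σ, θ (x * x) = x * x := by
    intro x
    rw [map_mul]
    ext
    · rw [mul_a, mul_a, CharTwo.add_self_eq_zero, CharTwo.add_self_eq_zero]
    · rw [mul_b, mul_b, CharTwo.add_self_eq_zero, CharTwo.add_self_eq_zero, hτ, hs, hs]
      have := hnorm x.a
      ring_nf
      ring_nf at this
      exact this
  have hfix : ∀ x : Heis σ, φ (ψ (x * x) : X) = (ψ (x * x) : X) := by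
    intro x
    have h1 : φ' (ψ (x * x) : X) = (ψ (x * x) : X) := by rw [← hθ, hsq]
    have h2 : φ (ψ (x * x) : X) = MulAut.conj s (φ' (ψ (x * x) : X)) := by
      simp only [φ', MulAut.mul_apply, MulAut.apply_inv_self]
    rw [h2, h1, MulAut.conj_apply]
    have h3 : (ψ (x * x) : X) * (ψ (x * x) : X) = 1 := by
      have h4 : (x * x) * (x * x) = 1 := by
        rw [HermHeis.mul_self_eq_one_iff, mul_a, CharTwo.add_self_eq_zero]
      rw [← Subgroup.coe_mul, ← map_mul, h4, map_one, Subgroup.coe_one]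
    rw [← h.cent _ (ψ (x * x)).2 h3 s hs1, mul_inv_cancel_right]
  obtain ⟨g, hg0, hg5, -⟩ := exists_gen hF
  have hb : ∀ x : Heis σ, (x * x).b = x.a ^ 5 := by
    intro x
    rw [mul_b, CharTwo.add_self_eq_zero, zero_add, hs]
    ring
  have hne1 : ∀ x : Heis σ, x.a ≠ 0 → (ψ (x * x) : X) ≠ 1 := by
    intro x hx h1
    have h2 : x * x = 1 := hψinj _ _ (by rw [h1, map_one, Subgroup.coe_one])
    exact hx ((mul_self_eq_one_iff x).mp h2)
  have hinv : ∀ x : Heis σ, (ψ (x * x) : X) * ψ (x * x) = 1 := by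
    intro x
    have h4 : (x * x) * (x * x) = 1 := by
      rw [HermHeis.mul_self_eq_one_iff, mul_a, CharTwo.add_self_eq_zero]
    rw [← Subgroup.coe_mul, ← map_mul, h4, map_one, Subgroup.coe_one]
  refine ⟨ψ (sec 1 * sec 1), ψ (sec g * sec g), (ψ _).2, (ψ _).2, ?_, ?_, ?_, hinv _, hinv _, ?_,
    hfix _, hfix _⟩
  · apply hne1
    rw [hsec]
    exact one_ne_zero
  · apply hne1
    rw [hsec]
    exact hg0
  · intro h1
    have h2 := congrArg Heis.b (hψinj _ _ h1)
    rw [hb, hb, hsec, hsec, one_pow] at h2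
    exact hg5 h2.symm
  · exact h.cent _ (ψ _).2 (hinv _) _ (ψ _).2

end fix

end Cfsg.Agent.UGT.End.UThreeFour
end

-- part: UGT/End/EOne
section
/-!
# END (E1): `PSL₂(2^n)`, `Sz(q)`, `PSU₃(2^n)`

`X` normal in the finite group `G` with `C_G(X) = 1`, `X` simple and isomorphic to `PSL₂(2^n)`, `n ≥ 3`, `Sz(q)`
or `PSU₃(2^n)`, `n ≥ 2`: `O(C_G(x)) = 1` for all involutions `x` of `G`.
-/

set_option autoImplicit false

namespace Cfsg.Agent.UGT.End.EOne

open Subgroup Pointwise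
open Cfsg.Agent.WeakTI.BenderAct Cfsg.Agent.UGT.End.RankOneTI Cfsg.Agent.UGT.End.RankOneFacts
open MulAction (stabilizer)

/-- `PSL₂(2^n)`, `n ≥ 3`, `Sz(q)`, `PSU₃(2^n)`, `n ≥ 2` -/
def E1 (K : Type*) [Group K] : Prop :=
  (∃ (F : Type) (_ : Field F) (_ : Fintype F), (∃ n : ℕ, 3 ≤ n ∧ Fintype.card F = 2 ^ n) ∧
      Nonempty (K ≃* Matrix.ProjectiveSpecialLinearGroup (Fin 2) F)) ∨
    Cfsg.Lie.IsoSuzuki K ∨
    (∃ (F : Type) (_ : Field F) (_ : Fintype F) (n : ℕ), 2 ≤ n ∧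
      Fintype.card F = (2 ^ n) ^ 2 ∧ Nonempty (K ≃* Cfsg.PSU 3 F (2 ^ n)))

theorem charTwo {F : Type} [Field F] [Fintype F] {n : ℕ} (hF : Fintype.card F = 2 ^ n) : CharP F 2 := by
  have : Fact (Nat.Prime 2) := ⟨Nat.prime_two⟩
  exact charP_of_card_eq_prime_pow hF

theorem fixFour_congr {X Y : Type*} [Group X] [Group Y] (e : X ≃* Y) (h : FixFour X) : FixFour Y := by
  have : Fact (Nat.Prime 2) := ⟨Nat.prime_two⟩
  intro φ hφ S hS
  let φ₁ : MulAut X := (MulAut.congr e).symm φ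
  have hap : ∀ x, e (φ₁ x) = φ (e x) := by
    intro x
    show e (e.symm (φ (e x))) = φ (e x)
    rw [e.apply_symm_apply]
  have hφ₁ : φ₁ * φ₁ = 1 := by
    simp only [φ₁]
    rw [← map_mul, hφ, map_one]
  have hinj : Function.Injective e.toMonoidHom := e.injective
  have hran : (S : Subgroup Y) ≤ e.toMonoidHom.range := by
    intro y _
    exact ⟨e.symm y, e.apply_symm_apply y⟩
  let S₁ : Sylow 2 X := S.comapOfInjective e.toMonoidHom hinj hran
  have hmem : ∀ x, x ∈ S₁ ↔ e x ∈ S := fun x => Iff.rfl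
  have hS₁ : φ₁ • S₁ = S₁ := by
    have hle : ∀ x ∈ (S₁ : Subgroup X), φ₁ x ∈ (S₁ : Subgroup X) := by
      intro x hx
      have h1 : e (φ₁ x) ∈ S := by
        rw [hap]
        have := mem_smul_sylow (φ := φ) (S := S) hx
        rw [hS] at this
        exact this
      exact h1
    apply Sylow.ext
    rw [Sylow.pointwise_smul_def]
    ext x
    rw [Subgroup.mem_pointwise_smul_iff_inv_smul_mem]
    have hinv : φ₁⁻¹ = φ₁ := inv_eq_of_mul_eq_one_left hφ₁
    rw [hinv]
    constructor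
    · intro hx
      have h1 := hle _ hx
      have h2 : φ₁ (φ₁ • x) = x := by
        show φ₁ (φ₁ x) = x
        rw [← MulAut.mul_apply, hφ₁, MulAut.one_apply]
      rwa [h2] at h1
    · intro hx
      exact hle x hx
  obtain ⟨u, v, hu, hv, hu1, hv1, huv, huu, hvv, hc, h2, h3⟩ := h φ₁ hφ₁ S₁ hS₁
  refine ⟨e u, e v, hu, hv, ?_, ?_, ?_, ?_, ?_, ?_, ?_, ?_⟩
  · rwa [Ne, MulEquiv.map_eq_one_iff]
  · rwa [Ne, MulEquiv.map_eq_one_iff]
  · exact fun h4 => huv (e.injective h4)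
  · rw [← map_mul, huu, map_one]
  · rw [← map_mul, hvv, map_one]
  · rw [← map_mul, hc, map_mul]
  · rw [← hap, h2]
  · rw [← hap, h3]

theorem of_facts {X Ω : Type*} [Group X] [Finite X] [IsSimpleGroup X] [MulAction X Ω] {a : Ω} {t : X}
    {Q : Subgroup X} {i : ℕ} (h : Facts X Ω a t Q i) (h8 : 8 ≤ Nat.card {x : X // x ∈ Q ∧ x * x = 1}) :
    TISyl X ∧ FixFour X :=
  ⟨tiSyl h, fixFour h h8⟩

theorem of_psl {X : Type*} [Group X] [Finite X] [IsSimpleGroup X] {F : Type} [Field F] [Fintype F]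
    {n : ℕ} (hn : 3 ≤ n) (hF : Fintype.card F = 2 ^ n)
    (e : X ≃* Matrix.ProjectiveSpecialLinearGroup (Fin 2) F) : TISyl X ∧ FixFour X := by
  have := charTwo hF
  obtain ⟨f⟩ := PSLTwoFacts.exists_equiv (F := F)
  have h := (PSLTwoFacts.facts (F := F)).comap (e.trans f)
  refine @of_facts X _ _ _ _ (MulAction.compHom _ (e.trans f).toMonoidHom) _ _ _ _ h ?_
  have h1 : Nat.card {x : X // x ∈ (PSLTwoFacts.uni F).comap (e.trans f).toMonoidHom ∧ x * x = 1} =
      Nat.card F := by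
    rw [← PSLTwoFacts.card_inv (F := F)]
    refine Nat.card_congr ((e.trans f).toEquiv.subtypeEquiv fun x => ?_)
    refine and_congr Iff.rfl ?_
    show x * x = 1 ↔ (e.trans f) x * (e.trans f) x = 1
    rw [← map_mul, MulEquiv.map_eq_one_iff]
  rw [h1, Nat.card_eq_fintype_card, hF]
  calc 8 = 2 ^ 3 := rfl
    _ ≤ 2 ^ n := Nat.pow_le_pow_right (by norm_num) hn

/-- the number of elements of order at most 2 from the order of `Q` -/
theorem card_inv_of {X Ω : Type*} [Group X] [MulAction X Ω] {a : Ω} {t : X}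
    {Q : Subgroup X} {i m : ℕ} (h : Facts X Ω a t Q i) (hi : i ≠ 0) (hQ : Nat.card Q = m ^ i) :
    Nat.card {x : X // x ∈ Q ∧ x * x = 1} = m := by
  have h1 := h.card
  rw [hQ] at h1
  exact (Nat.pow_left_injective hi h1).symm

theorem of_suzuki {X : Type*} [Group X] [Finite X] [IsSimpleGroup X] (h : Cfsg.Lie.IsoSuzuki X) :
    TISyl X ∧ FixFour X := by
  obtain ⟨F, iF, iFin, m, hm, hF, ⟨e⟩⟩ := h
  have H := Cfsg.Agent.LieRecognition.SzMatrix.good hF
  have h1 := ((Cfsg.Agent.WeakTI.BenderModel.facts_sz H).comap e :)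
  refine @of_facts X _ _ _ _ (MulAction.compHom _ e.toMonoidHom) _ _ _ _ h1 ?_
  have h2 : Nat.card (H.unip.comap e.toMonoidHom) = Nat.card F ^ 2 := by
    rw [← H.card_unip]
    exact Nat.card_congr (e.toEquiv.subtypeEquiv fun y => Iff.rfl)
  rw [@card_inv_of X _ _ (MulAction.compHom _ e.toMonoidHom) _ _ _ _ (Nat.card F) h1 two_ne_zero h2,
    Nat.card_eq_fintype_card, hF]
  calc 8 = 2 ^ 3 := rfl
    _ ≤ 2 ^ (2 * m + 1) := Nat.pow_le_pow_right (by norm_num) (by omega)

theorem of_psu {X : Type*} [Group X] [Finite X] [IsSimpleGroup X] {F : Type} [Field F] [Fintype F]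
    {n : ℕ} (hn : 2 ≤ n) (hF : Fintype.card F = (2 ^ n) ^ 2) (e : X ≃* Cfsg.PSU 3 F (2 ^ n)) :
    TISyl X ∧ FixFour X := by
  have hF2 : Fintype.card F = 2 ^ (n * 2) := by rw [hF, pow_mul]
  have hch := charTwo hF2
  have hF' : Nat.card F = (2 ^ n) ^ 2 := by rw [Nat.card_eq_fintype_card, hF]
  let σ : F →+* F := iterateFrobenius F 2 n
  have hs : ∀ x, σ x = x ^ (2 ^ n) := fun x => iterateFrobenius_def 2 n x
  have hσ : Fact (∀ x, σ (σ x) = x) := ⟨by
    intro x
    rw [hs, hs, ← pow_mul, ← pow_two, ← hF]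
    exact FiniteField.pow_card x⟩
  obtain ⟨H, S, w, ψ, h, ht1, ht2⟩ := PSUCoord.exists_coord (F := F) (σ := σ) (by omega) hs hF'
  have hcS : Nat.card S = (2 ^ n) ^ 3 := by
    rw [← Nat.card_congr ψ.toEquiv, Cfsg.Agent.LieRecognition.HermHeis.card_heis
      (Nat.one_lt_two_pow (by omega)) hs hF']
  have hfin : Finite (Cfsg.PSU 3 F (2 ^ n)) := Finite.of_equiv _ e.toEquiv
  have h' := h.comap e
  have htis := @tiSyl X _ _ (MulAction.compHom _ e.toMonoidHom) _ _ _ _ _ _ h'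
  rcases hn.lt_or_eq with hn3 | rfl
  · refine ⟨htis, @fixFour X _ _ (MulAction.compHom _ e.toMonoidHom) _ _ _ _ _ h' ?_⟩
    have h2 : Nat.card (S.comap e.toMonoidHom) = (2 ^ n) ^ 3 := by
      rw [← hcS]
      exact Nat.card_congr (e.toEquiv.subtypeEquiv fun y => Iff.rfl)
    rw [@card_inv_of X _ _ (MulAction.compHom _ e.toMonoidHom) _ _ _ _ (2 ^ n) h' (by norm_num) h2]
    calc 8 = 2 ^ 3 := rfl
      _ ≤ 2 ^ n := Nat.pow_le_pow_right (by norm_num) hn3
  · refine ⟨htis, fixFour_congr e.symm ?_⟩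
    refine UThreeFour.fixFour_of_coord (σ := σ) (by rw [hF]; norm_num) (fun x => by rw [hs]; norm_num)
      h ψ ?_ ?_
    · intro α h0
      obtain ⟨y, h1, h2, h3⟩ := ht1 α h0
      refine ⟨y, mem_inf.mpr ⟨?_, ?_⟩, h3⟩
      · rw [Cfsg.Agent.SuzukiRankOne.PSUModel.stab_one]; exact h1
      · rw [Cfsg.Agent.SuzukiRankOne.PSUModel.mem_stab_smul]; exact h2
    · intro y hy
      obtain ⟨h1, h2⟩ := mem_inf.mp hy
      rw [Cfsg.Agent.SuzukiRankOne.PSUModel.stab_one] at h1
      rw [Cfsg.Agent.SuzukiRankOne.PSUModel.mem_stab_smul] at h2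
      exact ht2 y h1 h2

theorem E1.pieces {X : Type*} [Group X] [Finite X] [IsSimpleGroup X] (h : E1 X) :
    TISyl X ∧ FixFour X := by
  rcases h with ⟨F, i1, i2, ⟨n, hn, hF⟩, ⟨e⟩⟩ | h | ⟨F, i1, i2, n, hn, hF, ⟨e⟩⟩
  · exact of_psl hn hF e
  · exact of_suzuki h
  · exact of_psu hn hF e

theorem E1.congr {X Y : Type*} [Group X] [Group Y] (f : X ≃* Y) (h : E1 X) : E1 Y := by
  rcases h with ⟨F, i1, i2, hF, ⟨e⟩⟩ | ⟨F, i1, i2, m, hm, hF, ⟨e⟩⟩ | ⟨F, i1, i2, n, hn, hF, ⟨e⟩⟩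
  · exact Or.inl ⟨F, i1, i2, hF, ⟨f.symm.trans e⟩⟩
  · exact Or.inr (Or.inl ⟨F, i1, i2, m, hm, hF, ⟨f.symm.trans e⟩⟩)
  · exact Or.inr (Or.inr ⟨F, i1, i2, n, hn, hF, ⟨f.symm.trans e⟩⟩)

/-- **END (E1)** -/
theorem core_eq_bot {G : Type*} [Group G] [Finite G] {N : Subgroup G} (hN : N.Normal)
    (hs : IsSimpleGroup ↥N) (h : E1 ↥N) (hc : centralizer (N : Set G) = ⊥) {x : G}
    (hx : orderOf x = 2) : Cfsg.centralizerPPrimeCore 2 x = ⊥ := by
  obtain ⟨h1, h2⟩ := h.pieces
  refine RankOneTI.core_eq_bot (X := N) ?_ h1 h2 (by rw [← pow_two, ← hx, pow_orderOf_eq_one])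
  intro g hg
  have h3 : g ∈ centralizer (N : Set G) := by
    rw [mem_centralizer_iff]
    intro y hy
    exact (hg y hy).symm
  rw [hc, mem_bot] at h3
  exact h3

end Cfsg.Agent.UGT.End.EOne
end

-- part: UGT/End/EOneLB
section
/-!
# Node END for `PSL₂(2^n)`, `Sz(q)`, `PSU₃(2^n)`

* `lb_of_e1`, `lb_of_psl`, `lb_of_suzuki`, `lb_of_psu`, `lb_of_l28`, `lb_of_l216`, `lb_of_sz8`, `lb_of_u34`
* `IsBender`, `not_bender`: `F*(G)` is not on Bender's list for `G` a minimal counterexample.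
-/

set_option autoImplicit false

open Cfsg Subgroup
open Cfsg.Agent.SignalizersComponents
open Cfsg.Agent.SignalizersComponents.IntrinsicBasic
open Cfsg.Agent.SignalizersComponents.PLayerAut
open Cfsg.Agent.FixBN.BTheorem Cfsg.Agent.FixBN.BRelative
open Cfsg.Agent.UGT.Triple Cfsg.Agent.UGT.Iface Cfsg.Agent.UGT.Trich

namespace Cfsg.Agent.UGT.End.EOneLB

open Cfsg.Agent.UGT.End.EOne

universe u

local notation "Fs" => generalizedFittingSubgroup

theorem lb_of_e1 {X : Type u} [Group X] (hs : IsSimpleGroup X) (h : E1 X) : LB X := by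
  intro G _ _ N hN hX hc x hx
  obtain ⟨f⟩ := hX
  exact _root_.Cfsg.Agent.UGT.End.EOne.core_eq_bot hN (simple_congr f hs) (h.congr f) hc hx

theorem e1_of_l28 {X : Type u} [Group X] (h : Cfsg.Agent.GH.Defs.IsL28 X) : E1 X := by
  obtain ⟨F, i1, i2, hF, e⟩ := h
  exact Or.inl ⟨F, i1, i2, ⟨3, le_rfl, by rw [hF]; norm_num⟩, e⟩

theorem e1_of_l216 {X : Type u} [Group X] (h : Cfsg.Agent.GH.Defs.IsL216 X) : E1 X := by
  obtain ⟨F, i1, i2, hF, e⟩ := h
  exact Or.inl ⟨F, i1, i2, ⟨4, by norm_num, by rw [hF]; norm_num⟩, e⟩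

theorem e1_of_sz8 {X : Type u} [Group X] (h : Cfsg.Agent.GH.Defs.IsSz8 X) : E1 X := by
  obtain ⟨F, i1, i2, hF, e⟩ := h
  exact Or.inr (Or.inl ⟨F, i1, i2, 1, le_rfl, by rw [hF]; norm_num, e⟩)

theorem e1_of_u34 {X : Type u} [Group X] (h : Cfsg.Agent.GH.Defs.IsU34 X) : E1 X := by
  obtain ⟨F, i1, i2, hF, ⟨e⟩⟩ := h
  exact Or.inr (Or.inr ⟨F, i1, i2, 2, le_rfl, by rw [hF]; norm_num, ⟨e⟩⟩)

theorem lb_of_l28 {X : Type u} [Group X] (hs : IsSimpleGroup X) (h : Cfsg.Agent.GH.Defs.IsL28 X) :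
    LB X := lb_of_e1 hs (e1_of_l28 h)

theorem lb_of_l216 {X : Type u} [Group X] (hs : IsSimpleGroup X) (h : Cfsg.Agent.GH.Defs.IsL216 X) :
    LB X := lb_of_e1 hs (e1_of_l216 h)

theorem lb_of_sz8 {X : Type u} [Group X] (hs : IsSimpleGroup X) (h : Cfsg.Agent.GH.Defs.IsSz8 X) :
    LB X := lb_of_e1 hs (e1_of_sz8 h)

theorem lb_of_u34 {X : Type u} [Group X] (hs : IsSimpleGroup X) (h : Cfsg.Agent.GH.Defs.IsU34 X) :
    LB X := lb_of_e1 hs (e1_of_u34 h)

end Cfsg.Agent.UGT.End.EOneLB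
end

-- part: UGT/End/AltEven
section
/-!
# UGT, the end `F*(G) = A_m`, `m` even: no minimal counterexample

`end_alt : MinCex G → Even m → ¬ IsAlt m F*(G)`.
-/

set_option autoImplicit false

open Equiv Equiv.Perm Subgroup Cfsg
open Cfsg.Agent.UGT.Iface Cfsg.Agent.FixBN.BRelative

namespace Cfsg.Agent.UGT.EndAlt

universe u

theorem not_simple_four {K : Type*} [Group K] (hs : IsSimpleGroup K) (hna : ¬ IsMulCommutative K)
    (e : K ≃* ↥(alternatingGroup (Fin 4))) : False := by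
  have h4 : Nat.card (Fin 4) = 4 := by rw [Nat.card_eq_fintype_card, Fintype.card_fin]
  have hn := alternatingGroup.normal_kleinFour h4
  have hV := alternatingGroup.kleinFour_isKleinFour h4
  have : IsSimpleGroup ↥(alternatingGroup (Fin 4)) := (e.isSimpleGroup_congr).1 hs
  rcases hn.eq_bot_or_eq_top with h | h
  · have h1 := hV.card_four
    rw [h, Subgroup.card_bot] at h1
    omega
  · apply hna
    refine ⟨⟨fun a b => e.injective ?_⟩⟩
    rw [map_mul, map_mul]
    have h2 := hV.isMulCommutative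
    have ha : e a ∈ alternatingGroup.kleinFour (Fin 4) := by rw [h]; exact mem_top _
    have hb : e b ∈ alternatingGroup.kleinFour (Fin 4) := by rw [h]; exact mem_top _
    exact congrArg Subtype.val (h2.is_comm.comm ⟨_, ha⟩ ⟨_, hb⟩)

theorem not_two {K : Type*} [Group K] (hna : ¬ IsMulCommutative K) {m : ℕ} (hm : m ≤ 2)
    (e : K ≃* ↥(alternatingGroup (Fin m))) : False := by
  apply hna
  have hc : Nat.card ↥(alternatingGroup (Fin m)) ≤ 1 := by
    have h1 : Nat.card ↥(alternatingGroup (Fin m)) ≤ 1 := by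
      interval_cases m
      · rw [Nat.card_eq_fintype_card]; decide
      · rw [Nat.card_eq_fintype_card]; decide
      · rw [Nat.card_eq_fintype_card]; decide
    exact h1
  have := Finite.card_le_one_iff_subsingleton.1 hc
  exact ⟨⟨fun a b => e.injective (Subsingleton.elim _ _)⟩⟩

theorem inU_six {K : Type*} [Group K] (e : K ≃* ↥(alternatingGroup (Fin 6))) : InU K := by
  have : Fact (Nat.Prime 3) := ⟨Nat.prime_three⟩
  have hF : Fintype (GaloisField 3 2) := Fintype.ofFinite _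
  have h9 : Fintype.card (GaloisField 3 2) = 9 := by
    rw [← Nat.card_eq_fintype_card, GaloisField.card 3 2 (by norm_num)]; norm_num
  obtain ⟨f⟩ := S0254.result (F := GaloisField 3 2) h9
  refine Or.inl ⟨3, Nat.prime_three, by norm_num, Or.inl ⟨GaloisField 3 2, inferInstance, hF,
    inferInstance, 2, le_rfl, fun _ => by rw [h9]; norm_num, ⟨e.trans f.symm⟩⟩⟩

theorem end_alt {G : Type u} [Group G] [Finite G] (hG : MinCex G) {m : ℕ} (hm : Even m) :
    ¬ IsAlt m ↥(generalizedFittingSubgroup G) := by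
  rintro ⟨e⟩
  by_cases h8 : 8 ≤ m
  · obtain ⟨t, ht, hne⟩ := hG.unbal
    exact hne (core_eq_bot hm h8 e hG.simple hG.nonab ht)
  · obtain ⟨k, hk⟩ := hm
    have hk4 : k < 4 := by omega
    interval_cases k
    · subst hk; exact not_two hG.nonab (by norm_num) e
    · subst hk; exact not_two hG.nonab (by norm_num) e
    · subst hk; exact not_simple_four hG.simple hG.nonab e
    · subst hk; exact hG.notU (inU_six e)

end Cfsg.Agent.UGT.EndAlt
end

-- part: UGT/EndK4
section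
/-!
# END for the list `K4End` (all rows except `HasAltCover`)

`excl`: the groups of `K4End` are excluded as `F*(G)` of a minimal counterexample, given this for the groups with
`HasAltCover` (`McL` and `Ly`).
-/

set_option autoImplicit false

open Cfsg Subgroup
open Cfsg.Agent.FixBN.BTheorem Cfsg.Agent.FixBN.BRelative
open Cfsg.Agent.UGT.Triple Cfsg.Agent.UGT.Iface Cfsg.Agent.UGT.InUList
open Cfsg.Agent.GH.Defs (K4 IsU34 IsL28 IsL216 IsSz8 HasAltCover)

namespace Cfsg.Agent.UGT.EndK4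

universe u

theorem Excl.of_lb {P : ∀ (X : Type u) [Group X], Prop}
    (h : ∀ (X : Type u) [Group X], IsSimpleGroup X → P X → End.LB X) : Excl.{u} P :=
  fun G _ _ hG hP => End.not_minCex hG (h _ hG.simple hP)

theorem u34 : Excl.{u} fun X [Group X] => IsU34 X := Excl.of_lb fun _ _ hs h => End.EOneLB.lb_of_u34 hs h

theorem l28 : Excl.{u} fun X [Group X] => IsL28 X := Excl.of_lb fun _ _ hs h => End.EOneLB.lb_of_l28 hs h

theorem l216 : Excl.{u} fun X [Group X] => IsL216 X :=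
  Excl.of_lb fun _ _ hs h => End.EOneLB.lb_of_l216 hs h

theorem sz8 : Excl.{u} fun X [Group X] => IsSz8 X := Excl.of_lb fun _ _ hs h => End.EOneLB.lb_of_sz8 hs h

theorem m11 : Excl.{u} fun X [Group X] => Spor.IsoM11 X :=
  Excl.of_core fun _ _ _ h t ht => End.MEleven.core_eq_bot h t ht

theorem j1 : Excl.{u} fun X [Group X] => Spor.IsoJ1 X := fun _ _ _ hG => EndJ1.Main.not_minCex hG

theorem altEven : Excl.{u} fun X [Group X] => ∃ n : ℕ, Even n ∧ 8 ≤ n ∧ GH.Defs.IsAlt n X := by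
  rintro G _ _ hG ⟨n, hn, -, h⟩
  exact EndAlt.end_alt hG hn h

theorem m12 : Excl.{u} fun X [Group X] => Spor.IsoM12 X := by
  rintro G _ _ hG ⟨e⟩
  exact EndNode.not_minCex (EndMTwelve.locallyBalanced e) hG

theorem m22 : Excl.{u} fun X [Group X] => Spor.IsoM22 X := by
  rintro G _ _ hG ⟨e⟩
  exact EndNode.not_minCex (End.M22.locallyBalanced e) hG

theorem m23 : Excl.{u} fun X [Group X] => Spor.IsoM23 X := by
  rintro G _ _ hG ⟨e⟩
  exact EndNode.not_minCex (MTwentyThree.LB.locallyBalanced e) hG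

theorem j2 : Excl.{u} fun X [Group X] => Spor.IsoJ2 X := Excl.of_lb fun _ _ _ h => End.JTwo.lb h

theorem j3 : Excl.{u} fun X [Group X] => Spor.IsoJ3 X := Excl.of_lb fun _ _ _ h => End.J3.lb h

/-- The list `K4End`. -/
theorem excl (hcov : Excl.{u} fun X [Group X] => HasAltCover X) : Excl.{u} K4End := by
  rintro G _ _ hG (h | h | h | h | h | h | h | h | h | h | h | h | h)
  · exact u34 G hG h
  · exact m11 G hG h
  · exact l28 G hG h
  · exact sz8 G hG h
  · exact j1 G hG h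
  · exact l216 G hG h
  · exact altEven G hG h
  · exact m12 G hG h
  · exact m22 G hG h
  · exact m23 G hG h
  · exact j2 G hG h
  · exact j3 G hG h
  · exact hcov G hG h

end Cfsg.Agent.UGT.EndK4
end

-- part: UGT/End/TwoAn
section
/-!
# UGT, END nodes: groups of type `MT n` and groups without outer automorphisms (helper514)

* `endInner_of_mt`: if `X` has one class of involutions and `C_X(t) = 2.A_n`, `n ≥ 5`, then
  `O(C_X(s)) = 1` for all involutions `s` of `X`.
* `endOuter_of_inner`, `endOdd_of_inner`: vacuous if all automorphisms of `X` are inner.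
-/

set_option autoImplicit false

open Cfsg Subgroup
open Cfsg.Agent.SporRec.TwoAn Cfsg.Agent.TypeM.Two
open Cfsg.Agent.UGT.End

namespace Cfsg.Agent.UGT.End.TwoAn

universe u

section Cover

variable {n : ℕ} {C : Type*} [Group C]

/-- the projection onto the alternating group -/
def toAlt (K : Cover (Fin n) C) : C →* alternatingGroup (Fin n) :=
  K.π.codRestrict _ fun x => by rw [← K.range_eq]; exact ⟨x, rfl⟩

theorem toAlt_surjective (K : Cover (Fin n) C) : Function.Surjective (toAlt K) := by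
  rintro ⟨σ, hσ⟩
  rw [← K.range_eq] at hσ
  obtain ⟨x, hx⟩ := hσ
  exact ⟨x, Subtype.ext hx⟩

theorem toAlt_eq_one (K : Cover (Fin n) C) {x : C} (h : toAlt K x = 1) : x = 1 ∨ x = K.z :=
  (K.ker x).1 (congrArg Subtype.val h)

/-- a normal subgroup of odd order of `2.A_n` is trivial -/
theorem eq_bot_of_odd [Finite C] (hn : 5 ≤ n) (K : Cover (Fin n) C) {W : Subgroup C} (hW : W.Normal)
    (hodd : Odd (Nat.card W)) : W = ⊥ := by
  have hs : IsSimpleGroup (alternatingGroup (Fin n)) := alternatingGroup.isSimpleGroup (by simpa only [_root_.Nat.card_eq_fintype_card, _root_.Fintype.card_fin] using hn)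
  have h1 : (W.map (toAlt K)).Normal := hW.map _ (toAlt_surjective K)
  have h2 : Nat.card (W.map (toAlt K)) ∣ Nat.card W := Subgroup.card_map_dvd _ _
  have h3 : W.map (toAlt K) = ⊥ := by
    rcases h1.eq_bot_or_eq_top with h | h
    · exact h
    · exfalso
      rw [h, Subgroup.card_top] at h2
      have h4 : 2 ∣ Nat.card (alternatingGroup (Fin n)) := by
        have hc : Equiv.swap (⟨0, by omega⟩ : Fin n) ⟨1, by omega⟩ * Equiv.swap (⟨2, by omega⟩ : Fin n) ⟨3, by omega⟩ ∈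
            alternatingGroup (Fin n) := by
          rw [Equiv.Perm.mem_alternatingGroup, map_mul, Equiv.Perm.sign_swap (by simp),
            Equiv.Perm.sign_swap (by simp)]
          rfl
        have hd : orderOf (⟨_, hc⟩ : alternatingGroup (Fin n)) = 2 := by
          rw [Subgroup.orderOf_mk]
          apply orderOf_eq_prime
          · rw [pow_two]
            have hcomm : Commute (Equiv.swap (⟨0, by omega⟩ : Fin n) ⟨1, by omega⟩)
                (Equiv.swap (⟨2, by omega⟩ : Fin n) ⟨3, by omega⟩) := by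
              apply Equiv.Perm.Disjoint.commute
              rw [Equiv.Perm.disjoint_iff_disjoint_support, Equiv.Perm.support_swap (by simp),
                Equiv.Perm.support_swap (by simp)]
              simp
            rw [mul_assoc, ← mul_assoc (Equiv.swap (⟨2, by omega⟩ : Fin n) ⟨3, by omega⟩), ← hcomm.eq,
              mul_assoc (Equiv.swap (⟨0, by omega⟩ : Fin n) ⟨1, by omega⟩), Equiv.swap_mul_self, mul_one,
              Equiv.swap_mul_self]
          · intro h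
            have h7 := congrArg (fun p : Equiv.Perm (Fin n) => p (⟨0, by omega⟩ : Fin n)) h
            simp only [Equiv.Perm.mul_apply, Equiv.Perm.one_apply] at h7
            rw [Equiv.swap_apply_of_ne_of_ne (a := (⟨2, by omega⟩ : Fin n)) (b := ⟨3, by omega⟩) (x := ⟨0, by omega⟩)
              (by simp) (by simp), Equiv.swap_apply_left] at h7
            simp at h7
        rw [← hd]
        exact _root_.orderOf_dvd_natCard _
      have h5 := h4.trans h2
      rw [Nat.odd_iff] at hodd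
      omega
  rw [eq_bot_iff]
  intro x hx
  have h4 : toAlt K x = 1 := by
    have : toAlt K x ∈ W.map (toAlt K) := ⟨x, hx, rfl⟩
    rw [h3] at this
    exact this
  rcases toAlt_eq_one K h4 with h | h
  · exact h
  · exfalso
    have h5 : orderOf (⟨x, hx⟩ : W) = 2 := by
      rw [Subgroup.orderOf_mk, h]
      exact orderOf_eq_prime K.z_pow_two K.z_ne
    have h6 := _root_.orderOf_dvd_natCard (⟨x, hx⟩ : W)
    rw [h5] at h6
    rw [Nat.odd_iff] at hodd
    omega

theorem core_eq_bot [Finite C] (hn : 5 ≤ n) (K : Cover (Fin n) C) : pPrimeCore 2 C = ⊥ :=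
  eq_bot_of_odd hn K inferInstance (Nat.coprime_two_right.1 (Lib.Cores.pPrimeCore_coprime 2))

end Cover

/-- **END, inner involutions, type `2.A_n`.** -/
theorem endInner_of_mt {n : ℕ} (hn : 5 ≤ n) {X : Type u} [Group X] [Finite X] (L : MT n X) :
    EndInner X := by
  have h0 : centralizerPPrimeCore 2 L.t = ⊥ := by
    unfold centralizerPPrimeCore
    rw [core_eq_bot hn L.K, Subgroup.map_bot]
  intro s hs
  obtain ⟨h1, h2⟩ := MT.sq_of_orderOf hs
  obtain ⟨g, hg⟩ := L.one s h1 h2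
  have h3 := map_core' (MulAut.conj g) 2 L.t
  rw [h0, Subgroup.map_bot, MulAut.conj_apply, hg] at h3
  exact h3.symm

section inner

variable {X : Type u} [Group X]

/-- if all automorphisms of `X` are inner and `N ≅ X` is normal with trivial centralizer then `N` is everything -/
theorem eq_top_of_inner (h : ∀ φ : MulAut X, φ ∈ (MulAut.conj : X →* MulAut X).range) {G : Type*}
    [Group G] {N : Subgroup G} (hN : N.Normal) (e : X ≃* ↥N) (hc : centralizer (N : Set G) = ⊥) : N = ⊤ := by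
  rw [eq_top_iff]
  intro g _
  obtain ⟨y, hy⟩ := h ((e.trans (MulAut.conjNormal g : MulAut N)).trans e.symm)
  have h1 : ∀ x ∈ N, (e y : G) * x * (e y : G)⁻¹ = g * x * g⁻¹ := by
    intro x hx
    have h2 := congrArg (fun φ : MulAut X => (e (φ (e.symm ⟨x, hx⟩)) : G)) hy
    simpa only [MulAut.conj_apply, MulAut.conjNormal_apply, _root_.map_mul, _root_.MulEquiv.apply_symm_apply, _root_.map_inv, _root_.Subgroup.coe_mul, _root_.InvMemClass.coe_inv, _root_.MulEquiv.trans_apply] using h2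
  have h3 : (e y : G)⁻¹ * g ∈ centralizer (N : Set G) := by
    rw [mem_centralizer_iff]
    intro x hx
    have h4 := h1 x hx
    have h5 : x * ((e y : G)⁻¹ * g) = (e y : G)⁻¹ * ((e y : G) * x * (e y : G)⁻¹) * g := by group
    rw [h5, h4]
    group
  rw [hc, mem_bot] at h3
  have h6 : g = (e y : G) := by
    rw [inv_mul_eq_one] at h3
    exact h3.symm
  rw [h6]
  exact (e y).2

theorem endOuter_of_inner (h : ∀ φ : MulAut X, φ ∈ (MulAut.conj : X →* MulAut X).range) : EndOuter X := by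
  intro G _ _ N hN ⟨e⟩ hc hi x hx
  exact absurd (by rw [eq_top_of_inner h hN e hc]; exact mem_top x) hx

theorem endOdd_of_inner (h : ∀ φ : MulAut X, φ ∈ (MulAut.conj : X →* MulAut X).range) : EndOdd X := by
  intro G _ _ N hN ⟨e⟩ hc x hx D _ _ _ hD _
  rw [eq_top_of_inner h hN e hc, inf_top_eq] at hD
  exact hD

end inner

end Cfsg.Agent.UGT.End.TwoAn
end

-- part: UGT/End/Ly
section
/-!
# UGT, END(Ly) (helper514)

`O(C_G(t)) = 1` for every involution `t` of every group `G` with `F*(G) ≅ Ly`: one class of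
involutions with centralizer `2.A_11`, and all automorphisms of `Ly` are inner.
-/

set_option autoImplicit false

open Cfsg Subgroup
open Cfsg.Agent.UGT.End Cfsg.Agent.UGT.End.TwoAn

namespace Cfsg.Agent.UGT.End.Ly

universe u

theorem endInner {X : Type u} [Group X] (h : Cfsg.Spor.IsoLy X) : EndInner X := by
  obtain ⟨hfin, -, -, ⟨L⟩⟩ := Cfsg.Agent.TypeM.FactsLy.facts h
  exact endInner_of_mt (by norm_num) L

theorem endOuter {X : Type u} [Group X] (h : Cfsg.Spor.IsoLy X) : EndOuter X :=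
  endOuter_of_inner (Cfsg.Agent.TypeM.OutLyFin.inner h)

theorem endOdd {X : Type u} [Group X] (h : Cfsg.Spor.IsoLy X) : EndOdd X :=
  endOdd_of_inner (Cfsg.Agent.TypeM.OutLyFin.inner h)

/-- **END(Ly).** -/
theorem lb {X : Type u} [Group X] (h : Cfsg.Spor.IsoLy X) : LB X :=
  LB.of_pieces (endInner h) (endOuter h) (endOdd h)

end Cfsg.Agent.UGT.End.Ly
end

-- part: UGT/EndK4Cov
section
/-!
# END for `McL` and `Ly`, in the form `HasAltCover`

`excl`: no minimal counterexample has an `F*(G)` with `HasAltCover` (from the statement S1738 for `F*(G)`).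
-/

set_option autoImplicit false

open Cfsg Subgroup
open Cfsg.Agent.FixBN.BTheorem Cfsg.Agent.FixBN.BRelative
open Cfsg.Agent.UGT.Triple Cfsg.Agent.UGT.Iface Cfsg.Agent.UGT.InUList
open Cfsg.Agent.GH.Defs (HasAltCover)

namespace Cfsg.Agent.UGT.EndK4Cov

universe u

theorem mcL : Excl.{u} fun X [Group X] => Spor.IsoMcL X :=
  Excl.of_core fun _ _ _ h t ht => End.McL.core_eq_bot h t ht

theorem ly : Excl.{u} fun X [Group X] => Spor.IsoLy X :=
  fun _ _ _ hG h => End.not_minCex hG (End.Ly.lb h)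

/-- `McL` and `Ly` -/
theorem excl (h1738 : ∀ (G : Type u) [Group G] [Finite G], GH.AltOut.St1738 G) :
    Excl.{u} fun X [Group X] => HasAltCover X := by
  intro G _ _ hG hX
  have hs := hG.simple
  have hO : oddCore ↥(generalizedFittingSubgroup G) = ⊥ := by
    have hn : (oddCore ↥(generalizedFittingSubgroup G)).Normal := Lib.Cores.pPrimeCore_normal 2
    rcases hn.eq_bot_or_eq_top with h1 | h1
    · exact h1
    · exfalso
      obtain ⟨n, t, K, -, hK, -, -⟩ := hX
      have h2 : (Nat.card (oddCore ↥(generalizedFittingSubgroup G))).Coprime 2 :=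
        Lib.Cores.pPrimeCore_coprime (G := ↥(generalizedFittingSubgroup G)) 2
      rw [h1, card_top] at h2
      have h3 : 2 ∣ Nat.card ↥(generalizedFittingSubgroup G) := hK.inv ▸ _root_.orderOf_dvd_natCard t
      exact (Nat.Prime.coprime_iff_not_dvd Nat.prime_two).mp h2.symm h3
  rcases GH.AltOut.mcl_or_ly hG.nonab hO (h1738 _) hX with h | h
  · exact mcL G hG h
  · exact ly G hG h

end Cfsg.Agent.UGT.EndK4Cov
end

private theorem dce_2f8c699faf19 : _root_.True := by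
  try have : _root_.True := by simp only [_root_.Cfsg.Agent.UGT.End.PSUCoord.dia.eq_1]
  try have : _root_.True := by simp only [_root_.Cfsg.Agent.UGT.End.PSUCoord.dia.congr_simp]
  exact _root_.True.intro
end

-- part: UGT/U2/FOne/HexTwDFour
section
set_option linter.all false
open scoped Cfsg.Agent.FastGrp

/-!
# (f1) for `³D₄(q)`, `q` odd, from the normal form

`TwDFour.main` : `NF … (RGDTwD4.X φ q) …`, `d ≠ 1` ⟹ `Concl q x ⟨d⟩`.
-/

set_option autoImplicit false
set_option linter.unusedSectionVars false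

namespace Cfsg.Agent.UGT.U2.FOne.TwDFour

open CoxeterSystem Cfsg.Agent.ChevalleyStructure.CoxeterGeom Cfsg.Agent.Tits.Roots
  Cfsg.Agent.Nodes.Reps Cfsg.Agent.Nodes.BNOf
open Cfsg Cfsg.Lie Cfsg.Lie.ChevalleyDatum
open Cfsg.Agent.ChevalleyStructure Cfsg.Agent.ChevalleyStructure.Elts Cfsg.Agent.Nodes.RGDChev
open Cfsg.Agent.ChevalleyStructure.GraphSymm Cfsg.Agent.ChevalleyStructure.TwistedU
  Cfsg.Agent.ChevalleyStructure.TwistedFix
open Cfsg.Agent.Nodes.RGDFold (V R R_eq)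
open Cfsg.Agent.OddHalf.LongSL Cfsg.Agent.OddHalf.LongSL.Chev Cfsg.Agent.OddHalf.LongSL.Fold
open Cfsg.Agent.Nodes.RGDTwD4 (J A isCartan X)
open Cfsg.Agent.UGT.U2.FOne.Hexa

theorem tyG : TyG A (0 : Fin 2) 1 := by
  constructor <;> decide +kernel

/-- the classes of roots in cyclic order -/
theorem V_iff : ∀ s < chevD4.nroots, ∀ k : ZMod (2 * 6),
    (V chevD4 J s = r (0 : Fin 2) 1 k ↔ s ∈ Cfsg.Agent.Hexagon.TwD4RGD.L k) := by
  decide +kernel

theorem exists_V : ∀ k : ZMod (2 * 6), ∃ s < chevD4.nroots, V chevD4 J s = r (0 : Fin 2) 1 k := by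
  decide +kernel

theorem cartan_V : ∀ s < chevD4.nroots, ∀ k : ZMod (2 * 6), 4 * (k - 6) ≠ 0 → V chevD4 J s = r (0 : Fin 2) 1 k →
    chevD4.cartan ((1 : Fin 4) : ℕ) s = 1 ∨ chevD4.cartan ((1 : Fin 4) : ℕ) s = -1 := by
  decide +kernel

variable {K : Type} [Field K] {q : ℕ} {φ : K →+* K}

theorem X_eq (hle : twistedD4 K q ≤ D4Fixed.fix φ) (k : ZMod (2 * 6)) :
    X φ q (r (0 : Fin 2) 1 k) = Cfsg.Agent.Hexagon.TwD4RGD.X K q k := by
  have h1 : ∀ s ∈ Cfsg.Agent.Hexagon.TwD4RGD.L k, s < chevD4.nroots := by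
    intro s hs
    have : chevD4.nroots = 24 := by decide +kernel
    rw [this]
    exact Cfsg.Agent.Hexagon.TwD4RGD.L_lt k s hs
  ext g
  rw [Cfsg.Agent.Hexagon.TwD4RGD.mem_X]
  show (g : GL chevD4.Idx K) ∈ R chevD4 Cfsg.Agent.Nodes.RGDTwD4.hp K J (D4Fixed.sig φ) (r (0 : Fin 2) 1 k) ↔ _
  rw [R_eq (fun s hs => V_iff s hs k) h1, Cfsg.Agent.Nodes.RGDTwD4.xG_eq]
  constructor
  · rintro ⟨h2, -⟩
    exact h2
  · intro h2
    exact ⟨h2, hle g.2⟩

theorem longZ [Fintype K] (hq : 2 ≤ q) (hK : Fintype.card K = q ^ 3) (hφ : ∀ x, φ x = x ^ q) (ho : Odd q) :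
    LongZ q (X φ q) (0 : Fin 2) 1 6 := by
  classical
  have hfin : Fintype (FF φ) := Fintype.ofFinite _
  have hc : Nat.card (FF φ) = q := by
    rw [Nat.card_eq_fintype_card]
    exact Tw.card_FF hq hK hφ
  have hchk := Tw.chk_D4
  rw [Bool.and_eq_true, Bool.and_eq_true] at hchk
  have hs : ∀ (r : ℕ) (hr : r < 24), (symmD4a.σ ⟨r, hr⟩).val = r → symmD4a.ε ⟨r, hr⟩ = 1 → ∀ t : K,
      D4Fixed.sig φ (Elts.xG Cfsg.Agent.Nodes.RGDTwD4.hp.inList r t) =
        Elts.xG Cfsg.Agent.Nodes.RGDTwD4.hp.inList r (φ t) := by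
    intro r hr h1 h2 t
    rw [Cfsg.Agent.Nodes.RGDTwD4.xG_eq]
    have h3 := D4U.sig_xG φ hr h1 h2 t
    rw [Int.cast_one, one_mul] at h3
    exact h3
  obtain ⟨z, h1, h2, h3, h4, h5, h6⟩ := LongFold.long_simple Cfsg.Agent.Nodes.RGDTwD4.isCartan
    Cfsg.Agent.Nodes.RGDTwD4.foldData
    (Cfsg.Agent.Nodes.RGDTwD4.foldGrp hφ (D4Fixed.twisted_le_fix hK hφ)) 0 1
    (by
      intro k hk
      rw [Cfsg.Agent.Nodes.RGDTwD4.cls0 k hk]
      show k ∈ [14] ↔ k ∈ [chevD4.simple 1]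
      rw [Tw.simple_D4.1])
    (by
      intro k hk
      rw [Cfsg.Agent.Nodes.RGDTwD4.cls0' k hk]
      show k ∈ [9] ↔ k ∈ [chevD4.neg (chevD4.simple 1)]
      rw [Tw.simple_D4.1, Tw.simple_D4.2])
    φ
    (by
      show ∀ t : K, D4Fixed.sig φ (Elts.xG _ (chevD4.simple 1) t) = Elts.xG _ (chevD4.simple 1) (φ t)
      rw [Tw.simple_D4.1]
      exact hs 14 (by norm_num) (by decide +kernel) (by decide +kernel))
    (by
      show ∀ t : K, D4Fixed.sig φ (Elts.xG _ (chevD4.neg (chevD4.simple 1)) t) = Elts.xG _ (chevD4.neg (chevD4.simple 1)) (φ t)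
      rw [Tw.simple_D4.1, Tw.simple_D4.2]
      exact hs 9 (by norm_num) (by decide +kernel) (by decide +kernel))
    hc ho hchk.1.2 hchk.1.1 hchk.2
  constructor
  · rw [r_six]
    exact ⟨z, h1, h2, h3, h4, h5⟩
  · refine ⟨z, ?_, ?_, ?_, ?_⟩
    · rw [r_six]
      exact h2
    · rw [← pow_two, ← h1]
      exact pow_orderOf_eq_one z
    · rintro rfl
      rw [orderOf_one] at h1
      exact absurd h1 (by norm_num)
    · intro j hj u hu
      obtain ⟨s, hs, hV⟩ := exists_V j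
      rw [← hV] at hu
      exact h6 s hs (cartan_V s hs j hj hV) u hu

variable [Fintype K] {p : ℕ} [Fact p.Prime] [CharP K p]
  {W : Type*} [Group W] {cs : CoxeterSystem CoxeterMatrix.G₂ W}
  {T : Subgroup ↥(twistedD4 K q)} {n : Fin 2 → ↥(twistedD4 K q)}
  {x d : MulAut ↥(twistedD4 K q)} {ψ : W ≃* W} {σ : Fin 2 → Fin 2} {J₀ : Set (Fin 2)} {g : ↥(twistedD4 K q)}

/-- **(f1) for `³D₄(q)`**, from the normal form. -/
theorem main (hp : p ≠ 2) (hq : 2 ≤ q) (hK : Fintype.card K = q ^ 3) (hφ : ∀ x, φ x = x ^ q)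
    (N : NF cs isCartan p T n (X φ q) x d ψ σ J₀ g) (hd : d ≠ 1) :
    Concl q x (Subgroup.zpowers d) := by
  have hW : Finite W := Cfsg.Agent.Nodes.RGDFold.finite_W (hp := Cfsg.Agent.Nodes.RGDTwD4.hp) cs isCartan
    Cfsg.Agent.Nodes.RGDTwD4.foldData
  have hKo : Odd (Fintype.card K) := by
    have h2 : ringChar K ≠ 2 := by rw [ringChar.eq K p]; exact hp
    have := FiniteField.odd_card_of_char_ne_two h2
    rwa [Nat.odd_iff]
  have ho : Odd q := by
    rw [hK] at hKo
    exact (Nat.odd_pow_iff (by norm_num)).1 hKo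
  have h3 : ∀ a : K, φ (φ (φ a)) = a := by
    intro t
    rw [hφ, hφ, hφ, ← pow_mul, ← pow_mul]
    have : q * (q * q) = q ^ 3 := by ring
    rw [this, ← hK]
    exact FiniteField.pow_card t
  have hbij : Function.Bijective φ := Finite.injective_iff_bijective.1 φ.injective
  have hle := D4Fixed.twisted_le_fix hK hφ
  have hpar := Cfsg.Agent.Hexagon.TwD4Par.hexPar (q := q) hφ hle (σ := RingEquiv.ofBijective φ hbij)
    (fun x => rfl) h3
  have hP : (fun k => X φ q (r (0 : Fin 2) 1 k)) = Cfsg.Agent.Hexagon.TwD4RGD.X K q := funext (X_eq hle)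
  rw [← hP] at hpar
  exact Hexa.main hp tyG N (longZ hq hK hφ ho) (two_ne_of_odd hKo) hpar hd

end Cfsg.Agent.UGT.U2.FOne.TwDFour
end

-- part: UGT/A9/TFAlt
section
set_option linter.all false
open scoped Cfsg.Agent.FastGrp

/-!
# (TF) for `A7` and `A9`

* `exists_five` : `B ≤ Sym(S)` elementary abelian of order 8, `|S| = 7, 9`, some `e ∈ B` has exactly three fixed
  points : some `b ∈ B`, `b ≠ 1`, has at least five fixed points;
* `alt_exists_comp` : the group form;
* `alt_false` : (TF).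
-/

set_option autoImplicit false

open Cfsg Equiv Equiv.Perm Subgroup
open Cfsg.Agent.Intrinsic.Basic Cfsg.Agent.Intrinsic.Cen
open Cfsg.Agent.SignalizersComponents Cfsg.Agent.Lib
open Cfsg.Agent.SignalizersComponents.IntrinsicBasic
open Cfsg.Agent.UGT.Triple
open Cfsg.Agent.UAlt
open scoped commutatorElement

namespace Cfsg.Agent.UGT.A9.TFAlt

section perm

variable {α : Type*} [Fintype α] [DecidableEq α] {S : Finset α}

/-- the number of fixed points of an involution has the parity of `|S|` -/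
theorem card_fixIn_mod {σ : Perm α} (hσ : σ ∈ sym S) (h : σ * σ = 1) :
    (fixIn S σ).card % 2 = S.card % 2 := by
  have h1 : 2 ∣ σ.support.card := Equiv.Perm.two_dvd_card_support (by rw [pow_two, h])
  have h2 : S \ fixIn S σ = σ.support := by
    ext x
    rw [Finset.mem_sdiff, mem_fixIn, Perm.mem_support]
    constructor
    · rintro ⟨hx, hn⟩ he
      exact hn ⟨hx, he⟩
    · intro he
      refine ⟨?_, fun hx => he hx.2⟩
      by_contra hx
      exact he (hσ x hx)
  have h3 := Finset.card_sdiff_of_subset (fixIn_subset S σ)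
  have h4 := Finset.card_le_card (fixIn_subset S σ)
  rw [h2] at h3
  omega

variable {B : Subgroup (Perm α)}

/-- the action of `B ≤ Sym(S)` on `S` -/
@[reducible] def actS (hB : B ≤ sym S) : MulAction B S where
  smul b x := ⟨b.1 x.1, mem_of_mem_sym (hB b.2) x.2⟩
  one_smul _ := rfl
  mul_smul _ _ _ := rfl

/-- **(TF)**, permutations -/
theorem exists_five (hS : S.card = 7 ∨ S.card = 9) (hB : B ≤ sym S) (h2 : ∀ b ∈ B, b * b = 1)
    (h8 : Nat.card B = 8) {e : Perm α} (he : e ∈ B) (h3 : (fixIn S e).card = 3) :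
    ∃ b ∈ B, b ≠ 1 ∧ 5 ≤ (fixIn S b).card := by
  classical
  by_contra hcon
  push Not at hcon
  have hodd : S.card % 2 = 1 := by omega
  have hle : ∀ b ∈ B, b ≠ 1 → (fixIn S b).card ≤ 3 := by
    intro b hb hb1
    have h4 := hcon b hb hb1
    have h5 := card_fixIn_mod (hB hb) (h2 b hb)
    omega
  have hcomm : ∀ a ∈ B, ∀ b ∈ B, a * b = b * a := fun a ha b hb => comm_of_sq h2 ha hb
  let _ := actS hB
  have hsm : ∀ (b : B) (x : S), ((b • x : S) : α) = b.1 x.1 := fun b x => rfl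
  let _ : Fintype B := Fintype.ofFinite B
  have hcard : Fintype.card B = 8 := by rw [← Nat.card_eq_fintype_card, h8]
  -- the stabilizers
  have hst : ∀ x : S, 4 ≤ Nat.card (MulAction.stabilizer B x) := by
    intro x
    have ho : Nat.card (MulAction.orbit B x) * Nat.card (MulAction.stabilizer B x) = 8 := by
      rw [Nat.card_congr (MulAction.orbitEquivQuotientStabilizer B x), ← h8]
      exact (Subgroup.card_eq_card_quotient_mul_card_subgroup _).symm
    by_contra hlt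
    push Not at hlt
    have hdvd : Nat.card (MulAction.stabilizer B x) ∣ 8 := Dvd.intro_left _ ho
    have hcases : Nat.card (MulAction.stabilizer B x) = 1 ∨ Nat.card (MulAction.stabilizer B x) = 2 := by
      obtain ⟨k, hk⟩ : ∃ k, k = Nat.card (MulAction.stabilizer B x) := ⟨_, rfl⟩
      rw [← hk] at hdvd hlt ⊢
      have hpos : 0 < k := Nat.pos_of_dvd_of_pos hdvd (by norm_num)
      interval_cases k
      · exact Or.inl rfl
      · exact Or.inr rfl
      · norm_num at hdvd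
    -- the orbit as a subset of `S`
    obtain ⟨O, hO⟩ : ∃ O : Finset α, O = (Finset.univ.filter fun y : S => y ∈ MulAction.orbit B x).map
      (Function.Embedding.subtype _) := ⟨_, rfl⟩
    have hOc : O.card = Nat.card (MulAction.orbit B x) := by
      rw [hO, Finset.card_map, Nat.card_eq_fintype_card, ← Set.toFinset_card]
      congr 1
      ext y
      simp
    have hOS : O ⊆ S := by
      intro y hy
      rw [hO, Finset.mem_map] at hy
      obtain ⟨z, -, rfl⟩ := hy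
      exact z.2
    have hOm : ∀ y ∈ O, ∃ b : B, y = b.1 x.1 := by
      intro y hy
      rw [hO, Finset.mem_map] at hy
      obtain ⟨z, hz, rfl⟩ := hy
      rw [Finset.mem_filter] at hz
      obtain ⟨b, hb⟩ := hz.2
      exact ⟨b, by rw [← hb]; rfl⟩
    rcases hcases with h1 | h1
    · -- regular orbit
      rw [h1, mul_one] at ho
      have hOe : O ⊆ S \ fixIn S e := by
        intro y hy
        rw [Finset.mem_sdiff, mem_fixIn]
        refine ⟨hOS hy, fun hfix => ?_⟩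
        obtain ⟨b, rfl⟩ := hOm y hy
        have h5 : e (b.1 x.1) = b.1 (e x.1) := by
          rw [← Perm.mul_apply, ← Perm.mul_apply, hcomm e he b.1 b.2]
        rw [h5] at hfix
        have h6 : e x.1 = x.1 := b.1.injective hfix.2
        have h7 : (⟨e, he⟩ : B) ∈ MulAction.stabilizer B x := by
          rw [MulAction.mem_stabilizer_iff]
          exact Subtype.ext h6
        have h8' : MulAction.stabilizer B x = ⊥ := (Subgroup.card_eq_one).mp h1
        rw [h8', Subgroup.mem_bot] at h7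
        have h9 : e = 1 := congrArg Subtype.val h7
        rw [h9] at h3
        have h10 : fixIn S (1 : Perm α) = S := by
          ext z
          rw [mem_fixIn]
          exact ⟨fun h => h.1, fun h => ⟨h, rfl⟩⟩
        rw [h10] at h3
        omega
      have h5 := Finset.card_le_card hOe
      rw [Finset.card_sdiff_of_subset (fixIn_subset S e), h3, hOc, ho] at h5
      omega
    · -- orbit of length 4
      have ho4 : Nat.card (MulAction.orbit B x) = 4 := by
        rw [h1] at ho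
        omega
      have hnt : Nontrivial (MulAction.stabilizer B x) := by
        have : 1 < Nat.card (MulAction.stabilizer B x) := by omega
        exact Finite.one_lt_card_iff_nontrivial.mp this
      obtain ⟨⟨g, hg⟩, hg1⟩ := exists_ne (1 : MulAction.stabilizer B x)
      have hg1' : (g : Perm α) ≠ 1 := fun h => hg1 (Subtype.ext (Subtype.ext h))
      rw [MulAction.mem_stabilizer_iff] at hg
      have hgx : g.1 x.1 = x.1 := congrArg Subtype.val hg
      have hOg : O ⊆ fixIn S g.1 := by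
        intro y hy
        rw [mem_fixIn]
        refine ⟨hOS hy, ?_⟩
        obtain ⟨b, rfl⟩ := hOm y hy
        rw [← Perm.mul_apply, hcomm g.1 g.2 b.1 b.2, Perm.mul_apply, hgx]
      have h5 := Finset.card_le_card hOg
      rw [hOc, ho4] at h5
      have h6 := hle g.1 g.2 hg1'
      omega
  -- a fixed point
  obtain ⟨x₀, hx₀⟩ : ∃ x : S, ∀ b : B, b • x = x := by
    have hp : IsPGroup 2 B := by
      rintro ⟨b, hb⟩
      exact ⟨1, Subtype.ext (by show b ^ 2 ^ 1 = 1; rw [pow_one, pow_two]; exact h2 b hb)⟩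
    have : Fact (Nat.Prime 2) := ⟨Nat.prime_two⟩
    have h4 : ¬ 2 ∣ Nat.card S := by
      rw [Nat.card_eq_fintype_card, Fintype.card_coe]
      omega
    obtain ⟨x, hx⟩ := hp.nonempty_fixed_point_of_prime_not_dvd_card (α := S) h4
    exact ⟨x, hx⟩
  -- double counting
  have hdc : ∑ b : B, (fixIn S b.1).card = ∑ x ∈ S, (Finset.univ.filter fun b : B => b.1 x = x).card := by
    have h4 : ∀ b : B, (fixIn S b.1).card = ∑ x ∈ S, if b.1 x = x then 1 else 0 := by
      intro b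
      rw [fixIn, Finset.card_filter]
    simp_rw [h4, Finset.card_filter]
    exact Finset.sum_comm
  have hup : ∑ b : B, (fixIn S b.1).card ≤ S.card + 21 := by
    have h4 : ∀ b : B, (fixIn S b.1).card ≤ if b = 1 then S.card else 3 := by
      intro b
      by_cases hb : b = 1
      · rw [if_pos hb]
        exact Finset.card_le_card (fixIn_subset S _)
      · rw [if_neg hb]
        exact hle b.1 b.2 fun h => hb (Subtype.ext h)
    have h5 := Finset.sum_le_sum (s := Finset.univ) fun b _ => h4 b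
    refine h5.trans ?_
    rw [Finset.sum_ite, Finset.sum_const, Finset.sum_const, Finset.filter_eq' Finset.univ (1 : B),
      if_pos (Finset.mem_univ _), Finset.card_singleton, Finset.filter_ne' Finset.univ (1 : B),
      Finset.card_erase_of_mem (Finset.mem_univ _), Finset.card_univ, hcard]
    simp
  have hlow : ∀ x (hx : x ∈ S), 4 ≤ (Finset.univ.filter fun b : B => b.1 x = x).card := by
    intro x hx
    have h4 := hst ⟨x, hx⟩
    rw [Nat.card_eq_fintype_card, Fintype.card_subtype] at h4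
    refine h4.trans (Finset.card_le_card ?_)
    intro b hb
    rw [Finset.mem_filter] at hb ⊢
    refine ⟨Finset.mem_univ _, ?_⟩
    have h5 := hb.2
    rw [MulAction.mem_stabilizer_iff] at h5
    exact congrArg Subtype.val h5
  have h8x : (Finset.univ.filter fun b : B => b.1 x₀.1 = x₀.1).card = 8 := by
    rw [Finset.filter_true_of_mem, Finset.card_univ, hcard]
    intro b _
    exact congrArg Subtype.val (hx₀ b)
  have hsum : 4 * (S.card - 1) + 8 ≤ ∑ x ∈ S, (Finset.univ.filter fun b : B => b.1 x = x).card := by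
    rw [← Finset.sum_erase_add S _ x₀.2, h8x]
    have h4 : ∑ _x ∈ S.erase x₀.1, 4 ≤
        ∑ x ∈ S.erase x₀.1, (Finset.univ.filter fun b : B => b.1 x = x).card :=
      Finset.sum_le_sum fun x hx => hlow x (Finset.mem_of_mem_erase hx)
    rw [Finset.sum_const, Finset.card_erase_of_mem x₀.2, smul_eq_mul] at h4
    omega
  rw [hdc] at hup
  omega

end perm

section group

variable {G : Type*} [Group G] [Finite G] {α : Type*} [Fintype α] [DecidableEq α]

/-- some `g ∈ A#` has at least five fixed points -/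
theorem exists_five' {e f : G} {J A : Subgroup G} {S : Finset α} (T : IsTriple e f J) (M : Mod J S)
    (hS : S.card = 7 ∨ S.card = 9) (hA : A ≤ normalizer (J : Set G)) (h2 : ∀ g ∈ A, g * g = 1)
    (h8 : Nat.card A = 8) (he : e ∈ A) (hf : ∀ g ∈ A, Fixes g J → g = 1) :
    ∃ g ∈ A, g ≠ 1 ∧ 5 ≤ (fixIn S (M.φ g)).card := by
  -- the image of `A`
  obtain ⟨φ, hφ⟩ : ∃ φ : ↥A →* Perm α, ∀ a : A, φ a = M.φ a :=
    ⟨{ toFun := fun a => M.φ a, map_one' := M.one, map_mul' := fun a b => M.mul _ _ (hA a.2) (hA b.2) },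
      fun _ => rfl⟩
  have hinj : Function.Injective φ := by
    rw [injective_iff_map_eq_one]
    intro a ha
    rw [hφ, M.fixes_iff (hA a.2)] at ha
    exact Subtype.ext (hf a a.2 ha)
  have hsym : φ.range ≤ sym S := by
    rintro _ ⟨a, rfl⟩
    rw [hφ]
    exact M.mem_sym a (hA a.2)
  have hsq : ∀ b ∈ φ.range, b * b = 1 := by
    rintro _ ⟨a, rfl⟩
    rw [← map_mul]
    have : a * a = 1 := Subtype.ext (h2 a a.2)
    rw [this, map_one]
  have hc : Nat.card φ.range = 8 := by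
    rw [← Nat.card_congr (MonoidHom.ofInjective hinj).toEquiv, h8]
  obtain ⟨_, ⟨a, rfl⟩, h1, h5⟩ := exists_five hS hsym hsq hc (e := M.φ e)
    ⟨⟨e, he⟩, hφ _⟩ (M.card_of_triple T)
  refine ⟨a, a.2, ?_, by rw [← hφ]; exact h5⟩
  intro ha
  apply h1
  have : a = 1 := Subtype.ext ha
  rw [this, map_one]

/-- **(TF)** for `A7`, `A9`: the contradiction -/
theorem alt_false {e f : G} {J A : Subgroup G} {S : Finset α} (T : IsTriple e f J) (M : Mod J S)
    (hS : S.card = 7 ∨ S.card = 9)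
    (hA : A ≤ normalizer (J : Set G)) (h2 : ∀ g ∈ A, g * g = 1)
    (h8 : Nat.card A = 8) (he : e ∈ A) (hf : ∀ g ∈ A, Fixes g J → g = 1)
    (hV : ∀ g ∈ A, g ≠ 1 → ∀ E, IsComp (J ⊓ centralizer ({g} : Set G)) E → Fixes e E) : False := by
  obtain ⟨g, hg, hg1, h5⟩ := exists_five' T M hS hA h2 h8 he hf
  have h6 := M.isComp_cmp (hA hg) (h2 g hg) h5
  have h7 := hV g hg hg1 _ h6
  have heJ := hA he
  have hcore : core (M.cmp g) ≤ core J := by
    have h6' : (fixIn S (M.φ g)).card ≠ 6 := by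
      have := card_fixIn_mod (M.mem_sym g (hA hg)) (M.sq (hA hg) (h2 g hg))
      omega
    obtain ⟨M', hM'⟩ := M.exists_cmp_five (hA hg) (h2 g hg) h5 h6'
    intro y hy
    have hyE := core_le _ hy
    rw [← M.core_iff y (M.cmp_le g hyE), ← hM' y hyE]
    exact (M'.core_iff y hyE).mpr hy
  -- `e` is trivial on `Fix(g)`
  have h8' : ∀ i ∈ fixIn S (M.φ g), M.φ e i = i := by
    intro i hi
    refine apply_of_comm_alt (S := fixIn S (M.φ g)) (by omega) (fun σ hσ => ?_) hi
    obtain ⟨k, hk, rfl⟩ := M.cmp_lift (hA hg) (h2 g hg) h5 hσ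
    have hkJ := M.cmp_le g hk
    have hkN := le_normalizer (H := J) hkJ
    have h9 : ⁅e, k⁆ ∈ core J := hcore (h7.2 k hk)
    have h10 := (M.core_iff _ (core_le _ h9)).mpr h9
    rw [commutatorElement_def, M.mul _ _ (mul_mem (mul_mem heJ hkN) (inv_mem heJ)) (inv_mem hkN),
      M.conj heJ hkN, M.inv hkN, mul_inv_eq_one, mul_inv_eq_iff_eq_mul] at h10
    exact h10
  have h9 : fixIn S (M.φ g) ⊆ fixIn S (M.φ e) := fun i hi =>
    mem_fixIn.mpr ⟨(mem_fixIn.mp hi).1, h8' i hi⟩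
  have h10 := Finset.card_le_card h9
  rw [M.card_of_triple T] at h10
  omega

end group

end Cfsg.Agent.UGT.A9.TFAlt

private theorem dce_03c0c3cf42b2 : _root_.True := by
  try have : _root_.True := by simp only [_root_.Cfsg.Agent.UAlt.fixIn.eq_1]
  exact _root_.True.intro
end

-- part: UGT/L34/Dich_mg
section
prune_inst 0x4c0200200010002000000001220003c4282000002004b0001110007020686dc2009022620c8200e121002280400350040010000500000000000000000411901a0802242000340a10427000f80b007180c00000000000000000000000000041000000000000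
set_option linter.all false
open scoped Cfsg.Agent.FastGrp

-- part: UGT/L34/Dich
section
/-!
# A triple of type `L₃(4)` in a minimal counterexample: `G = X⟨x⟩`

* `sup_eq_top34`: case (ga) of the trichotomy is impossible.
* `dichotomy34`: `X = G`, or `x ∉ X`, `G = X ∪ x X` and all `C(t)`, `t ∈ X` an involution, are core-free.
-/

set_option autoImplicit false
set_option linter.unusedVariables false

open Cfsg Subgroup
open Cfsg.Agent.SignalizersComponents Cfsg.Agent.Lib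
open Cfsg.Agent.SignalizersComponents.IntrinsicBasic
open Cfsg.Agent.SignalizersComponents.IntrinsicIntr
open Cfsg.Agent.SignalizersComponents.PLayerAut
open Cfsg.Agent.Intrinsic.Basic Cfsg.Agent.Intrinsic.Cen Cfsg.Agent.Intrinsic.Diag
open Cfsg.Agent.McLLyComp.Act
open Cfsg.Agent.FixBN.BTheorem Cfsg.Agent.FixBN.BRelative
open Cfsg.Agent.UGT.Triple Cfsg.Agent.UGT.TriBase
open Cfsg.Agent.UGT.Iface (Bar IsL34 MinCex)
open Cfsg.Agent.UGT.LTF.Defs (KF34 FT OddC)

namespace Cfsg.Agent.UGT.LSup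

universe u

local notation "Fs" => generalizedFittingSubgroup

variable {G : Type u} [Group G] [Finite G] {x a : G} {L : Subgroup G}

/-- an involution of `L` commuting with `x` -/
theorem exists_inv_comm (T : IsTriple x a L) : ∃ s ∈ L, orderOf s = 2 ∧ s * x = x * s := by
  have h1 : IsPGroup 2 (zpowers x) := by
    apply IsPGroup.of_card (n := 1)
    rw [Nat.card_zpowers, T.invx, pow_one]
  have h2 : zpowers x ≤ normalizer (L : Set G) := by
    rw [zpowers_le]; exact T.x_mem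
  obtain ⟨R, hR, hxR⟩ := exists_isSyl h1 h2
  have h3 := hR.inf (L := L) le_normalizer le_rfl
  have h4 : R ⊓ L ≠ ⊥ := by
    intro h5
    have h6 := h3.dvd_card (k := 1) (by rw [pow_one]; exact T.comp.even)
    rw [h5, card_bot] at h6
    exact absurd h6 (by norm_num)
  obtain ⟨s, hs, hs2, hsc⟩ := exists_central hR.two inf_le_left (by
    intro r hr
    have h7 : r ∈ normalizer (L : Set G) := hR.le hr
    change r ∈ normalizer ((R ⊓ L : Subgroup G) : Set G)
    rw [mem_normalizer_iff_cj] at h7 ⊢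
    rw [cj_inf, h7, mem_normalizer_iff_cj.mp (le_normalizer hr)]) h4
  exact ⟨s, hs.2, hs2, (hsc x (hxR (mem_zpowers x))).symm⟩

theorem core_ne_bot (T : IsTriple x a L) : core (centralizer ({x} : Set G)) ≠ ⊥ := by
  obtain ⟨d, hd, hda, hf⟩ := T.bad
  intro h1
  rw [h1, mem_bot] at hd
  rw [hd] at hf
  exact hf (fixes_one L)

/-- Case (ga) is impossible for the first entry of a triple of type `L₃(4)`. -/
theorem sup_eq_top34 (kf : KF34.{u}) (h : MinCex G) (T : IsTriple x a L) (h34 : IsL34 (Bar L)) :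
    Fs G ⊔ zpowers x = ⊤ := by
  obtain ⟨d, hd, hda, hf⟩ := T.bad
  have F := ft_of_triple kf T h34
  rcases Trich.trichotomy h T.invx (core_ne_bot T) with h1 | h1 | ⟨-, -, h1⟩
  · rw [eq_top_iff, ← h1]
    exact le_sup_left
  · exact h1.2.1
  · exfalso
    have hLX : L ≤ Fs G := NoGamma.le_fs T.invx (Trich.sup_eq_top h T.invx (core_ne_bot T)) T.comp
    have hdL := T.mem_normalizer_of_core hd hda
    apply hf
    rw [← act_eq_one_iff hdL]
    obtain ⟨δ, hδ⟩ : ∃ δ, δ = act L ⟨d, hdL⟩ := ⟨_, rfl⟩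
    obtain ⟨ξ, hξ⟩ : ∃ ξ, ξ = act L ⟨x, T.x_mem⟩ := ⟨_, rfl⟩
    rw [← hξ] at F
    rw [← hδ]
    have hodd : Odd (orderOf δ) := by
      have h3 : orderOf (act L ⟨d, hdL⟩) ∣ orderOf (⟨d, hdL⟩ : ↥(normalizer (L : Set G))) :=
        orderOf_map_dvd _ _
      rw [Subgroup.orderOf_mk, ← hδ] at h3
      refine Odd.of_dvd_nat ?_ h3
      have h4 := orderOf_dvd_natCard (⟨d, hd⟩ : ↥(core (centralizer ({x} : Set G))))
      rw [Subgroup.orderOf_mk] at h4
      exact Odd.of_dvd_nat (odd_card_core _) h4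
    have hcomm : δ * ξ = ξ * δ := by
      rw [hδ, hξ]
      exact Res.KFacts.act_comm hdL T.x_mem (comm_c (core_le _ hd))
    have hfix : ∀ k, ξ k = k → δ k = k := by
      intro k hk
      rw [hξ] at hk
      rw [hδ]
      obtain ⟨c, hc, hcx, rfl⟩ := Res.KFacts.exists_lift T hk
      have h2 := h1 d hd c ⟨mem_sup_left (hLX hc), mem_c hcx⟩
      rw [act_mk hdL hc]
      congr 1
      apply Subtype.ext
      change d * c * d⁻¹ = c
      rw [commutatorElement_eq_one_iff_mul_comm] at h2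
      rw [h2, mul_inv_cancel_right]
    have hE : OddC ξ (zpowers δ) := by
      refine ⟨by rwa [Nat.card_zpowers], ?_, ?_⟩
      · intro e he
        obtain ⟨n, rfl⟩ := mem_zpowers_iff.mp he
        exact (Commute.zpow_left (hcomm : Commute δ ξ) n)
      · intro l hl e he
        obtain ⟨n, rfl⟩ := mem_zpowers_iff.mp he
        have h6 : MulAut.conj l * δ = δ * MulAut.conj l := by
          apply MulEquiv.ext
          intro y
          change l * δ y * l⁻¹ = δ (l * y * l⁻¹)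
          rw [map_mul, map_mul, map_inv, hfix l hl]
        have h7 : Commute (MulAut.conj l) (δ ^ n) := Commute.zpow_right h6 n
        rw [h7.eq, mul_inv_cancel_right]
        exact he
    obtain ⟨y, hy, hy3, hyx⟩ := F.core _ hE δ (mem_zpowers δ)
    obtain ⟨s, hs, hs2, hsx⟩ := exists_inv_comm T
    have hss := sq_of_order hs2
    obtain ⟨b, hb⟩ : ∃ b : Bar L, b = QuotientGroup.mk ⟨s, hs⟩ := ⟨_, rfl⟩
    have hbb : b * b = 1 := by
      rw [hb, ← QuotientGroup.mk_mul]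
      have : (⟨s, hs⟩ * ⟨s, hs⟩ : ↥L) = 1 := Subtype.ext hss
      rw [this]; rfl
    have hb1 : b ≠ 1 := by
      rw [hb]
      intro h2
      rw [mk_eq_one_iff hs] at h2
      exact ne_one_of_order hs2 (eq_one_of_mem_core_sq h2 hss)
    have hbx : ξ b = b := by
      rw [hξ, hb, act_mk T.x_mem hs]
      congr 1
      apply Subtype.ext
      change x * s * x⁻¹ = s
      rw [← hsx, mul_inv_cancel_right]
    have h2 := F.inv b y hbb hb1 hbx hy3 hyx
    have h3 := hfix b hbx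
    rw [hy] at h3
    have h4 : y * b * y⁻¹ = b := h3
    have h5 : b * y * b⁻¹ = y := by
      have : y * b = b * y := by
        calc y * b = y * b * y⁻¹ * y := by group
          _ = b * y := by rw [h4]
      rw [← this, mul_inv_cancel_right]
    have h6 : y * y = 1 := by
      rw [h5] at h2
      nth_rewrite 1 [h2]
      exact inv_mul_cancel y
    have h7 : y = 1 := by
      have h8 : y ^ 3 = y * y * y := by rw [pow_succ, pow_two]
      rw [h8, h6, one_mul] at hy3
      exact hy3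
    rw [hy, h7, map_one]

/-- **The dichotomy.** -/
theorem dichotomy34 (kf : KF34.{u}) (h : MinCex G) (T : IsTriple x a L) (h34 : IsL34 (Bar L)) :
    Fs G = ⊤ ∨ (x ∉ Fs G ∧ (∀ g, g ∈ Fs G ∨ x * g ∈ Fs G) ∧
      ∀ u ∈ Fs G, orderOf u = 2 → core (centralizer ({u} : Set G)) = ⊥) := by
  have htop := sup_eq_top34 kf h T h34
  have hXn : (Fs G).Normal := Trich.normal_fs
  have hxx := sq_of_order T.invx
  rcases Trich.trichotomy h T.invx (core_ne_bot T) with h1 | ⟨h1, -, h2⟩ | ⟨h1, -, -⟩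
  · exact Or.inl h1
  · right
    have htwo : ∀ g, g ∈ Fs G ∨ x * g ∈ Fs G := by
      intro g
      have hg : g ∈ Fs G ⊔ zpowers x := htop ▸ mem_top g
      obtain ⟨y, hy, z, hz, rfl⟩ := Subgroup.mem_sup_of_normal_left.mp hg
      obtain ⟨k, rfl⟩ := mem_zpowers_iff.mp hz
      rcases Int.even_or_odd' k with ⟨m, rfl | rfl⟩
      · left
        have : x ^ (2 * m) = 1 := by
          rw [zpow_mul]
          have : x ^ (2 : ℤ) = 1 := by rw [zpow_two, hxx]
          rw [this, one_zpow]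
        rw [this, mul_one]; exact hy
      · right
        have : x ^ (2 * m + 1) = x := by
          rw [zpow_add, zpow_mul]
          have : x ^ (2 : ℤ) = 1 := by rw [zpow_two, hxx]
          rw [this, one_zpow, one_mul, zpow_one]
        rw [this]
        have h3 := hXn.conj_mem y hy x
        have h4 : x * (y * x) = x * y * x⁻¹ := by
          rw [inv_eq_of_mul_eq_one_left hxx, mul_assoc]
        rw [h4]; exact h3
    refine ⟨h1, htwo, fun u hu hu2 => ?_⟩
    have h3 := h2 u hu hu2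
    rw [eq_bot_iff, ← h3, inf_comm]
    -- an odd group lies in `X`
    have hsq : ∀ g : G, g * g ∈ Fs G := by
      intro g
      rcases htwo g with hg | hg
      · exact mul_mem hg hg
      · have h4 : g * g = (x * (x * g) * x⁻¹) * (x * g) := by
          have hxi : x⁻¹ = x := inv_eq_of_mul_eq_one_left hxx
          rw [hxi]
          calc g * g = g * (1 * g) := by rw [one_mul]
            _ = g * ((x * x) * g) := by rw [hxx]
            _ = 1 * g * x * (x * g) := by group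
            _ = (x * x) * g * x * (x * g) := by rw [hxx]
            _ = _ := by group
        rw [h4]
        exact mul_mem (hXn.conj_mem _ hg x) hg
    intro o ho
    have hoX : o ∈ Fs G := by
      have h4 := orderOf_dvd_natCard (⟨o, ho⟩ : ↥(core (centralizer ({u} : Set G))))
      rw [Subgroup.orderOf_mk] at h4
      exact Res.PGLFacts.mem_of_sq_mem (hsq o) (Odd.of_dvd_nat (odd_card_core _) h4)
    have := PumpGen.inf_le_core' (H := Fs G) ho hoX
    rwa [inf_comm] at this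
  · exact absurd htop h1

end Cfsg.Agent.UGT.LSup
end

-- part: UGT/L34T2/FrJ
section
/-!
# Type `L₃(4)`, frame: `J = P Q`, types, transport
-/

set_option autoImplicit false

open Subgroup

namespace Cfsg.Agent.UGT.L34T2

variable {G : Type*} [Group G]

namespace Heis

variable {P Z : Subgroup G} {A : Bool → Subgroup G}

/-- `Z = {1, b, z, z b}` -/
theorem four (h : Heis P Z A) {b z u : G} (hb : b ∈ Z) (b1 : b ≠ 1) (hz : z ∈ Z) (hz1 : z ≠ 1) (hzb : z ≠ b)
    (hu : u ∈ Z) : u = 1 ∨ u = b ∨ u = z ∨ u = z * b := by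
  classical
  by_contra hcon
  push Not at hcon
  have hbb : b * b = 1 := h.Zsq hb
  have hZf : Finite Z := Nat.finite_of_card_ne_zero (by rw [h.cardZ]; norm_num)
  have hsub : ({1, b, z, z * b, u} : Finset G) ⊆ (Set.toFinite (Z : Set G)).toFinset := by
    intro v hv
    rw [Set.Finite.mem_toFinset]
    simp only [Finset.mem_insert, Finset.mem_singleton] at hv
    rcases hv with rfl | rfl | rfl | rfl | rfl
    · exact Z.one_mem
    · exact hb
    · exact hz
    · exact Z.mul_mem hz hb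
    · exact hu
  have hc := Finset.card_le_card hsub
  have hc2 : ((Set.toFinite (Z : Set G)).toFinset).card = 4 := by
    rw [← Set.ncard_eq_toFinset_card (Z : Set G)]
    exact h.cardZ
  have hc3 : ({1, b, z, z * b, u} : Finset G).card = 5 := by
    have n1 : (1 : G) ≠ b := Ne.symm b1
    have n2 : z * b ≠ 1 := by
      intro e
      apply hzb
      calc z = z * (b * b) := by rw [hbb, mul_one]
        _ = (z * b) * b := by group
        _ = b := by rw [e, one_mul]
    have n3 : z * b ≠ b := by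
      intro e; exact hz1 (mul_eq_right.mp e)
    have n4 : z ≠ z * b := by
      intro e; exact b1 (left_eq_mul.mp e)
    rw [Finset.card_insert_of_notMem, Finset.card_insert_of_notMem, Finset.card_insert_of_notMem,
      Finset.card_insert_of_notMem, Finset.card_singleton]
    · simp only [Finset.mem_singleton]; exact Ne.symm hcon.2.2.2
    · simp only [Finset.mem_insert, Finset.mem_singleton]; push Not
      exact ⟨n4, Ne.symm hcon.2.2.1⟩
    · simp only [Finset.mem_insert, Finset.mem_singleton]; push Not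
      exact ⟨Ne.symm hzb, Ne.symm n3, Ne.symm hcon.2.1⟩
    · simp only [Finset.mem_insert, Finset.mem_singleton]; push Not
      exact ⟨n1, Ne.symm hz1, Ne.symm n2, Ne.symm hcon.1⟩
  omega

end Heis

namespace Fr

variable {T P Q Z : Subgroup G} {A : Bool → Subgroup G} {b : G}

/-- elements of `P Q` -/
theorem mem_J (h : Fr T P Q Z A b) {y : G} : y ∈ P ⊔ Q ↔ ∃ p ∈ P, ∃ q ∈ Q, y = p * q := by
  constructor
  · intro hy
    have hc : ∀ u ∈ P ⊔ Q, ∃ p ∈ P, ∃ q ∈ Q, u = p * q := by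
      intro u hu
      rw [sup_eq_closure] at hu
      induction hu using closure_induction with
      | mem u hu =>
        rcases hu with hu | hu
        · exact ⟨u, hu, 1, Q.one_mem, by group⟩
        · exact ⟨1, P.one_mem, u, hu, by group⟩
      | one => exact ⟨1, P.one_mem, 1, Q.one_mem, by group⟩
      | mul u v _ _ iu iv =>
        obtain ⟨p, hp, q, hq, rfl⟩ := iu
        obtain ⟨p', hp', q', hq', rfl⟩ := iv
        refine ⟨p * p', P.mul_mem hp hp', q * q', Q.mul_mem hq hq', ?_⟩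
        have e := h.comm p' hp' q hq
        calc p * q * (p' * q') = p * (q * p') * q' := by group
          _ = p * (p' * q) * q' := by rw [e]
          _ = _ := by group
      | inv u _ iu =>
        obtain ⟨p, hp, q, hq, rfl⟩ := iu
        refine ⟨p⁻¹, P.inv_mem hp, q⁻¹, Q.inv_mem hq, ?_⟩
        have e := h.comm p hp q hq
        rw [← mul_inv_rev, ← e]
    exact hc y hy
  · rintro ⟨p, hp, q, hq, rfl⟩
    exact mul_mem (mem_sup_left hp) (mem_sup_right hq)

theorem JT (h : Fr T P Q Z A b) : P ⊔ Q ≤ T := sup_le h.PT h.QT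

/-- the decomposition is unique -/
theorem uniq (h : Fr T P Q Z A b) {p p' q q' : G} (hp : p ∈ P) (hp' : p' ∈ P) (hq : q ∈ Q) (hq' : q' ∈ Q)
    (e : p * q = p' * q') : p = p' ∧ q = q' := by
  have h1 : p'⁻¹ * p = q' * q⁻¹ := by
    calc p'⁻¹ * p = p'⁻¹ * (p * q) * q⁻¹ := by group
      _ = p'⁻¹ * (p' * q') * q⁻¹ := by rw [e]
      _ = _ := by group
  have h2 : p'⁻¹ * p = 1 := h.disj _ (P.mul_mem (P.inv_mem hp') hp) (by
    rw [h1]; exact Q.mul_mem hq' (Q.inv_mem hq))
  have h3 : p = p' := (inv_mul_eq_one.mp h2).symm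
  exact ⟨h3, by rw [h3] at e; exact mul_left_cancel e⟩

theorem nJ (h : Fr T P Q Z A b) {y j : G} (hy : y ∈ T) (hj : j ∈ P ⊔ Q) : y * j * y⁻¹ ∈ P ⊔ Q := by
  obtain ⟨p, hp, q, hq, rfl⟩ := h.mem_J.mp hj
  rw [conj_mul]
  exact mul_mem (mem_sup_left (h.nP y hy p hp)) (mem_sup_right (h.nQ y hy q hq))

theorem nJ' (h : Fr T P Q Z A b) {y j : G} (hy : y ∈ T) (hj : j ∈ P ⊔ Q) : y⁻¹ * j * y ∈ P ⊔ Q := by
  have := h.nJ (T.inv_mem hy) hj
  rwa [inv_inv] at this

/-- `T` normalises `Z` -/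
theorem nZ (h : Fr T P Q Z A b) {y z : G} (hy : y ∈ T) (hz : z ∈ Z) : y * z * y⁻¹ ∈ Z := by
  rcases h.actA y hy with h1 | h1
  · exact h.inf _ (h1 false z (h.ZA false hz)) (h1 true z (h.ZA true hz))
  · exact h.inf _ (h1 true z (h.ZA true hz)) (h1 false z (h.ZA false hz))

theorem bb (h : Fr T P Q Z A b) : b * b = 1 := h.Zsq h.bZ

theorem bP (h : Fr T P Q Z A b) : b ∈ P := h.ZP h.bZ

/-- `y` does not fix and swap at the same time -/
theorem not_fix_swap (h : Fr T P Q Z A b) {y : G}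
    (h1 : ∀ i, ∀ u ∈ A i, y * u * y⁻¹ ∈ A i) (h2 : ∀ i, ∀ u ∈ A i, y * u * y⁻¹ ∈ A (!i)) : False := by
  obtain ⟨u, hu, huZ⟩ := h.exists_not_mem false
  have h3 : y * u * y⁻¹ ∈ Z := h.inf _ (h1 false u hu) (h2 false u hu)
  -- `u ∈ y⁻¹ Z y`; use finiteness of `Z`
  have hZf : Finite Z := Nat.finite_of_card_ne_zero (by rw [h.cardZ]; norm_num)
  have h4 : ∀ z ∈ Z, y * z * y⁻¹ ∈ Z := by
    intro z hz
    exact h.inf _ (h1 false z (h.ZA false hz)) (h1 true z (h.ZA true hz))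
  have h5 : cjg y Z = Z := by
    have hle : cjg y Z ≤ Z := by
      intro w hw
      obtain ⟨z, hz, rfl⟩ := exists_of_cjg hw
      exact h4 z hz
    exact SetLike.coe_injective (Set.eq_of_subset_of_ncard_le hle
      (by
        have e : (Z : Set G).ncard = ((cjg y Z : Subgroup G) : Set G).ncard := (card_cjg y Z).symm
        exact e.le) (Set.toFinite _))
  rw [← h5, conj_mem_cjg] at h3
  exact huZ h3

/-- `y²` is inner -/
theorem sq_mem (h : Fr T P Q Z A b) {y : G} (hy : y ∈ T) : y * y ∈ P ⊔ Q := by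
  rw [h.mem_J]
  refine h.inner (y * y) (T.mul_mem hy hy) ?_ ?_
  · intro i u hu
    have e : y * y * u * (y * y)⁻¹ = y * (y * u * y⁻¹) * y⁻¹ := by group
    rw [e]
    rcases h.actA y hy with h1 | h1
    · exact h1 i _ (h1 i u hu)
    · have := h1 (!i) _ (h1 i u hu)
      rwa [Bool.not_not] at this
  · intro z hz
    rcases h.actZ y hy with h1 | h1
    · rw [mul_assoc, h1 z hz, ← mul_assoc, h1 z hz, mul_assoc]
    · -- `y` acts on `Z` as a transvection
      set w := y * z * y⁻¹ with hw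
      have hwZ : w ∈ Z := h.nZ hy hz
      set w2 := y * w * y⁻¹ with hw2
      have hw2Z : w2 ∈ Z := h.nZ hy hwZ
      have e2 : y * y * z = w2 * (y * y) := by rw [hw2, hw]; group
      suffices hs : w2 = z by rw [e2, hs]
      by_cases hzb : z = 1 ∨ z = b
      · have hf : y * z = z * y := by
          rcases hzb with rfl | rfl
          · simp
          · exact h.bT y hy
        have : w = z := by rw [hw, hf]; group
        rw [hw2, this, ← hw, this]
      · push Not at hzb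
        rcases h.four h.bZ h.b1 hz hzb.1 hzb.2 hwZ with e | e | e | e
        · exfalso
          apply hzb.1
          have : y * z * y⁻¹ = 1 := e
          rwa [conj_eq_one_iff] at this
        · exfalso
          apply hzb.2
          have h4 : y * z * y⁻¹ = y * b * y⁻¹ := by
            rw [h.bT y hy, mul_inv_cancel_right]; exact e
          exact mul_left_cancel (mul_right_cancel h4)
        · rw [hw2, e, ← hw, e]
        · rw [hw2, e, conj_mul, ← hw, e, h.bT y hy, mul_inv_cancel_right, mul_assoc, h.bb, mul_one]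

/-- `y` not central on `Z`: `z ↦ z b` -/
theorem act_nc (h : Fr T P Q Z A b) {y z : G} (hy : y ∈ T) (hn : ¬ ∀ z ∈ Z, y * z = z * y) (hz : z ∈ Z)
    (hz1 : z ≠ 1) (hzb : z ≠ b) : y * z * y⁻¹ = z * b := by
  have h1 := (h.actZ y hy).resolve_left hn
  have hne : y * z * y⁻¹ ≠ z := by
    intro e
    have : y * z = z * y := mul_inv_eq_iff_eq_mul.mp e
    rcases h1 z hz this with e | e
    · exact hz1 e
    · exact hzb e
  rcases h.four h.bZ h.b1 hz hz1 hzb (h.nZ hy hz) with e | e | e | e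
  · exact absurd (conj_eq_one_iff.mp e) hz1
  · exfalso
    apply hzb
    have h4 : y * z * y⁻¹ = y * b * y⁻¹ := by
      rw [h.bT y hy, mul_inv_cancel_right]; exact e
    exact mul_left_cancel (mul_right_cancel h4)
  · exact absurd e hne
  · exact e

theorem not_nc (h : Fr T P Q Z A b) {y z : G} (hy : y ∈ T) (hn : ¬ ∀ z ∈ Z, y * z = z * y) (hz : z ∈ Z)
    (e : y * z = z * y) : z = 1 ∨ z = b := (h.actZ y hy).resolve_left hn z hz e

/-- elements of the same type are congruent modulo `J` -/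
theorem of_same (h : Fr T P Q Z A b) {y y' : G} (hy : y ∈ T) (hy' : y' ∈ T)
    (hA : (∀ i, ∀ u ∈ A i, y * u * y⁻¹ ∈ A i) ↔ (∀ i, ∀ u ∈ A i, y' * u * y'⁻¹ ∈ A i))
    (hZ : (∀ z ∈ Z, y * z = z * y) ↔ (∀ z ∈ Z, y' * z = z * y')) : y * y' ∈ P ⊔ Q := by
  rw [h.mem_J]
  refine h.inner _ (T.mul_mem hy hy') ?_ ?_
  · intro i u hu
    have e : y * y' * u * (y * y')⁻¹ = y * (y' * u * y'⁻¹) * y⁻¹ := by group
    rw [e]
    rcases h.actA y hy with h1 | h1
    · exact h1 i _ (hA.mp h1 i u hu)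
    · rcases h.actA y' hy' with h2 | h2
      · exact (h.not_fix_swap (hA.mpr h2) h1).elim
      · have := h1 (!i) _ (h2 i u hu)
        rwa [Bool.not_not] at this
  · intro z hz
    by_cases h1 : ∀ z ∈ Z, y * z = z * y
    · rw [mul_assoc, hZ.mp h1 z hz, ← mul_assoc, h1 z hz, mul_assoc]
    · have h2 : ¬ ∀ z ∈ Z, y' * z = z * y' := fun h => h1 (hZ.mpr h)
      by_cases hzb : z = 1 ∨ z = b
      · rcases hzb with rfl | rfl
        · simp
        · exact h.bT _ (T.mul_mem hy hy')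
      · push Not at hzb
        have e : y * y' * z * (y * y')⁻¹ = z := by
          have e1 : y * y' * z * (y * y')⁻¹ = y * (y' * z * y'⁻¹) * y⁻¹ := by group
          rw [e1, h.act_nc hy' h2 hz hzb.1 hzb.2, conj_mul, h.act_nc hy h1 hz hzb.1 hzb.2, h.bT y hy,
            mul_inv_cancel_right, mul_assoc, h.bb, mul_one]
        calc y * y' * z = (y * y' * z * (y * y')⁻¹) * (y * y') := by group
          _ = z * (y * y') := by rw [e]

theorem of_same' (h : Fr T P Q Z A b) {y y' : G} (hy : y ∈ T) (hy' : y' ∈ T)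
    (hA : (∀ i, ∀ u ∈ A i, y * u * y⁻¹ ∈ A i) ↔ (∀ i, ∀ u ∈ A i, y' * u * y'⁻¹ ∈ A i))
    (hZ : (∀ z ∈ Z, y * z = z * y) ↔ (∀ z ∈ Z, y' * z = z * y')) : y⁻¹ * y' ∈ P ⊔ Q := by
  have h1 := h.of_same hy hy' hA hZ
  have h2 := h.sq_mem hy
  have e : y⁻¹ * y' = (y * y)⁻¹ * (y * y') := by group
  rw [e]
  exact mul_mem (inv_mem h2) h1

/-- `T / J` is abelian -/
theorem comm_mem (h : Fr T P Q Z A b) {y y' : G} (hy : y ∈ T) (hy' : y' ∈ T) : y * y' * y⁻¹ * y'⁻¹ ∈ P ⊔ Q := by
  have h1 := h.sq_mem (T.mul_mem hy hy')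
  have h2 := h.nJ' hy' (inv_mem (h.sq_mem hy))
  have h3 := inv_mem (h.sq_mem hy')
  have e : y * y' * y⁻¹ * y'⁻¹ = (y * y' * (y * y')) * (y'⁻¹ * (y * y)⁻¹ * y') * (y' * y')⁻¹ := by group
  rw [e]
  exact mul_mem (mul_mem h1 h2) h3

/-- `|T / J| ≤ 4` -/
theorem relIndex_le (h : Fr T P Q Z A b) : (P ⊔ Q).relIndex T ≤ 4 := by
  classical
  let φ : (↥T ⧸ (P ⊔ Q).subgroupOf T) → Bool × Bool := fun q =>
    (decide (∀ i, ∀ u ∈ A i, (q.out : G) * u * (q.out : G)⁻¹ ∈ A i),
      decide (∀ z ∈ Z, (q.out : G) * z = z * (q.out : G)))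
  have hφ : Function.Injective φ := by
    intro q q' e
    simp only [φ, Prod.mk.injEq, decide_eq_decide] at e
    have h1 := h.of_same' q.out.2 q'.out.2 e.1 e.2
    rw [← Quotient.out_eq q, ← Quotient.out_eq q']
    refine QuotientGroup.eq.mpr ?_
    rw [mem_subgroupOf]
    exact h1
  have := Nat.card_le_card_of_injective φ hφ
  have e : Nat.card (Bool × Bool) = 4 := by simp
  rw [e] at this
  exact this

theorem card_J (h : Fr T P Q Z A b) : Nat.card (P ⊔ Q : Subgroup G) = 64 * Nat.card Q := by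
  rw [← h.cardP, ← Nat.card_prod]
  refine (Nat.card_congr (Equiv.ofBijective (fun u : P × Q => (⟨u.1 * u.2, h.mem_J.mpr
    ⟨_, u.1.2, _, u.2.2, rfl⟩⟩ : (P ⊔ Q : Subgroup G))) ⟨?_, ?_⟩)).symm
  · rintro ⟨p, q⟩ ⟨p', q'⟩ e
    have e' := Subtype.ext_iff.mp e
    obtain ⟨e1, e2⟩ := h.uniq p.2 p'.2 q.2 q'.2 e'
    exact Prod.ext (Subtype.ext e1) (Subtype.ext e2)
  · rintro ⟨j, hj⟩
    obtain ⟨p, hp, q, hq, rfl⟩ := h.mem_J.mp hj
    exact ⟨(⟨p, hp⟩, ⟨q, hq⟩), rfl⟩

/-- `C_J(y) = C_P(y) C_Q(y)` for `y ∈ T` -/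
theorem cen_J (h : Fr T P Q Z A b) {y p q : G} (hy : y ∈ T) (hp : p ∈ P) (hq : q ∈ Q) :
    y * (p * q) = p * q * y ↔ y * p = p * y ∧ y * q = q * y := by
  constructor
  · intro e
    have e1 : (y * p * y⁻¹) * (y * q * y⁻¹) = p * q := by
      rw [← conj_mul, e]; group
    obtain ⟨e2, e3⟩ := h.uniq (h.nP y hy p hp) hp (h.nQ y hy q hq) hq e1
    exact ⟨mul_inv_eq_iff_eq_mul.mp e2, mul_inv_eq_iff_eq_mul.mp e3⟩
  · rintro ⟨e1, e2⟩
    rw [← mul_assoc, e1, mul_assoc, e2, mul_assoc]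

end Fr

end Cfsg.Agent.UGT.L34T2
end

-- part: UGT/L34T2/FrMap
section
/-!
# Type `L₃(4)`, frame: transport under injective homomorphisms
-/

set_option autoImplicit false

open Subgroup

namespace Cfsg.Agent.UGT.L34T2

variable {G : Type*} [Group G]

namespace Fr

variable {T P Q Z : Subgroup G} {A : Bool → Subgroup G} {b : G}

theorem map (h : Fr T P Q Z A b) {G' : Type*} [Group G'] (f : G →* G') (hf : Function.Injective f) :
    Fr (T.map f) (P.map f) (Q.map f) (Z.map f) (fun i => (A i).map f) (f b) := by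
  have hmem : ∀ {H : Subgroup G} {y : G}, f y ∈ H.map f ↔ y ∈ H := by
    intro H y
    constructor
    · rintro ⟨u, hu, e⟩
      rwa [← hf e]
    · exact mem_map_of_mem f
  have hconj : ∀ y u : G, f y * f u * (f y)⁻¹ = f (y * u * y⁻¹) := by
    intro y u; rw [map_mul, map_mul, map_inv]
  have hcm : ∀ y u : G, f y * f u = f u * f y ↔ y * u = u * y := by
    intro y u
    rw [← map_mul, ← map_mul]
    exact hf.eq_iff
  have hfix : ∀ y : G, (∀ i, ∀ u ∈ (A i).map f, f y * u * (f y)⁻¹ ∈ (A i).map f) ↔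
      ∀ i, ∀ u ∈ A i, y * u * y⁻¹ ∈ A i := by
    intro y
    constructor
    · intro h1 i u hu
      have := h1 i _ (mem_map_of_mem f hu)
      rwa [hconj, hmem] at this
    · rintro h1 i _ ⟨u, hu, rfl⟩
      rw [hconj, hmem]
      exact h1 i u hu
  have hswap : ∀ y : G, (∀ i, ∀ u ∈ (A i).map f, f y * u * (f y)⁻¹ ∈ (A (!i)).map f) ↔
      ∀ i, ∀ u ∈ A i, y * u * y⁻¹ ∈ A (!i) := by
    intro y
    constructor
    · intro h1 i u hu
      have := h1 i _ (mem_map_of_mem f hu)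
      rwa [hconj, hmem] at this
    · rintro h1 i _ ⟨u, hu, rfl⟩
      rw [hconj, hmem]
      exact h1 i u hu
  have hz : ∀ y : G, (∀ z ∈ Z.map f, f y * z = z * f y) ↔ ∀ z ∈ Z, y * z = z * y := by
    intro y
    constructor
    · intro h1 z hz
      exact (hcm _ _).mp (h1 _ (mem_map_of_mem f hz))
    · rintro h1 _ ⟨z, hz, rfl⟩
      exact (hcm _ _).mpr (h1 z hz)
  have hPc : ∀ y : G, (∀ p ∈ P.map f, f y * p = p * f y) ↔ ∀ p ∈ P, y * p = p * y := by
    intro y
    constructor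
    · intro h1 z hz
      exact (hcm _ _).mp (h1 _ (mem_map_of_mem f hz))
    · rintro h1 _ ⟨z, hz, rfl⟩
      exact (hcm _ _).mpr (h1 z hz)
  have hin : ∀ y : G, (∃ p ∈ P.map f, ∃ q ∈ Q.map f, f y = p * q) ↔ ∃ p ∈ P, ∃ q ∈ Q, y = p * q := by
    intro y
    constructor
    · rintro ⟨_, ⟨p, hp, rfl⟩, _, ⟨q, hq, rfl⟩, e⟩
      rw [← map_mul] at e
      exact ⟨p, hp, q, hq, hf e⟩
    · rintro ⟨p, hp, q, hq, rfl⟩
      exact ⟨_, mem_map_of_mem f hp, _, mem_map_of_mem f hq, map_mul _ _ _⟩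
  refine { h.toHeis.map f hf with
    two := ?_, PT := map_mono h.PT, QT := map_mono h.QT, nP := ?_, nQ := ?_, disj := ?_, comm := ?_,
    bZ := mem_map_of_mem f h.bZ, b1 := ?_, bT := ?_, cenP := ?_, actA := ?_, actZ := ?_, inner := ?_,
    outer := ?_, inv2 := ?_, conj := ?_, card8 := ?_, der := ?_, xQ8 := ?_, fD8 := ?_, gZ := ?_, comx := ?_ }
  · exact h.two.map f
  · rintro _ ⟨y, hy, rfl⟩ _ ⟨p, hp, rfl⟩
    rw [hconj, hmem]; exact h.nP y hy p hp
  · rintro _ ⟨y, hy, rfl⟩ _ ⟨p, hp, rfl⟩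
    rw [hconj, hmem]; exact h.nQ y hy p hp
  · rintro _ ⟨y, hy, rfl⟩ h1
    rw [hmem] at h1
    rw [h.disj y hy h1, map_one]
  · rintro _ ⟨y, hy, rfl⟩ _ ⟨p, hp, rfl⟩
    exact (hcm _ _).mpr (h.comm y hy p hp)
  · intro e
    exact h.b1 (hf (e.trans (map_one f).symm))
  · rintro _ ⟨y, hy, rfl⟩
    exact (hcm _ _).mpr (h.bT y hy)
  · rintro _ ⟨y, hy, rfl⟩ h1
    rw [hPc] at h1
    obtain ⟨z, hz, q, hq, rfl⟩ := h.cenP y hy h1
    exact ⟨_, mem_map_of_mem f hz, _, mem_map_of_mem f hq, map_mul _ _ _⟩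
  · rintro _ ⟨y, hy, rfl⟩
    rw [hfix, hswap]
    exact h.actA y hy
  · rintro _ ⟨y, hy, rfl⟩
    rw [hz]
    rcases h.actZ y hy with h1 | h1
    · exact Or.inl h1
    · right
      rintro _ ⟨z, hz, rfl⟩ e
      rcases h1 z hz ((hcm _ _).mp e) with rfl | rfl
      · exact Or.inl (map_one f)
      · exact Or.inr rfl
  · rintro _ ⟨y, hy, rfl⟩
    rw [hfix, hz, hin]
    exact h.inner y hy
  · rintro _ ⟨y, hy, rfl⟩ h1
    rw [hin]
    refine h.outer y hy ?_
    intro p hp
    have := h1 _ (mem_map_of_mem f hp)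
    rwa [hconj, ← map_inv, ← map_mul, hmem] at this
  · rintro _ ⟨y, hy, rfl⟩ h1
    rw [hin] at h1
    obtain ⟨p, hp, e⟩ := h.inv2 y hy h1
    refine ⟨_, mem_map_of_mem f hp, ?_⟩
    rwa [← map_mul, ← map_mul, hmem]
  · rintro _ ⟨y, hy, rfl⟩ h1 h2 _ ⟨p, hp, rfl⟩ e
    rw [hin] at h1
    rw [← map_mul, hmem] at h2
    have e' : y⁻¹ * p * y * p = 1 := by
      rw [← map_inv, ← map_mul, ← map_mul, ← map_mul] at e
      exact hf (e.trans (map_one f).symm)
    obtain ⟨r, hr, e1⟩ := h.conj y hy h1 h2 p hp e'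
    exact ⟨_, mem_map_of_mem f hr, by rw [hconj, e1, map_mul]⟩
  · rintro _ ⟨y, hy, rfl⟩ h1 h2
    rw [← map_mul, hmem] at h1
    rw [hz] at h2
    rw [← h.card8 y hy h1 h2]
    symm
    refine Nat.card_congr (Equiv.ofBijective
      (fun u : {p : G // p ∈ P ∧ y * p = p * y} =>
        (⟨f u.1, mem_map_of_mem f u.2.1, (hcm _ _).mpr u.2.2⟩ :
          {p : G' // p ∈ P.map f ∧ f y * p = p * f y})) ⟨?_, ?_⟩)
    · rintro u v e
      exact Subtype.ext (hf (Subtype.ext_iff.mp e))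
    · rintro ⟨_, ⟨p, hp, rfl⟩, e⟩
      exact ⟨⟨p, hp, (hcm _ _).mp e⟩, rfl⟩
  · rintro _ ⟨y, hy, rfl⟩ h1 h2
    rw [← map_mul, hmem] at h1
    rw [hz] at h2
    obtain ⟨c, hc, d, hd, e1, e2, e3⟩ := h.der y hy h1 h2
    refine ⟨_, mem_map_of_mem f hc, _, mem_map_of_mem f hd, (hcm _ _).mpr e1, (hcm _ _).mpr e2, ?_⟩
    rw [hconj, ← map_inv, ← map_mul, e3]
  · rintro _ ⟨y, hy, rfl⟩ h1 h2 h3 _ ⟨p, hp, rfl⟩ e1 e2
    rw [← map_mul, hmem] at h1
    rw [hz] at h2
    rw [hswap] at h3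
    rw [hcm] at e1
    rw [← map_mul] at e2
    rcases h.xQ8 y hy h1 h2 h3 p hp e1 (hf (e2.trans (map_one f).symm)) with rfl | rfl
    · exact Or.inl (map_one f)
    · exact Or.inr rfl
  · rintro _ ⟨y, hy, rfl⟩ h1 h2 h3
    rw [← map_mul, hmem] at h1
    rw [hz] at h2
    rw [hfix] at h3
    obtain ⟨p, hp, e1, e2, n1, n2⟩ := h.fD8 y hy h1 h2 h3
    refine ⟨_, mem_map_of_mem f hp, (hcm _ _).mpr e1, by rw [← map_mul, e2, map_one], ?_, ?_⟩
    · intro e; exact n1 (hf (e.trans (map_one f).symm))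
    · intro e; exact n2 (hf e)
  · rintro _ ⟨y, hy, rfl⟩ h1 h2 h3 _ ⟨p, hp, rfl⟩ e
    rw [hin] at h1
    rw [hz] at h2
    rw [← map_mul, hmem] at h3
    rw [hcm] at e
    rw [hmem]
    exact h.gZ y hy h1 h2 h3 p hp e
  · rintro _ ⟨w, hw, rfl⟩ h1 h2 h3 _ ⟨y, hy, rfl⟩ h4
    rw [← map_mul, hmem] at h1
    rw [hz] at h2
    rw [hswap] at h3
    rw [hin] at h4
    obtain ⟨p, hp, e1, e2⟩ := h.comx w hw h1 h2 h3 y hy h4
    refine ⟨_, mem_map_of_mem f hp, ?_, ?_⟩
    · rwa [← map_mul, ← map_mul, hmem]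
    · rwa [← map_mul, hconj, ← map_inv, ← map_mul, hmem]

theorem cj (h : Fr T P Q Z A b) (g : G) :
    Fr (cjg g T) (cjg g P) (cjg g Q) (cjg g Z) (fun i => cjg g (A i)) (g * b * g⁻¹) :=
  h.map _ (MulAut.conj g).injective

end Fr

end Cfsg.Agent.UGT.L34T2
end

-- part: UGT/L34T2/DblSymm
section
/-!
# Type `L₃(4)`, double frame: symmetry `P ↔ Q`
-/

set_option autoImplicit false

open Subgroup

namespace Cfsg.Agent.UGT.L34T2

variable {G : Type*} [Group G] [Finite G]

theorem cjg_eq_of_le {g : G} {H K : Subgroup G} (h1 : ∀ u ∈ H, g * u * g⁻¹ ∈ K)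
    (h2 : Nat.card K ≤ Nat.card H) : cjg g H = K := by
  have hle : cjg g H ≤ K := by
    intro w hw
    obtain ⟨z, hz, rfl⟩ := exists_of_cjg hw
    exact h1 z hz
  exact Subgroup.eq_of_le_of_card_ge hle (by rw [card_cjg]; exact h2)

omit [Finite G] in
theorem cjg_mul (g k : G) (H : Subgroup G) : cjg (g * k) H = cjg g (cjg k H) := by
  ext y
  rw [mem_cjg, mem_cjg, mem_cjg]
  have : (g * k)⁻¹ * y * (g * k) = k⁻¹ * (g⁻¹ * y * g) * k := by group
  rw [this]

omit [Finite G] in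
theorem cjg_mono {g : G} {H K : Subgroup G} (h : H ≤ K) : cjg g H ≤ cjg g K := map_mono h

omit [Finite G] in
theorem cjg_of_mem {g : G} {H : Subgroup G} (h : g ∈ H) : cjg g H = H := by
  ext y
  rw [mem_cjg]
  constructor
  · intro h1
    have := H.mul_mem (H.mul_mem h h1) (H.inv_mem h)
    have e : g * (g⁻¹ * y * g) * g⁻¹ = y := by group
    rwa [e] at this
  · intro h1
    exact H.mul_mem (H.mul_mem (H.inv_mem h) h1) h

namespace Dbl

variable {S T P Q Z : Subgroup G} {A : Bool → Subgroup G} {K : Subgroup G} {a b t x : G}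

omit [Finite G] in
theorem t2 (h : Dbl S T P Q Z A K a b t x) : t * t ∈ T := by
  rcases h.ST (t * t) (S.mul_mem h.tS h.tS) with h1 | h1
  · exact h1
  · exfalso
    have e : t⁻¹ * (t * t) = t := by group
    rw [e] at h1
    exact h.tn h1

theorem cT (h : Dbl S T P Q Z A K a b t x) : cjg t T = T := cjg_eq_of_le h.tT le_rfl

theorem card_Q (h : Dbl S T P Q Z A K a b t x) : Nat.card Q = 64 := by
  have h1 : Nat.card Q ≤ Nat.card P := by
    rw [← card_cjg t Q]
    refine Subgroup.card_le_of_le ?_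
    intro w hw
    obtain ⟨z, hz, rfl⟩ := exists_of_cjg hw
    exact h.tQ z hz
  have h2 : Nat.card P ≤ Nat.card Q := by
    rw [← card_cjg t P]
    refine Subgroup.card_le_of_le ?_
    intro w hw
    obtain ⟨z, hz, rfl⟩ := exists_of_cjg hw
    exact h.tP z hz
  rw [← h.cardP]
  exact le_antisymm h1 h2

theorem cP (h : Dbl S T P Q Z A K a b t x) : cjg t P = Q :=
  cjg_eq_of_le h.tP (by rw [h.card_Q, h.cardP])

theorem cQ (h : Dbl S T P Q Z A K a b t x) : cjg t Q = P :=
  cjg_eq_of_le h.tQ (by rw [h.card_Q, h.cardP])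

theorem mem_T_conj (h : Dbl S T P Q Z A K a b t x) {y : G} : t * y * t⁻¹ ∈ T ↔ y ∈ T := by
  conv_lhs => rw [← h.cT]
  exact conj_mem_cjg

theorem symm (h : Dbl S T P Q Z A K a b t x) :
    Dbl S T Q P (cjg t Z) (fun i => cjg t (A i)) (cjg t K) b a t x where
  toFr := by
    have h1 := h.toFr.cj t
    rw [h.cT, h.cP, h.cQ, h.ta] at h1
    exact h1
  S2 := h.S2
  TS := h.TS
  tS := h.tS
  tn := h.tn
  ST := h.ST
  tT := h.tT
  tP := h.tQ
  tQ := h.tP
  ta := h.tb
  tb := h.ta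
  xT := h.xT
  xx := h.xx
  xZ := by
    intro h1
    apply h.xZ'
    intro z hz
    have h2 := h1 (t * z * t⁻¹) (conj_mem_cjg.mpr hz)
    rw [← commute_iff_conj t]
    have e : t * (t⁻¹ * x * t) * t⁻¹ = x := by group
    rwa [e]
  xA := by
    intro i u hu
    obtain ⟨v, hv, rfl⟩ := exists_of_cjg hu
    have h1 := h.xA' i v hv
    rw [mem_cjg]
    have e : t⁻¹ * (x * (t * v * t⁻¹) * x⁻¹) * t = t⁻¹ * x * t * v * (t⁻¹ * x * t)⁻¹ := by group
    rwa [e]
  xZ' := by
    intro h1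
    apply h.xZ
    intro z hz
    have h2 : (t * t)⁻¹ * z * (t * t) ∈ Z := by
      have := h.toFr.nZ (T.inv_mem h.t2) hz
      rwa [inv_inv] at this
    have h3 := h1 (t * ((t * t)⁻¹ * z * (t * t)) * t⁻¹) (conj_mem_cjg.mpr h2)
    rw [← commute_iff_conj t] at h3
    have e1 : t * (t⁻¹ * x * t) * t⁻¹ = x := by group
    have e2 : t * (t * ((t * t)⁻¹ * z * (t * t)) * t⁻¹) * t⁻¹ = z := by group
    rwa [e1, e2] at h3
  xA' := by
    intro i u hu
    obtain ⟨v, hv, rfl⟩ := exists_of_cjg hu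
    rw [mem_cjg]
    have e : t⁻¹ * (t⁻¹ * x * t * (t * v * t⁻¹) * (t⁻¹ * x * t)⁻¹) * t =
      (t * t)⁻¹ * (x * ((t * t) * v * (t * t)⁻¹) * x⁻¹) * (t * t) := by group
    rw [e]
    rcases h.actA _ (T.inv_mem h.t2) with h1 | h1
    · have h1' : ∀ i, ∀ u ∈ A i, (t * t) * u * (t * t)⁻¹ ∈ A i := by
        rcases h.actA _ h.t2 with h2 | h2
        · exact h2
        · exfalso
          obtain ⟨u, hu, huZ⟩ := h.exists_not_mem false
          have h3 := h1 _ _ (h2 false u hu)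
          have e : (t * t)⁻¹ * (t * t * u * (t * t)⁻¹) * (t * t)⁻¹⁻¹ = u := by group
          rw [e] at h3
          exact huZ (h.inf u hu h3)
      have h2 := h1 _ _ (h.xA i _ (h1' i v hv))
      rwa [inv_inv] at h2
    · have h1' : ∀ i, ∀ u ∈ A i, (t * t) * u * (t * t)⁻¹ ∈ A (!i) := by
        rcases h.actA _ h.t2 with h2 | h2
        · exfalso
          obtain ⟨u, hu, huZ⟩ := h.exists_not_mem false
          have h3 := h1 _ _ (h2 false u hu)
          have e : (t * t)⁻¹ * (t * t * u * (t * t)⁻¹) * (t * t)⁻¹⁻¹ = u := by group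
          rw [e] at h3
          exact huZ (h.inf u hu h3)
        · exact h2
      have h2 := h1 _ _ (h.xA _ _ (h1' i v hv))
      rw [inv_inv, Bool.not_not] at h2
      exact h2
  syl := h.syl
  sylT := by
    intro R hR hc
    obtain ⟨g, hg, hg2⟩ := h.sylT (cjg t R) (hR.map _) (by
      intro r hr
      obtain ⟨u, hu, rfl⟩ := exists_of_cjg hr
      rw [← h.ta, commute_iff_conj]
      exact hc u hu)
    refine ⟨t⁻¹ * g * t, ?_, ?_⟩
    · rw [← commute_iff_conj t, h.ta]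
      have e : t * (t⁻¹ * g * t) * t⁻¹ = g := by group
      rwa [e]
    · intro r hr
      rw [← h.mem_T_conj]
      have h1 := hg2 (t * r * t⁻¹) (conj_mem_cjg.mpr hr)
      have e : t * (t⁻¹ * g * t * r * (t⁻¹ * g * t)⁻¹) * t⁻¹ = g * (t * r * t⁻¹) * g⁻¹ := by group
      rwa [e]
  Ta := h.bT
  KQ := by
    intro k hk q hq
    obtain ⟨u, hu, rfl⟩ := exists_of_cjg hk
    rw [← h.cQ] at hq
    obtain ⟨v, hv, rfl⟩ := exists_of_cjg hq
    rw [commute_iff_conj]
    exact h.KQ u hu v hv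
  PK := by
    rw [← h.cP]
    exact cjg_mono h.PK
  cls := by
    intro p hp hpp hp1
    rw [← h.cP] at hp
    obtain ⟨v, hv, rfl⟩ := exists_of_cjg hp
    have h1 : v * v = 1 := by
      rw [← conj_mul] at hpp
      exact conj_eq_one_iff.mp hpp
    have h2 : v ≠ 1 := by
      rintro rfl
      apply hp1
      group
    obtain ⟨k, hk, e⟩ := h.cls v hv h1 h2
    refine ⟨t * k * t⁻¹, conj_mem_cjg.mpr hk, ?_⟩
    have e1 : t * k * t⁻¹ * (t * v * t⁻¹) * (t * k * t⁻¹)⁻¹ = t * (k * v * k⁻¹) * t⁻¹ := by group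
    rw [e1, e, h.ta]

end Dbl

end Cfsg.Agent.UGT.L34T2
end

-- part: UGT/L34T2/DblBase
section
/-!
# Type `L₃(4)`, double frame: base facts

`J = P Q = P ⊔ Q`:
* `relIndex_S`: `|S : J| ≤ 8`; `nSJ`: `S` normalises `J`; `swP`, `swQ`, `cen_swap`: elements of `S - T`;
* `elem_le`: an elementary abelian subgroup of `S` of order at least 256 lies in `J`;
* `wcl`: `J` is weakly closed in every 2-group containing it;
* `fus_ZJ`: the normaliser of `J` controls fusion in `Z(J)`; `perm`: it permutes `Z`, `Z'`;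
* `not_isConj`: `a` is not conjugate to `a b`; `pure_iff`, `mixed_iff`;
* `Z1_le`: a Heisenberg group `R ≤ S` has `Z(R) ≤ J`;
* `eq_ab`: `C_S(v) = S`, `v ∈ I(J)` gives `v = a b`.
-/

set_option autoImplicit false
set_option linter.unusedSectionVars false

open Subgroup

namespace Cfsg.Agent.UGT.L34T2

variable {G : Type*} [Group G] [Finite G]

/-- an elementary abelian subgroup of the Heisenberg group has order at most 16 -/
theorem Heis.card_elem_le {P Z : Subgroup G} {A : Bool → Subgroup G} (h : Heis P Z A) {N : Subgroup G} (hN : N ≤ P)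
    (hsq : ∀ u ∈ N, u * u = 1) : Nat.card N ≤ 16 := by
  have hcomm : ∀ u ∈ N, ∀ v ∈ N, u * v = v * u := by
    intro u hu v hv
    have h1 := hsq _ (N.mul_mem hu hv)
    have h2 := hsq u hu
    have h3 := hsq v hv
    calc u * v = u * (u * v * (u * v)) * v := by rw [h1, mul_one]
      _ = (u * u) * (v * u) * (v * v) := by group
      _ = v * u := by rw [h2, h3, one_mul, mul_one]
  by_cases hZ : N ≤ Z
  · have := Subgroup.card_le_of_le hZ
    rw [h.cardZ] at this
    omega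
  · obtain ⟨u, hu, huZ⟩ := SetLike.not_le_iff_exists.mp hZ
    obtain ⟨i, hi⟩ := h.inv u (hN hu) (hsq u hu)
    have h1 : N ≤ A i := fun v hv => h.cen i u hi huZ v (hN hv) (hcomm v hv u hu)
    have := Subgroup.card_le_of_le h1
    rwa [h.cardA] at this

namespace Fr

variable {T P Q Z : Subgroup G} {A : Bool → Subgroup G} {b : G}

/-- an elementary abelian subgroup of `C_P(e)`, `e` outer, an involution modulo `Q`, has order at most 4 -/
theorem card_elem_cen_le (h : Fr T P Q Z A b) {e : G} (he : e ∈ T) (hee : e * e ∈ Q)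
    (heo : ¬ ∃ p ∈ P, ∃ q ∈ Q, e = p * q) {N : Subgroup G} (hN : N ≤ P) (hc : ∀ u ∈ N, e * u = u * e)
    (hsq : ∀ u ∈ N, u * u = 1) : Nat.card N ≤ 4 := by
  by_cases hZ : ∀ z ∈ Z, e * z = z * e
  · have h1 : N ≤ Z := fun u hu => h.gZ e he heo hZ hee u (hN hu) (hc u hu)
    have := Subgroup.card_le_of_le h1
    rwa [h.cardZ] at this
  · have h8 := h.card8 e he hee hZ
    obtain ⟨c, hcP, d, hdP, ec, ed, ecd⟩ := h.der e he hee hZ
    let C : Subgroup G := P ⊓ centralizer {e}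
    have hC : ∀ u, u ∈ C ↔ u ∈ P ∧ e * u = u * e := by
      intro u
      rw [mem_inf, mem_centralizer_singleton_iff, eq_comm]
    have hcard : Nat.card C = 8 := by
      rw [← h8]
      exact Nat.card_congr (Equiv.subtypeEquivRight hC)
    have hNC : N ≤ C := fun u hu => (hC u).mpr ⟨hN hu, hc u hu⟩
    have hne : N ≠ C := by
      intro heq
      have h1 : c ∈ N := by rw [heq]; exact (hC c).mpr ⟨hcP, ec⟩
      have h2 : d ∈ N := by rw [heq]; exact (hC d).mpr ⟨hdP, ed⟩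
      have h3 : c * d = d * c := by
        have a1 := hsq _ (N.mul_mem h1 h2)
        have a2 := hsq c h1
        have a3 := hsq d h2
        calc c * d = c * (c * d * (c * d)) * d := by rw [a1, mul_one]
          _ = (c * c) * (d * c) * (d * d) := by group
          _ = d * c := by rw [a2, a3, one_mul, mul_one]
      apply h.b1
      rw [← ecd, h3]
      group
    have hdvd : Nat.card N ∣ 8 := hcard ▸ Subgroup.card_dvd_of_le hNC
    have hlt : Nat.card N ≠ 8 := by
      intro e8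
      exact hne (Subgroup.eq_of_le_of_card_ge hNC (by rw [hcard, e8]))
    have hle := Nat.le_of_dvd (by norm_num) hdvd
    interval_cases hN' : Nat.card N <;> simp_all only [_root_.not_exists, _root_.not_and, _root_.Classical.not_forall, _root_.Classical.not_imp, _root_.ne_eq, _root_.zero_dvd_iff, _root_.OfNat.ofNat_ne_zero, _root_.Subgroup.card_eq_one, _root_.isUnit_iff_eq_one, _root_.IsUnit.dvd, _root_.OfNat.one_ne_ofNat, _root_.not_false_eq_true, _root_.Nat.one_le_ofNat, _root_.Nat.reduceDvd, _root_.Nat.reduceEqDiff, _root_.Nat.reduceLeDiff, _root_.Std.le_refl, _root_.dvd_refl, _root_.not_true_eq_false]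

end Fr

/-- projection of a subgroup of `P Q` -/
def prj (P Q E : Subgroup G) (hc : ∀ p ∈ P, ∀ q ∈ Q, p * q = q * p) : Subgroup G where
  carrier := {p | p ∈ P ∧ ∃ q ∈ Q, p * q ∈ E}
  mul_mem' := by
    rintro p p' ⟨hp, q, hq, h1⟩ ⟨hp', q', hq', h2⟩
    refine ⟨P.mul_mem hp hp', q * q', Q.mul_mem hq hq', ?_⟩
    have e : p * p' * (q * q') = p * q * (p' * q') := by
      have := hc p' hp' q hq
      calc p * p' * (q * q') = p * (p' * q) * q' := by group
        _ = p * (q * p') * q' := by rw [this]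
        _ = _ := by group
    rw [e]
    exact E.mul_mem h1 h2
  one_mem' := ⟨P.one_mem, 1, Q.one_mem, by rw [mul_one]; exact E.one_mem⟩
  inv_mem' := by
    rintro p ⟨hp, q, hq, h1⟩
    refine ⟨P.inv_mem hp, q⁻¹, Q.inv_mem hq, ?_⟩
    rw [← mul_inv_rev, ← hc p hp q hq]
    exact E.inv_mem h1

namespace Fr

variable {T P Q Z : Subgroup G} {A : Bool → Subgroup G} {b : G}

theorem mem_prj' (h : Fr T P Q Z A b) {E : Subgroup G} {q : G} :
    q ∈ prj Q P E (fun q hq p hp => (h.comm p hp q hq).symm) ↔ q ∈ Q ∧ ∃ p ∈ P, p * q ∈ E := by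
  constructor
  · rintro ⟨hq, p, hp, h1⟩
    exact ⟨hq, p, hp, by rwa [h.comm p hp q hq]⟩
  · rintro ⟨hq, p, hp, h1⟩
    exact ⟨hq, p, hp, by rwa [← h.comm p hp q hq]⟩

/-- projections of involutions are involutions -/
theorem sq_of_sq (h : Fr T P Q Z A b) {p q : G} (hp : p ∈ P) (hq : q ∈ Q) (e : p * q * (p * q) = 1) :
    p * p = 1 ∧ q * q = 1 := by
  have e1 : p * p * (q * q) = 1 * 1 := by
    rw [one_mul, ← e]
    have := h.comm p hp q hq
    calc p * p * (q * q) = p * (p * q) * q := by group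
      _ = p * (q * p) * q := by rw [this]
      _ = _ := by group
  exact h.uniq (P.mul_mem hp hp) P.one_mem (Q.mul_mem hq hq) Q.one_mem e1

/-- `|E| ≤ |pr_P E| |pr_Q E|` for `E ≤ P Q` -/
theorem card_le_prj (h : Fr T P Q Z A b) {E : Subgroup G} (hE : E ≤ P ⊔ Q) :
    Nat.card E ≤ Nat.card (prj P Q E h.comm) *
      Nat.card (prj Q P E (fun q hq p hp => (h.comm p hp q hq).symm)) := by
  rw [← Nat.card_prod]
  have hex : ∀ j : E, ∃ u : (prj P Q E h.comm) × (prj Q P E (fun q hq p hp => (h.comm p hp q hq).symm)),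
      (j : G) = u.1 * u.2 := by
    rintro ⟨j, hj⟩
    obtain ⟨p, hp, q, hq, rfl⟩ := h.mem_J.mp (hE hj)
    exact ⟨(⟨p, hp, q, hq, hj⟩, ⟨q, h.mem_prj'.mpr ⟨hq, p, hp, hj⟩⟩), rfl⟩
  choose φ hφ using hex
  refine Nat.card_le_card_of_injective φ ?_
  intro j j' e
  exact Subtype.ext (by rw [hφ j, hφ j', e])

end Fr

/-- two 2-subgroups of `H` are in a common 2-subgroup up to conjugation in `H` -/
theorem exists_common {H R1 R2 : Subgroup G} (h1 : R1 ≤ H) (h2 : R2 ≤ H) (p1 : IsPGroup 2 R1)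
    (p2 : IsPGroup 2 R2) : ∃ c ∈ H, ∃ R : Subgroup G, IsPGroup 2 R ∧ R ≤ H ∧ R1 ≤ R ∧ cjg c R2 ≤ R := by
  have q1 : IsPGroup 2 (R1.subgroupOf H) := p1.comap_of_injective _ (subtype_injective H)
  have q2 : IsPGroup 2 (R2.subgroupOf H) := p2.comap_of_injective _ (subtype_injective H)
  obtain ⟨S1, hS1⟩ := q1.exists_le_sylow
  obtain ⟨S2, hS2⟩ := q2.exists_le_sylow
  obtain ⟨c, hc⟩ := MulAction.exists_smul_eq (↥H) S2 S1
  refine ⟨c, c.2, (S1 : Subgroup H).map H.subtype, S1.2.map _, map_subtype_le _, ?_, ?_⟩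
  · intro r hr
    exact ⟨⟨r, h1 hr⟩, hS1 (mem_subgroupOf.mpr hr), rfl⟩
  · intro y hy
    obtain ⟨r, hr, rfl⟩ := exists_of_cjg hy
    have h3 : (⟨r, h2 hr⟩ : H) ∈ S2 := hS2 (mem_subgroupOf.mpr hr)
    have h4 : c * ⟨r, h2 hr⟩ * c⁻¹ ∈ S1 := by
      rw [← hc]
      have := Sylow.smul_def (g := c) (P := S2)
      change c * ⟨r, h2 hr⟩ * c⁻¹ ∈ ((c • S2 : Sylow 2 H) : Subgroup H)
      rw [Sylow.coe_subgroup_smul]
      exact Subgroup.smul_mem_pointwise_smul (⟨r, h2 hr⟩ : H) (MulAut.conj c) (S2 : Subgroup H) h3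
    exact ⟨_, h4, rfl⟩

namespace Dbl

variable {S T P Q Z : Subgroup G} {A : Bool → Subgroup G} {K : Subgroup G} {a b t x : G}

theorem tJ (h : Dbl S T P Q Z A K a b t x) {j : G} (hj : j ∈ P ⊔ Q) : t * j * t⁻¹ ∈ P ⊔ Q := by
  obtain ⟨p, hp, q, hq, rfl⟩ := h.mem_J.mp hj
  rw [conj_mul]
  exact mul_mem (mem_sup_right (h.tP p hp)) (mem_sup_left (h.tQ q hq))

/-- an element of `S - T` is `t y`, `y ∈ T` -/
theorem exists_sw (h : Dbl S T P Q Z A K a b t x) {e : G} (he : e ∈ S) (hn : e ∉ T) : ∃ y ∈ T, e = t * y :=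
  ⟨t⁻¹ * e, (h.ST e he).resolve_left hn, by group⟩

theorem swP (h : Dbl S T P Q Z A K a b t x) {e p : G} (he : e ∈ S) (hn : e ∉ T) (hp : p ∈ P) :
    e * p * e⁻¹ ∈ Q := by
  obtain ⟨y, hy, rfl⟩ := h.exists_sw he hn
  have e : t * y * p * (t * y)⁻¹ = t * (y * p * y⁻¹) * t⁻¹ := by group
  rw [e]
  exact h.tP _ (h.nP y hy p hp)

theorem swQ (h : Dbl S T P Q Z A K a b t x) {e q : G} (he : e ∈ S) (hn : e ∉ T) (hq : q ∈ Q) :
    e * q * e⁻¹ ∈ P := by
  obtain ⟨y, hy, rfl⟩ := h.exists_sw he hn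
  have e : t * y * q * (t * y)⁻¹ = t * (y * q * y⁻¹) * t⁻¹ := by group
  rw [e]
  exact h.tQ _ (h.nQ y hy q hq)

/-- the centraliser in `P Q` of an element of `S - T` is diagonal -/
theorem cen_swap (h : Dbl S T P Q Z A K a b t x) {e p q : G} (he : e ∈ S) (hn : e ∉ T) (hp : p ∈ P) (hq : q ∈ Q)
    (hc : e * (p * q) = p * q * e) : q = e * p * e⁻¹ ∧ p = e * q * e⁻¹ := by
  have e1 : (e * q * e⁻¹) * (e * p * e⁻¹) = p * q := by
    rw [h.comm _ (h.swQ he hn hq) _ (h.swP he hn hp), ← conj_mul, hc]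
    group
  obtain ⟨e2, e3⟩ := h.uniq (h.swQ he hn hq) hp (h.swP he hn hp) hq e1
  exact ⟨e3.symm, e2.symm⟩

theorem JleS (h : Dbl S T P Q Z A K a b t x) : P ⊔ Q ≤ S := h.JT.trans h.TS

theorem relIndex_TS (h : Dbl S T P Q Z A K a b t x) : T.relIndex S ≤ 2 := by
  classical
  let φ : (↥S ⧸ T.subgroupOf S) → Bool := fun q => decide ((q.out : G) ∈ T)
  have hφ : Function.Injective φ := by
    intro q q' e
    simp only [φ, decide_eq_decide] at e
    rw [← Quotient.out_eq q, ← Quotient.out_eq q']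
    refine QuotientGroup.eq.mpr ?_
    rw [mem_subgroupOf]
    change (q.out : G)⁻¹ * (q'.out : G) ∈ T
    by_cases h1 : (q.out : G) ∈ T
    · exact T.mul_mem (T.inv_mem h1) (e.mp h1)
    · obtain ⟨y, hy, e1⟩ := h.exists_sw q.out.2 h1
      obtain ⟨y', hy', e2⟩ := h.exists_sw q'.out.2 (fun h2 => h1 (e.mpr h2))
      rw [e1, e2]
      have e3 : (t * y)⁻¹ * (t * y') = y⁻¹ * y' := by group
      rw [e3]
      exact T.mul_mem (T.inv_mem hy) hy'
  have := Nat.card_le_card_of_injective φ hφ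
  have e2 : Nat.card Bool = 2 := by simp
  rw [e2] at this
  exact this

theorem relIndex_S (h : Dbl S T P Q Z A K a b t x) : (P ⊔ Q).relIndex S ≤ 8 := by
  have h1 := Subgroup.relIndex_mul_relIndex (P ⊔ Q) T S h.JT h.TS
  have h2 := h.relIndex_le
  have h3 := h.relIndex_TS
  rw [← h1]
  calc (P ⊔ Q).relIndex T * T.relIndex S ≤ 4 * 2 := Nat.mul_le_mul h2 h3
    _ = 8 := rfl

end Dbl

/-- `|E| ≤ |E ∩ J| n` -/
theorem card_le_inf_mul {E J T : Subgroup G} {n : ℕ} (hE : E ≤ T) (hn : J.relIndex T ≤ n) :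
    Nat.card E ≤ Nat.card (E ⊓ J : Subgroup G) * n := by
  have h1 : Nat.card (J.subgroupOf E) * (J.subgroupOf E).index = Nat.card E := Subgroup.card_mul_index _
  have h2 : Nat.card (J.subgroupOf E) = Nat.card (E ⊓ J : Subgroup G) := by
    rw [← Subgroup.card_map_of_injective (subtype_injective E), subgroupOf_map_subtype, inf_comm]
  have h3 : (J.subgroupOf E).index ≤ n := by
    have : J.relIndex E ≤ J.relIndex T :=
      Subgroup.relIndex_le_of_le_right hE
        (Nat.pos_iff_ne_zero.mp (Nat.pos_of_ne_zero (Subgroup.index_ne_zero_of_finite)))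
    exact this.trans hn
  rw [← h1, h2]
  exact Nat.mul_le_mul_left _ h3

namespace Dbl

variable {S T P Q Z : Subgroup G} {A : Bool → Subgroup G} {K : Subgroup G} {a b t x : G}

/-- an elementary abelian subgroup of `S` of order at least 256 lies in `J` -/
theorem elem_le (h : Dbl S T P Q Z A K a b t x) {E : Subgroup G} (hE : E ≤ S) (hsq : ∀ u ∈ E, u * u = 1)
    (h256 : 256 ≤ Nat.card E) : E ≤ P ⊔ Q := by
  have hcomm : ∀ u ∈ E, ∀ v ∈ E, u * v = v * u := by
    intro u hu v hv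
    have h1 := hsq _ (E.mul_mem hu hv)
    have h2 := hsq u hu
    have h3 := hsq v hv
    calc u * v = u * (u * v * (u * v)) * v := by rw [h1, mul_one]
      _ = (u * u) * (v * u) * (v * v) := by group
      _ = v * u := by rw [h2, h3, one_mul, mul_one]
  intro e he
  by_contra hne
  have hprP : ∀ u ∈ prj P Q (E ⊓ (P ⊔ Q)) h.comm, u * u = 1 := by
    rintro u ⟨hu, q, hq, h1⟩
    exact (h.sq_of_sq hu hq (hsq _ (mem_inf.mp h1).1)).1
  have hprQ : ∀ u ∈ prj Q P (E ⊓ (P ⊔ Q)) (fun q hq p hp => (h.comm p hp q hq).symm), u * u = 1 := by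
    intro u hu
    obtain ⟨hu, p, hp, h1⟩ := h.mem_prj'.mp hu
    exact (h.sq_of_sq hp hu (hsq _ (mem_inf.mp h1).1)).2
  by_cases hET : E ≤ T
  · -- `|E ∩ J| ≥ 64`, and `≤ 16`
    have h1 := card_le_inf_mul hET h.relIndex_le
    have heT := hET he
    have hee := hsq e he
    have hJe : ∀ p ∈ P, ∀ q ∈ Q, p * q ∈ E → e * p = p * e ∧ e * q = q * e := by
      intro p hp q hq hpq
      exact (h.cen_J heT hp hq).mp (hcomm e he _ hpq)
    have h2 : Nat.card (prj P Q (E ⊓ (P ⊔ Q)) h.comm) ≤ 4 := by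
      refine h.card_elem_cen_le heT (by rw [hee]; exact Q.one_mem) ?_ (fun u hu => hu.1) ?_ hprP
      · rintro ⟨p, hp, q, hq, e1⟩
        exact hne (h.mem_J.mpr ⟨p, hp, q, hq, e1⟩)
      · rintro u ⟨hu, q, hq, h1⟩
        exact (hJe u hu q hq (mem_inf.mp h1).1).1
    have h3 : Nat.card (prj Q P (E ⊓ (P ⊔ Q)) (fun q hq p hp => (h.comm p hp q hq).symm)) ≤ 4 := by
      refine h.symm.card_elem_cen_le heT (by rw [hee]; exact P.one_mem) ?_ (fun u hu => hu.1) ?_ hprQ
      · rintro ⟨q, hq, p, hp, e1⟩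
        exact hne (h.mem_J.mpr ⟨p, hp, q, hq, by rw [e1, h.comm p hp q hq]⟩)
      · intro u hu
        obtain ⟨hu, p, hp, h1⟩ := h.mem_prj'.mp hu
        exact (hJe p hp u hu (mem_inf.mp h1).1).2
    have h4 := h.card_le_prj (E := E ⊓ (P ⊔ Q)) inf_le_right
    have h5 := Nat.mul_le_mul h2 h3
    omega
  · -- a swap
    obtain ⟨s, hs, hsT⟩ := SetLike.not_le_iff_exists.mp hET
    have h1 := card_le_inf_mul hE h.relIndex_S
    have h2 : Nat.card (prj P Q (E ⊓ (P ⊔ Q)) h.comm) ≤ 16 :=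
      h.toHeis.card_elem_le (fun u hu => hu.1) hprP
    have h3 : Nat.card (E ⊓ (P ⊔ Q) : Subgroup G) ≤ Nat.card (prj P Q (E ⊓ (P ⊔ Q)) h.comm) := by
      have hex : ∀ j : (E ⊓ (P ⊔ Q) : Subgroup G), ∃ u : prj P Q (E ⊓ (P ⊔ Q)) h.comm,
          (j : G) = u * (s * u * s⁻¹) := by
        rintro ⟨j, hj⟩
        obtain ⟨p, hp, q, hq, rfl⟩ := h.mem_J.mp (mem_inf.mp hj).2
        have e1 := h.cen_swap (hE hs) hsT hp hq (hcomm s hs _ (mem_inf.mp hj).1)
        refine ⟨⟨p, hp, q, hq, hj⟩, ?_⟩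
        change p * q = p * (s * p * s⁻¹)
        rw [← e1.1]
      choose φ hφ using hex
      refine Nat.card_le_card_of_injective φ ?_
      intro j j' e
      exact Subtype.ext (by rw [hφ j, hφ j', e])
    omega

end Dbl

end Cfsg.Agent.UGT.L34T2
end

-- part: UGT/L34T2/DblFus
section
/-!
# Type `L₃(4)`, double frame: weak closure of `J`, fusion in `Z(J)`, pure and mixed involutions
-/

set_option autoImplicit false
set_option linter.unusedSectionVars false

open Subgroup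

namespace Cfsg.Agent.UGT.L34T2

variable {G : Type*} [Group G] [Finite G]

namespace Dbl

variable {S T P Q Z : Subgroup G} {A : Bool → Subgroup G} {K : Subgroup G} {a b t x : G}

theorem cA (h : Dbl S T P Q Z A K a b t x) (i : Bool) : cjg t (A i) ≤ Q := h.symm.AP i

/-- the elementary abelian groups `A i × (A j)^t` of order 256 -/
theorem card_AA (h : Dbl S T P Q Z A K a b t x) (i j : Bool) :
    Nat.card (A i ⊔ cjg t (A j) : Subgroup G) = 256 := by
  have hmem : ∀ y, y ∈ A i ⊔ cjg t (A j) ↔ ∃ u ∈ A i, ∃ v ∈ cjg t (A j), y = u * v := by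
    intro y
    constructor
    · intro hy
      rw [sup_eq_closure] at hy
      induction hy using closure_induction with
      | mem u hu =>
        rcases hu with hu | hu
        · exact ⟨u, hu, 1, one_mem _, by group⟩
        · exact ⟨1, one_mem _, u, hu, by group⟩
      | one => exact ⟨1, one_mem _, 1, one_mem _, by group⟩
      | mul u v _ _ iu iv =>
        obtain ⟨p, hp, q, hq, rfl⟩ := iu
        obtain ⟨p', hp', q', hq', rfl⟩ := iv
        refine ⟨p * p', mul_mem hp hp', q * q', mul_mem hq hq', ?_⟩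
        have e := h.comm p' (h.AP _ hp') q (h.cA _ hq)
        calc p * q * (p' * q') = p * (q * p') * q' := by group
          _ = p * (p' * q) * q' := by rw [e]
          _ = _ := by group
      | inv u _ iu =>
        obtain ⟨p, hp, q, hq, rfl⟩ := iu
        refine ⟨p⁻¹, inv_mem hp, q⁻¹, inv_mem hq, ?_⟩
        rw [← mul_inv_rev, ← h.comm p (h.AP _ hp) q (h.cA _ hq)]
    · rintro ⟨u, hu, v, hv, rfl⟩
      exact mul_mem (mem_sup_left hu) (mem_sup_right hv)
  have h1 : Nat.card (A i) * Nat.card (cjg t (A j)) = 256 := by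
    rw [card_cjg, h.cardA, h.cardA]
  rw [← h1, ← Nat.card_prod]
  refine (Nat.card_congr (Equiv.ofBijective (fun u : A i × cjg t (A j) => (⟨u.1 * u.2, (hmem _).mpr
    ⟨_, u.1.2, _, u.2.2, rfl⟩⟩ : (A i ⊔ cjg t (A j) : Subgroup G))) ⟨?_, ?_⟩)).symm
  · rintro ⟨p, q⟩ ⟨p', q'⟩ e
    have e' := Subtype.ext_iff.mp e
    obtain ⟨e1, e2⟩ := h.uniq (h.AP _ p.2) (h.AP _ p'.2) (h.cA _ q.2) (h.cA _ q'.2) e'
    exact Prod.ext (Subtype.ext e1) (Subtype.ext e2)
  · rintro ⟨j, hj⟩
    obtain ⟨p, hp, q, hq, rfl⟩ := (hmem j).mp hj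
    exact ⟨(⟨p, hp⟩, ⟨q, hq⟩), rfl⟩

theorem AA_sq (h : Dbl S T P Q Z A K a b t x) (i j : Bool) : ∀ y ∈ (A i ⊔ cjg t (A j) : Subgroup G), y * y = 1 := by
  intro y hy
  rw [sup_eq_closure] at hy
  have : y * y = 1 ∧ ∃ u ∈ A i, ∃ v ∈ cjg t (A j), y = u * v := by
    induction hy using closure_induction with
    | mem u hu =>
      rcases hu with hu | hu
      · exact ⟨h.Asq i u hu, u, hu, 1, one_mem _, by group⟩
      · exact ⟨h.symm.Asq j u hu, 1, one_mem _, u, hu, by group⟩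
    | one => exact ⟨by group, 1, one_mem _, 1, one_mem _, by group⟩
    | mul u v _ _ iu iv =>
      obtain ⟨-, p, hp, q, hq, rfl⟩ := iu
      obtain ⟨-, p', hp', q', hq', rfl⟩ := iv
      have e := h.comm p' (h.AP _ hp') q (h.cA _ hq)
      have e0 : p * q * (p' * q') = p * p' * (q * q') := by
        calc p * q * (p' * q') = p * (q * p') * q' := by group
          _ = p * (p' * q) * q' := by rw [e]
          _ = _ := by group
      refine ⟨?_, p * p', mul_mem hp hp', q * q', mul_mem hq hq', e0⟩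
      have e1 := h.comm (p * p') (h.AP _ (mul_mem hp hp')) (q * q') (h.cA _ (mul_mem hq hq'))
      rw [e0]
      calc p * p' * (q * q') * (p * p' * (q * q')) = p * p' * (q * q' * (p * p')) * (q * q') := by group
        _ = p * p' * (p * p' * (q * q')) * (q * q') := by rw [e1]
        _ = (p * p' * (p * p')) * (q * q' * (q * q')) := by group
        _ = 1 := by rw [h.Asq i _ (mul_mem hp hp'), h.symm.Asq j _ (mul_mem hq hq'), mul_one]
    | inv u _ iu =>
      obtain ⟨e, p, hp, q, hq, rfl⟩ := iu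
      refine ⟨?_, p⁻¹, inv_mem hp, q⁻¹, inv_mem hq, ?_⟩
      · rw [← mul_inv_rev, e, inv_one]
      · rw [← mul_inv_rev, ← h.comm p (h.AP _ hp) q (h.cA _ hq)]
  exact this.1

theorem P_le_of (h : Dbl S T P Q Z A K a b t x) {R : Subgroup G} (hR : ∀ i j, A i ⊔ cjg t (A j) ≤ R) :
    P ⊔ Q ≤ R := by
  refine sup_le ?_ ?_
  · intro p hp
    obtain ⟨u, hu, v, hv, rfl⟩ := h.sup p hp
    exact R.mul_mem (hR false false (mem_sup_left hu)) (hR true false (mem_sup_left hv))
  · intro p hp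
    obtain ⟨u, hu, v, hv, rfl⟩ := h.symm.sup p hp
    exact R.mul_mem (hR false false (mem_sup_right hu)) (hR false true (mem_sup_right hv))

theorem cjg_eq_of_le_S (h : Dbl S T P Q Z A K a b t x) {g : G} (hg : cjg g (P ⊔ Q) ≤ S) :
    cjg g (P ⊔ Q) = P ⊔ Q := by
  have h1 : ∀ i j, A i ⊔ cjg t (A j) ≤ cjg g⁻¹ (P ⊔ Q) := by
    intro i j
    have h2 : cjg g (A i ⊔ cjg t (A j)) ≤ P ⊔ Q := by
      refine h.elem_le ?_ ?_ ?_
      · exact (cjg_mono (sup_le_sup (h.AP i) (h.cA j))).trans hg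
      · intro u hu
        obtain ⟨v, hv, rfl⟩ := exists_of_cjg hu
        rw [← conj_mul, h.AA_sq i j v hv]
        group
      · rw [card_cjg, h.card_AA]
    intro u hu
    rw [mem_cjg, inv_inv]
    exact h2 (conj_mem_cjg.mpr hu)
  have h3 := h.P_le_of h1
  have h4 : cjg g (P ⊔ Q) ≤ P ⊔ Q := by
    intro u hu
    obtain ⟨v, hv, rfl⟩ := exists_of_cjg hu
    have := h3 hv
    rwa [mem_cjg, inv_inv] at this
  exact Subgroup.eq_of_le_of_card_ge h4 (by rw [card_cjg])

/-- `J` is weakly closed in every 2-group containing it -/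
theorem wcl (h : Dbl S T P Q Z A K a b t x) {R : Subgroup G} (hR : IsPGroup 2 R) (hJ : P ⊔ Q ≤ R) {g : G}
    (hg : cjg g (P ⊔ Q) ≤ R) : cjg g (P ⊔ Q) = P ⊔ Q := by
  obtain ⟨k, hk⟩ := h.syl R hR
  have h1 : cjg k (P ⊔ Q) = P ⊔ Q := h.cjg_eq_of_le_S (by
    intro u hu
    obtain ⟨v, hv, rfl⟩ := exists_of_cjg hu
    exact hk v (hJ hv))
  have h2 : cjg (k * g) (P ⊔ Q) = P ⊔ Q := h.cjg_eq_of_le_S (by
    intro u hu
    rw [cjg_mul] at hu
    obtain ⟨v, hv, rfl⟩ := exists_of_cjg hu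
    exact hk v (hg hv))
  have h3 : cjg k⁻¹ (cjg (k * g) (P ⊔ Q)) = cjg k⁻¹ (P ⊔ Q) := by rw [h2]
  have h4 : cjg k⁻¹ (cjg k (P ⊔ Q)) = cjg k⁻¹ (P ⊔ Q) := by rw [h1]
  rw [← cjg_mul] at h3 h4
  have e1 : k⁻¹ * (k * g) = g := by group
  have e2 : k⁻¹ * k = 1 := by group
  rw [e1] at h3
  rw [e2, cjg_of_mem (one_mem _)] at h4
  rw [h3, ← h4]

theorem J2 (h : Dbl S T P Q Z A K a b t x) : IsPGroup 2 (P ⊔ Q : Subgroup G) := h.S2.to_le h.JleS

/-- `N(J)` controls fusion in `C(J)` -/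
theorem fus_ZJ (h : Dbl S T P Q Z A K a b t x) {z g : G} (hz : ∀ j ∈ P ⊔ Q, j * z = z * j)
    (hgz : ∀ j ∈ P ⊔ Q, j * (g * z * g⁻¹) = (g * z * g⁻¹) * j) :
    ∃ n, cjg n (P ⊔ Q) = P ⊔ Q ∧ n * z * n⁻¹ = g * z * g⁻¹ := by
  set z' := g * z * g⁻¹ with hz'
  have h1 : P ⊔ Q ≤ centralizer {z'} := by
    intro j hj
    rw [mem_centralizer_singleton_iff]
    exact hgz j hj
  have h2 : cjg g (P ⊔ Q) ≤ centralizer {z'} := by
    intro j hj
    obtain ⟨v, hv, rfl⟩ := exists_of_cjg hj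
    rw [mem_centralizer_singleton_iff, hz']
    exact (commute_iff_conj g).mpr (hz v hv)
  obtain ⟨c, hc, R, hR, -, hR1, hR2⟩ := exists_common h1 h2 h.J2 (h.J2.map _)
  rw [← cjg_mul] at hR2
  refine ⟨c * g, h.wcl hR hR1 hR2, ?_⟩
  rw [mem_centralizer_singleton_iff] at hc
  have e : c * g * z * (c * g)⁻¹ = c * z' * c⁻¹ := by rw [hz']; group
  rw [e, hc]
  group

/-- `[g, J]` as a set -/
def cs (P Q : Subgroup G) (g : G) : Set G := {w | ∃ j ∈ P ⊔ Q, w = g * j * g⁻¹ * j⁻¹}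

theorem cs_conj {n g : G} (hn : cjg n (P ⊔ Q) = P ⊔ Q) :
    cs P Q (n * g * n⁻¹) = (fun w => n * w * n⁻¹) '' cs P Q g := by
  ext w
  constructor
  · rintro ⟨j, hj, rfl⟩
    rw [← hn] at hj
    obtain ⟨j', hj', rfl⟩ := exists_of_cjg hj
    exact ⟨_, ⟨j', hj', rfl⟩, by group⟩
  · rintro ⟨_, ⟨j, hj, rfl⟩, rfl⟩
    exact ⟨n * j * n⁻¹, by rw [← hn]; exact conj_mem_cjg.mpr hj, by group⟩

theorem comm_mul (h : Dbl S T P Q Z A K a b t x) {p p' q q' : G} (hp : p ∈ P) (hp' : p' ∈ P) (hq : q ∈ Q)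
    (hq' : q' ∈ Q) : (p * q) * (p' * q') * (p * q)⁻¹ * (p' * q')⁻¹ =
      (p * p' * p⁻¹ * p'⁻¹) * (q * q' * q⁻¹ * q'⁻¹) := by
  have e1 := h.comm p' hp' q hq
  have e2 := h.comm p⁻¹ (P.inv_mem hp) (q * q' * q⁻¹) (Q.mul_mem (Q.mul_mem hq hq') (Q.inv_mem hq))
  have e3 := h.comm p'⁻¹ (P.inv_mem hp') (q * q' * q⁻¹ * q'⁻¹)
    (Q.mul_mem (Q.mul_mem (Q.mul_mem hq hq') (Q.inv_mem hq)) (Q.inv_mem hq'))
  calc (p * q) * (p' * q') * (p * q)⁻¹ * (p' * q')⁻¹
      = p * (q * p') * q' * q⁻¹ * p⁻¹ * q'⁻¹ * p'⁻¹ := by group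
    _ = p * (p' * q) * q' * q⁻¹ * p⁻¹ * q'⁻¹ * p'⁻¹ := by rw [e1]
    _ = p * p' * ((q * q' * q⁻¹) * p⁻¹) * q'⁻¹ * p'⁻¹ := by group
    _ = p * p' * (p⁻¹ * (q * q' * q⁻¹)) * q'⁻¹ * p'⁻¹ := by rw [e2]
    _ = p * p' * p⁻¹ * ((q * q' * q⁻¹ * q'⁻¹) * p'⁻¹) := by group
    _ = p * p' * p⁻¹ * (p'⁻¹ * (q * q' * q⁻¹ * q'⁻¹)) := by rw [e3]
    _ = _ := by group

/-- an element of `J` with at most four commutators with `J` has a trivial part modulo the centre -/
theorem ncard_cs (h : Dbl S T P Q Z A K a b t x) {p q : G} (hp : p ∈ P) (hq : q ∈ Q)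
    (hc : (cs P Q (p * q)).ncard ≤ 4) : p ∈ Z ∨ q ∈ cjg t Z := by
  by_contra hcon
  push Not at hcon
  have h1 : ∀ u : Z × cjg t Z, (u.1 : G) * u.2 ∈ cs P Q (p * q) := by
    rintro ⟨⟨z, hz⟩, ⟨z', hz'⟩⟩
    obtain ⟨r, hr, e⟩ := h.surj p hp hcon.1 z hz
    obtain ⟨r', hr', e'⟩ := h.symm.surj q hq hcon.2 z' hz'
    refine ⟨r * r', mul_mem (mem_sup_left hr) (mem_sup_right hr'), ?_⟩
    rw [h.comm_mul hp hr hq hr', e, e']
  have h2 : Nat.card (Z × cjg t Z) ≤ Nat.card (cs P Q (p * q)) := by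
    refine Nat.card_le_card_of_injective
      (fun u : Z × cjg t Z => (⟨(u.1 : G) * u.2, h1 u⟩ : cs P Q (p * q))) ?_
    rintro ⟨u, v⟩ ⟨u', v'⟩ e
    have e' := Subtype.ext_iff.mp e
    obtain ⟨e1, e2⟩ := h.uniq (h.ZP u.2) (h.ZP u'.2) (h.symm.ZP v.2) (h.symm.ZP v'.2) e'
    exact Prod.ext (Subtype.ext e1) (Subtype.ext e2)
  rw [Nat.card_prod, card_cjg, h.cardZ] at h2
  have h3 : Nat.card (cs P Q (p * q)) = (cs P Q (p * q)).ncard := rfl
  omega

theorem cs_of_P (h : Dbl S T P Q Z A K a b t x) {p : G} (hp : p ∈ P) : cs P Q p ⊆ Z := by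
  rintro w ⟨j, hj, rfl⟩
  obtain ⟨p', hp', q', hq', rfl⟩ := h.mem_J.mp hj
  have := h.comm_mul hp hp' Q.one_mem hq'
  have e : p * 1 = p := mul_one p
  rw [e] at this
  rw [this]
  have e2 : (1 : G) * q' * 1⁻¹ * q'⁻¹ = 1 := by group
  rw [e2, mul_one]
  exact h.com p hp p' hp'

/-- `N(J)` normalises the set `Z ∪ Z'`: elements of `Z` go to `Z` or `Z'` -/
theorem perm (h : Dbl S T P Q Z A K a b t x) {n z : G} (hn : cjg n (P ⊔ Q) = P ⊔ Q) (hz : z ∈ Z) :
    n * z * n⁻¹ ∈ Z ∨ n * z * n⁻¹ ∈ cjg t Z := by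
  obtain ⟨p, hp, hpZ⟩ := h.exists_not_mem false
  have hpP := h.AP _ hp
  obtain ⟨r, hr, e⟩ := h.surj p hpP hpZ z hz
  have h1 : n * p * n⁻¹ ∈ P ⊔ Q := by
    rw [← hn]; exact conj_mem_cjg.mpr (mem_sup_left hpP)
  obtain ⟨p', hp', q', hq', e1⟩ := h.mem_J.mp h1
  have h2 : (cs P Q (n * p * n⁻¹)).ncard ≤ 4 := by
    rw [cs_conj hn]
    refine (Set.ncard_image_le (Set.toFinite _)).trans ?_
    refine (Set.ncard_le_ncard (h.cs_of_P hpP) (Set.toFinite _)).trans ?_
    exact h.cardZ.le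
  have h3 : n * z * n⁻¹ ∈ cs P Q (n * p * n⁻¹) := by
    rw [cs_conj hn]
    exact ⟨z, ⟨r, mem_sup_left hr, e.symm⟩, rfl⟩
  rw [e1] at h2 h3
  obtain ⟨j, hj, e2⟩ := h3
  obtain ⟨p'', hp'', q'', hq'', rfl⟩ := h.mem_J.mp hj
  rw [h.comm_mul hp' hp'' hq' hq''] at e2
  rcases h.ncard_cs hp' hq' h2 with h4 | h4
  · right
    have e3 : p' * p'' * p'⁻¹ * p''⁻¹ = 1 := by
      rw [← h.Zcen p' h4 p'' hp'']; group
    rw [e2, e3, one_mul]
    exact h.symm.com q' hq' q'' hq''
  · left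
    have e3 : q' * q'' * q'⁻¹ * q''⁻¹ = 1 := by
      rw [← h.symm.Zcen q' h4 q'' hq'']; group
    rw [e2, e3, mul_one]
    exact h.com p' hp' p'' hp''

theorem cen_J_of_Z (h : Dbl S T P Q Z A K a b t x) {z z' : G} (hz : z ∈ Z) (hz' : z' ∈ cjg t Z) :
    ∀ j ∈ P ⊔ Q, j * (z * z') = (z * z') * j := by
  intro j hj
  obtain ⟨p, hp, q, hq, rfl⟩ := h.mem_J.mp hj
  have e1 := h.Zcen z hz p hp
  have e2 := h.symm.Zcen z' hz' q hq
  have e3 := h.comm z (h.ZP hz) q hq
  have e4 := h.comm p hp z' (h.symm.ZP hz')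
  calc p * q * (z * z') = p * (q * z) * z' := by group
    _ = p * (z * q) * z' := by rw [e3]
    _ = (p * z) * (q * z') := by group
    _ = (z * p) * (z' * q) := by rw [e1, e2]
    _ = z * (p * z') * q := by group
    _ = z * (z' * p) * q := by rw [e4]
    _ = _ := by group

theorem aZ (h : Dbl S T P Q Z A K a b t x) : a ∈ cjg t Z := h.symm.bZ

theorem a_mem_Q (h : Dbl S T P Q Z A K a b t x) : a ∈ Q := h.symm.bP

theorem a_ne (h : Dbl S T P Q Z A K a b t x) : a ≠ 1 := h.symm.b1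

theorem a_sq (h : Dbl S T P Q Z A K a b t x) : a * a = 1 := h.symm.bb

theorem ba (h : Dbl S T P Q Z A K a b t x) : b * a = a * b := h.comm b h.bP a h.a_mem_Q

/-- no element of `Z` is conjugate to a product of nontrivial elements of `Z`, `Z'` -/
theorem not_conj_mixed (h : Dbl S T P Q Z A K a b t x) {z w w' g : G} (hz : z ∈ Z) (hw : w ∈ Z) (hw' : w' ∈ cjg t Z)
    (w1 : w ≠ 1) (w1' : w' ≠ 1) : g * z * g⁻¹ ≠ w * w' := by
  intro e
  have hc1 : ∀ j ∈ P ⊔ Q, j * z = z * j := by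
    have := h.cen_J_of_Z hz (one_mem (cjg t Z))
    rwa [mul_one] at this
  obtain ⟨n, hn, e1⟩ := h.fus_ZJ (z := z) (g := g) hc1 (by rw [e]; exact h.cen_J_of_Z hw hw')
  rw [e] at e1
  rcases h.perm hn hz with h1 | h1
  · rw [e1] at h1
    have : w' ∈ P := by
      have := P.mul_mem (P.inv_mem (h.ZP hw)) (h.ZP h1)
      rwa [inv_mul_cancel_left] at this
    exact w1' (h.disj _ this (h.symm.ZP hw'))
  · rw [e1] at h1
    have : w ∈ Q := by
      have := Q.mul_mem (h.symm.ZP h1) (Q.inv_mem (h.symm.ZP hw'))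
      rwa [mul_inv_cancel_right] at this
    exact w1 (h.disj _ (h.ZP hw) this)

/-- `b` is not conjugate to `b a` -/
theorem not_conj_b (h : Dbl S T P Q Z A K a b t x) (g : G) : g * b * g⁻¹ ≠ a * b := by
  rw [← h.ba]
  exact h.not_conj_mixed h.bZ h.bZ h.aZ h.b1 h.a_ne

theorem not_conj_a (h : Dbl S T P Q Z A K a b t x) (g : G) : g * a * g⁻¹ ≠ a * b := by
  rw [← h.ta]
  have e : g * (t * b * t⁻¹) * g⁻¹ = (g * t) * b * (g * t)⁻¹ := by group
  rw [e, h.ta]
  exact h.not_conj_b _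

/-- involutions of `P`, `Q` are conjugate to `a` -/
theorem pure_P (h : Dbl S T P Q Z A K a b t x) {p : G} (hp : p ∈ P) (hpp : p * p = 1) (hp1 : p ≠ 1) :
    ∃ g : G, g * p * g⁻¹ = a := by
  obtain ⟨k, -, e⟩ := h.cls p hp hpp hp1
  refine ⟨t * k, ?_⟩
  have e1 : t * k * p * (t * k)⁻¹ = t * (k * p * k⁻¹) * t⁻¹ := by group
  rw [e1, e, h.ta]

theorem pure_Q (h : Dbl S T P Q Z A K a b t x) {q : G} (hq : q ∈ Q) (hqq : q * q = 1) (hq1 : q ≠ 1) :
    ∃ g : G, g * q * g⁻¹ = a := by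
  obtain ⟨k, -, e⟩ := h.symm.cls q hq hqq hq1
  exact ⟨k, e⟩

/-- products of involutions of `P`, `Q` are conjugate to `a b` -/
theorem mixed (h : Dbl S T P Q Z A K a b t x) {p q : G} (hp : p ∈ P) (hpp : p * p = 1) (hp1 : p ≠ 1)
    (hq : q ∈ Q) (hqq : q * q = 1) (hq1 : q ≠ 1) : ∃ g : G, g * (p * q) * g⁻¹ = a * b := by
  obtain ⟨k, hk, e⟩ := h.cls p hp hpp hp1
  obtain ⟨l, hl, f⟩ := h.symm.cls q hq hqq hq1
  refine ⟨l * k, ?_⟩
  have h1 := h.KQ k hk q hq
  have h2 := h.symm.KQ l hl b h.bP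
  have e1 : l * k * (p * q) * (l * k)⁻¹ = (l * (k * p * k⁻¹) * l⁻¹) * (l * (k * q * k⁻¹) * l⁻¹) := by group
  have e2 : k * q * k⁻¹ = q := by rw [h1]; group
  have e3 : l * b * l⁻¹ = b := by rw [h2]; group
  rw [e1, e, e2, e3, f, h.ba]

/-- a pure element of `J` lies in `P` or `Q` -/
theorem pure_iff (h : Dbl S T P Q Z A K a b t x) {j : G} (hj : j ∈ P ⊔ Q) (hjj : j * j = 1) (hj1 : j ≠ 1) :
    (∃ g : G, g * j * g⁻¹ = a) ↔ j ∈ P ∨ j ∈ Q := by
  constructor
  · rintro ⟨g, hg⟩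
    obtain ⟨p, hp, q, hq, rfl⟩ := h.mem_J.mp hj
    obtain ⟨e1, e2⟩ := h.sq_of_sq hp hq hjj
    by_cases hp1 : p = 1
    · subst hp1; right; rwa [one_mul]
    by_cases hq1 : q = 1
    · subst hq1; left; rwa [mul_one]
    exfalso
    obtain ⟨k, hk⟩ := h.mixed hp e1 hp1 hq e2 hq1
    apply h.not_conj_a (k * g⁻¹)
    rw [← hg]
    have e : k * g⁻¹ * (g * (p * q) * g⁻¹) * (k * g⁻¹)⁻¹ = k * (p * q) * k⁻¹ := by group
    rw [e, hk, hg]
  · rintro (h1 | h1)
    · exact h.pure_P h1 hjj hj1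
    · exact h.pure_Q h1 hjj hj1

/-- no conjugate of `j` pure is mixed -/
theorem pure_conj (h : Dbl S T P Q Z A K a b t x) {j g : G} (hj : j ∈ P ∨ j ∈ Q) (hjj : j * j = 1)
    (hj1 : j ≠ 1) (hg : g * j * g⁻¹ ∈ P ⊔ Q) : g * j * g⁻¹ ∈ P ∨ g * j * g⁻¹ ∈ Q := by
  have hjJ : j ∈ P ⊔ Q := hj.elim (fun h => mem_sup_left h) (fun h => mem_sup_right h)
  obtain ⟨k, hk⟩ := (h.pure_iff hjJ hjj hj1).mpr hj
  refine (h.pure_iff hg ?_ ?_).mp ⟨k * g⁻¹, ?_⟩
  · rw [← conj_mul, hjj]; group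
  · intro e; exact hj1 (conj_eq_one_iff.mp e)
  · rw [← hk]; group

end Dbl

end Cfsg.Agent.UGT.L34T2
end

-- part: UGT/L34T2/BigZeta
section
/-!
# Type `L₃(4)`, `T < S`, case BIG: (zeta), (eta) of UGT #14882

`J = P Q`. Inputs (`BZ`):
* `wc`: `J` is weakly closed in `S`;
* `nJ`: `N(J)` permutes `{P, Q}` (AVERAGING in (3));
* `be`: (beta) and "pure is not conjugate to mixed": `a^G ∩ S ⊆ P ∪ Q`;
* `ep`: (eps) `S ∩ X ≤ T`.

Output: `mem_Q` (zeta): involutions of `Q` are `X`-conjugate inside `S ∩ X` only to involutions of `Q`;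
`closed` (eta): `Q` is strongly closed in `S ∩ X` with respect to `X`.
-/

set_option autoImplicit false

open Subgroup

namespace Cfsg.Agent.UGT.L34T2

variable {G : Type*} [Group G]

/-- The inputs of (zeta). -/
structure BZ (S T P Q X : Subgroup G) (a : G) : Prop where
  wc : ∀ g : G, (∀ y ∈ P ⊔ Q, g * y * g⁻¹ ∈ S) → ∀ y ∈ P ⊔ Q, g * y * g⁻¹ ∈ P ⊔ Q
  nJ : ∀ g : G, (∀ y ∈ P ⊔ Q, g * y * g⁻¹ ∈ P ⊔ Q) →
    (∀ q ∈ Q, g * q * g⁻¹ ∈ Q) ∨ (∀ q ∈ Q, g * q * g⁻¹ ∈ P)
  be : ∀ g : G, g * a * g⁻¹ ∈ S → g * a * g⁻¹ ∈ P ∨ g * a * g⁻¹ ∈ Q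
  ep : ∀ s ∈ S, s ∈ X → s ∈ T

section

variable {S T P Q Z K X : Subgroup G} {A : Bool → Subgroup G} {a b t x : G}

namespace Dbl

theorem JT (h : Dbl S T P Q Z A K a b t x) : P ⊔ Q ≤ T := sup_le h.PT h.QT

theorem JS (h : Dbl S T P Q Z A K a b t x) : P ⊔ Q ≤ S := h.JT.trans h.TS

theorem bP (h : Dbl S T P Q Z A K a b t x) : b ∈ P := h.toHeis.ZP h.bZ

theorem aQ (h : Dbl S T P Q Z A K a b t x) : a ∈ Q := h.ta ▸ h.tP b h.bP

theorem bb (h : Dbl S T P Q Z A K a b t x) : b * b = 1 := h.toHeis.Zsq h.bZ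

theorem aa (h : Dbl S T P Q Z A K a b t x) : a * a = 1 := by
  rw [← h.ta]
  calc t * b * t⁻¹ * (t * b * t⁻¹) = t * (b * b) * t⁻¹ := by group
    _ = 1 := by rw [h.bb]; group

theorem a1 (h : Dbl S T P Q Z A K a b t x) : a ≠ 1 := by
  intro e
  apply h.b1
  have h1 := h.ta
  rw [e] at h1
  calc b = t⁻¹ * (t * b * t⁻¹) * t := by group
    _ = 1 := by rw [h1]; group

theorem ttT (h : Dbl S T P Q Z A K a b t x) : t * t ∈ T := by
  rcases h.ST (t * t) (S.mul_mem h.tS h.tS) with h1 | h1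
  · exact h1
  · rw [inv_mul_cancel_left] at h1
    exact absurd h1 h.tn

/-- `t⁻¹` swaps `P` and `Q` as well -/
theorem tP' (h : Dbl S T P Q Z A K a b t x) {p : G} (hp : p ∈ P) : t⁻¹ * p * t ∈ Q := by
  have h1 := h.nQ _ (T.inv_mem h.ttT) _ (h.tP p hp)
  have h2 : (t * t)⁻¹ * (t * p * t⁻¹) * (t * t)⁻¹⁻¹ = t⁻¹ * p * t := by group
  rwa [h2] at h1

theorem tQ' (h : Dbl S T P Q Z A K a b t x) {q : G} (hq : q ∈ Q) : t⁻¹ * q * t ∈ P := by
  have h1 := h.nP _ (T.inv_mem h.ttT) _ (h.tQ q hq)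
  have h2 : (t * t)⁻¹ * (t * q * t⁻¹) * (t * t)⁻¹⁻¹ = t⁻¹ * q * t := by group
  rwa [h2] at h1

/-- `S` normalises `J = P Q` -/
theorem nJS (h : Dbl S T P Q Z A K a b t x) {s : G} (hs : s ∈ S) :
    ∀ y ∈ P ⊔ Q, s * y * s⁻¹ ∈ P ⊔ Q := by
  have key : (P ⊔ Q) ≤ (P ⊔ Q).comap (MulAut.conj s).toMonoidHom := by
    rcases h.ST s hs with h1 | h1
    · exact sup_le (fun p hp => mem_sup_left (h.nP s h1 p hp)) (fun q hq => mem_sup_right (h.nQ s h1 q hq))
    · refine sup_le (fun p hp => ?_) (fun q hq => ?_)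
      · have h2 := h.tP _ (h.nP _ h1 p hp)
        have h3 : t * (t⁻¹ * s * p * (t⁻¹ * s)⁻¹) * t⁻¹ = s * p * s⁻¹ := by group
        rw [h3] at h2
        exact mem_sup_right h2
      · have h2 := h.tQ _ (h.nQ _ h1 q hq)
        have h3 : t * (t⁻¹ * s * q * (t⁻¹ * s)⁻¹) * t⁻¹ = s * q * s⁻¹ := by group
        rw [h3] at h2
        exact mem_sup_left h2
  exact fun y hy => key hy

/-- the involutions of `Q` are fused to `a` under `t K t⁻¹` -/
theorem clsQ (h : Dbl S T P Q Z A K a b t x) {q : G} (hq : q ∈ Q) (hqq : q * q = 1) (hq1 : q ≠ 1) :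
    ∃ k ∈ K, (t * k * t⁻¹) * q * (t * k * t⁻¹)⁻¹ = a := by
  obtain ⟨k, hk, e⟩ := h.cls (t⁻¹ * q * t) (h.tQ' hq)
    (by
      calc t⁻¹ * q * t * (t⁻¹ * q * t) = t⁻¹ * (q * q) * t := by group
        _ = 1 := by rw [hqq]; group)
    (by
      intro e
      apply hq1
      calc q = t * (t⁻¹ * q * t) * t⁻¹ := by group
        _ = 1 := by rw [e]; group)
  refine ⟨k, hk, ?_⟩
  calc (t * k * t⁻¹) * q * (t * k * t⁻¹)⁻¹ = t * (k * (t⁻¹ * q * t) * k⁻¹) * t⁻¹ := by group
    _ = a := by rw [e, h.ta]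

/-- `b ∉ Q` -/
theorem bnQ (h : Dbl S T P Q Z A K a b t x) : b ∉ Q := fun hb => h.b1 (h.disj b h.bP hb)

end Dbl

end

section

variable {S T P Q Z K X : Subgroup G} {A : Bool → Subgroup G} {a b t x : G} {Inn Fix : G → Subgroup G}

namespace DblX

theorem PX (h : DblX S T P Q Z A K a b t x X Inn Fix) : P ≤ X := h.PK.trans h.KX

theorem QX (h : DblX S T P Q Z A K a b t x X Inn Fix) : Q ≤ X := by
  intro q hq
  have h1 := h.Xn.conj_mem _ (h.PX (h.toDbl.tQ' hq)) t
  have h2 : t * (t⁻¹ * q * t) * t⁻¹ = q := by group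
  rwa [h2] at h1

theorem JX (h : DblX S T P Q Z A K a b t x X Inn Fix) : P ⊔ Q ≤ X := sup_le h.PX h.QX

/-- 2-subgroups of `X` are `X`-conjugate into `S` -/
theorem sylX (h : DblX S T P Q Z A K a b t x X Inn Fix) (R : Subgroup G) (hR : IsPGroup 2 R) :
    ∃ g ∈ X, ∀ r ∈ R, g * r * g⁻¹ ∈ S := by
  obtain ⟨g, hg⟩ := h.syl R hR
  obtain ⟨y, hy, s, hs, e⟩ := h.XS g⁻¹
  refine ⟨y⁻¹, X.inv_mem hy, fun r hr => ?_⟩
  have h1 := S.mul_mem (S.mul_mem hs (hg r hr)) (S.inv_mem hs)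
  have h2 : g = s⁻¹ * y⁻¹ := by rw [← inv_inv g, e, mul_inv_rev]
  have h3 : s * (g * r * g⁻¹) * s⁻¹ = y⁻¹ * r * y⁻¹⁻¹ := by rw [h2]; group
  rwa [h3] at h1

variable [Finite G]

/-- `N_X(J)` normalises `Q` -/
theorem norm_Q (h : DblX S T P Q Z A K a b t x X Inn Fix) (hB : BZ S T P Q X a) {n : G} (hn : n ∈ X)
    (hnJ : ∀ y ∈ P ⊔ Q, n * y * n⁻¹ ∈ P ⊔ Q) : ∀ q ∈ Q, n * q * n⁻¹ ∈ Q := by
  -- the subgroup of elements normalising `J`
  let NJ : Subgroup G :=
    { carrier := {g | ∀ y ∈ P ⊔ Q, g * y * g⁻¹ ∈ P ⊔ Q}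
      one_mem' := by intro y hy; simpa only [_root_.one_mul, _root_.inv_one, _root_.mul_one] using hy
      mul_mem' := by
        intro g g' hg hg' y hy
        have h1 := hg _ (hg' y hy)
        have h2 : g * (g' * y * g'⁻¹) * g⁻¹ = g * g' * y * (g * g')⁻¹ := by group
        rwa [h2] at h1
      inv_mem' := by
        intro g hg y hy
        -- finite order
        have h1 : (P ⊔ Q).map (MulAut.conj g).toMonoidHom = P ⊔ Q := by
          apply Subgroup.eq_of_le_of_card_ge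
          · rintro _ ⟨z, hz, rfl⟩
            exact hg z hz
          · rw [card_map_of_injective (MulAut.conj g).injective]
        have h2 : y ∈ (P ⊔ Q).map (MulAut.conj g).toMonoidHom := by rw [h1]; exact hy
        obtain ⟨z, hz, e⟩ := h2
        have h3 : g⁻¹ * y * g⁻¹⁻¹ = z := by
          rw [← e]
          change g⁻¹ * (g * z * g⁻¹) * g⁻¹⁻¹ = z
          group
        rw [h3]
        exact hz }
  have hmem : ∀ g, g ∈ NJ ↔ ∀ y ∈ P ⊔ Q, g * y * g⁻¹ ∈ P ⊔ Q := fun g => Iff.rfl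
  -- the subgroup of elements of `NJ` normalising `Q`
  have hQfin : Finite Q := inferInstance
  let N0 : Subgroup G :=
    { carrier := {g | g ∈ NJ ∧ ∀ q ∈ Q, g * q * g⁻¹ ∈ Q}
      one_mem' := ⟨NJ.one_mem, by intro y hy; simpa using hy⟩
      mul_mem' := by
        rintro g g' ⟨hg, hgQ⟩ ⟨hg', hgQ'⟩
        refine ⟨NJ.mul_mem hg hg', fun y hy => ?_⟩
        have h1 := hgQ _ (hgQ' y hy)
        have h2 : g * (g' * y * g'⁻¹) * g⁻¹ = g * g' * y * (g * g')⁻¹ := by group
        rwa [h2] at h1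
      inv_mem' := by
        rintro g ⟨hg, hgQ⟩
        refine ⟨NJ.inv_mem hg, fun y hy => ?_⟩
        have h1 : Q.map (MulAut.conj g).toMonoidHom = Q := by
          apply Subgroup.eq_of_le_of_card_ge
          · rintro _ ⟨z, hz, rfl⟩
            exact hgQ z hz
          · rw [card_map_of_injective (MulAut.conj g).injective]
        have h2 : y ∈ Q.map (MulAut.conj g).toMonoidHom := by rw [h1]; exact hy
        obtain ⟨z, hz, e⟩ := h2
        have h3 : g⁻¹ * y * g⁻¹⁻¹ = z := by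
          rw [← e]
          change g⁻¹ * (g * z * g⁻¹) * g⁻¹⁻¹ = z
          group
        rw [h3]
        exact hz }
  have hmem0 : ∀ g, g ∈ N0 ↔ g ∈ NJ ∧ ∀ q ∈ Q, g * q * g⁻¹ ∈ Q := fun g => Iff.rfl
  have hTN : ∀ y ∈ T, y ∈ N0 := fun y hy => (hmem0 y).mpr
    ⟨(hmem y).mpr (h.toDbl.nJS (h.TS hy)), h.nQ y hy⟩
  -- swapping elements
  have hsw : ∀ g ∈ NJ, g ∉ N0 → ∀ q ∈ Q, g * q * g⁻¹ ∈ P := by
    intro g hg hg0
    rcases hB.nJ g hg with h1 | h1
    · exact absurd ((hmem0 g).mpr ⟨hg, h1⟩) hg0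
    · exact h1
  -- the product of two swapping elements is in `N0`
  have hsw2 : ∀ g ∈ NJ, g ∉ N0 → ∀ g' ∈ NJ, g' ∉ N0 → g * g' ∈ N0 := by
    intro g hg hg0 g' hg' hg0'
    by_contra hc
    have h1 := hsw _ (NJ.mul_mem hg hg') hc a h.toDbl.aQ
    -- `g' a g'⁻¹ ∈ P`; `g` maps `P` outside `P`
    have h2 := hsw g' hg' hg0' a h.toDbl.aQ
    have h3 : g * (g' * a * g'⁻¹) * g⁻¹ ∈ P := by
      have : g * g' * a * (g * g')⁻¹ = g * (g' * a * g'⁻¹) * g⁻¹ := by group
      rwa [this] at h1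
    -- `g Q g⁻¹ = P` by order
    have h4 : Q.map (MulAut.conj g).toMonoidHom = P := by
      apply Subgroup.eq_of_le_of_card_ge
      · rintro _ ⟨z, hz, rfl⟩
        exact hsw g hg hg0 z hz
      · rw [card_map_of_injective (MulAut.conj g).injective]
        -- `|P| ≤ |Q|`
        have h5 : P.map (MulAut.conj t).toMonoidHom ≤ Q := by
          rintro _ ⟨z, hz, rfl⟩
          exact h.tP z hz
        have h6 := Subgroup.card_le_of_le h5
        rwa [card_map_of_injective (MulAut.conj t).injective] at h6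
    have h7 : g * (g' * a * g'⁻¹) * g⁻¹ ∈ Q.map (MulAut.conj g).toMonoidHom := by rw [h4]; exact h3
    obtain ⟨z, hz, e⟩ := h7
    have h8 : z = g' * a * g'⁻¹ := by
      have : g * z * g⁻¹ = g * (g' * a * g'⁻¹) * g⁻¹ := e
      exact mul_left_cancel (mul_right_cancel this)
    rw [h8] at hz
    have h9 := h.disj _ h2 hz
    apply h.toDbl.a1
    calc a = g'⁻¹ * (g' * a * g'⁻¹) * g' := by group
      _ = 1 := by rw [h9]; group
  by_contra hcon
  have hn0 : n ∉ N0 := fun hh => hcon ((hmem0 n).mp hh).2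
  have hnJ' : n ∈ NJ := hnJ
  -- the 2-part of `n`
  obtain ⟨k, m, hm, hkm⟩ : ∃ k m : ℕ, ¬ 2 ∣ m ∧ orderOf n = 2 ^ k * m := by
    have := Nat.exists_eq_pow_mul_and_not_dvd (n := orderOf n) (orderOf_pos n).ne' 2 (by norm_num)
    obtain ⟨k, m, h1, h2⟩ := this
    exact ⟨k, m, h1, h2⟩
  have hmodd : Odd m := by
    rw [← Nat.not_even_iff_odd]
    intro he
    exact hm he.two_dvd
  have hpow : ∀ j : ℕ, Odd j → n ^ j ∉ N0 ∧ n ^ j ∈ NJ := by
    rintro j ⟨i, rfl⟩
    induction i with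
    | zero => simpa using ⟨hn0, hnJ'⟩
    | succ i ih =>
      have h1 : n ^ (2 * (i + 1) + 1) = n ^ (2 * i + 1) * (n * n) := by
        rw [← pow_two, ← pow_add]; congr 1
      have h2 : n * n ∈ N0 := hsw2 n hnJ' hn0 n hnJ' hn0
      refine ⟨fun h3 => ih.1 ?_, NJ.pow_mem hnJ' _⟩
      rw [h1] at h3
      exact (N0.mul_mem_cancel_right h2).mp h3
  obtain ⟨hw0, hwJ⟩ := hpow m hmodd
  obtain ⟨w, hw⟩ : ∃ w, w = n ^ m := ⟨_, rfl⟩
  rw [← hw] at hw0 hwJ
  have hwX : w ∈ X := hw ▸ X.pow_mem hn m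
  have hw2 : w ^ (2 ^ k) = 1 := by
    rw [hw, ← pow_mul, mul_comm, ← hkm, pow_orderOf_eq_one]
  have hwp : IsPGroup 2 (zpowers w) := by
    rintro ⟨y, i, rfl⟩
    refine ⟨k, Subtype.ext ?_⟩
    change (w ^ i) ^ (2 ^ k) = 1
    rw [← zpow_natCast, ← zpow_mul, mul_comm, zpow_mul, zpow_natCast, hw2, one_zpow]
  have hJ2 : IsPGroup 2 (P ⊔ Q : Subgroup G) := h.two.to_le h.toDbl.JT
  have hwn : zpowers w ≤ normalizer ((P ⊔ Q : Subgroup G) : Set G) := by
    rw [zpowers_le, mem_normalizer_iff]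
    intro y
    constructor
    · intro hy; exact hwJ y hy
    · intro hy
      have h1 := (NJ.inv_mem hwJ) _ hy
      have h2 : w⁻¹ * (w * y * w⁻¹) * w⁻¹⁻¹ = y := by group
      rwa [h2] at h1
  have hR : IsPGroup 2 (zpowers w ⊔ (P ⊔ Q) : Subgroup G) := hwp.to_sup_of_normal_right' hJ2 hwn
  obtain ⟨g, hgX, hg⟩ := h.sylX _ hR
  have hgJ : g ∈ NJ := by
    intro y hy
    exact hB.wc g (fun y hy => hg y (mem_sup_right hy)) y hy
  have h1 : g * w * g⁻¹ ∈ S := hg w (mem_sup_left (mem_zpowers w))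
  have h2 : g * w * g⁻¹ ∈ X := X.mul_mem (X.mul_mem hgX hwX) (X.inv_mem hgX)
  have h3 := hTN _ (hB.ep _ h1 h2)
  -- so `w ∈ N0`
  apply hw0
  by_cases hg0 : g ∈ N0
  · have h4 := N0.mul_mem (N0.mul_mem (N0.inv_mem hg0) h3) hg0
    have h5 : g⁻¹ * (g * w * g⁻¹) * g = w := by group
    rwa [h5] at h4
  · by_contra hw1
    have h4 := hsw2 g hgJ hg0 w hwJ hw1
    have h5 : g⁻¹ ∉ N0 := fun hh => hg0 (by simpa using N0.inv_mem hh)
    -- `g w ∈ N0`, `g w g⁻¹ ∈ N0`, so `g⁻¹ ∈ N0`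
    apply h5
    have h6 : g⁻¹ = (g * w)⁻¹ * (g * w * g⁻¹) := by group
    rw [h6]
    exact N0.mul_mem (N0.inv_mem h4) h3

/-- `a` is not `X`-conjugate to `b` -/
theorem not_conj (h : DblX S T P Q Z A K a b t x X Inn Fix) (hB : BZ S T P Q X a) {g : G} (hg : g ∈ X)
    (e : g * a * g⁻¹ = b) : False := by
  -- 2-subgroups `J`, `g J g⁻¹` of `C_X(b)`
  let C : Subgroup G := X ⊓ centralizer ({b} : Set G)
  have hJC : P ⊔ Q ≤ C := by
    intro y hy
    exact ⟨h.JX hy, mem_centralizer_singleton_iff.mpr (h.bT y (h.toDbl.JT hy))⟩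
  have hJ2 : IsPGroup 2 (P ⊔ Q : Subgroup G) := h.two.to_le h.toDbl.JT
  let J' : Subgroup G := cjg g (P ⊔ Q)
  have hJ'C : J' ≤ C := by
    intro y hy
    obtain ⟨u, hu, rfl⟩ := exists_of_cjg hy
    refine ⟨X.mul_mem (X.mul_mem hg (h.JX hu)) (X.inv_mem hg), mem_centralizer_singleton_iff.mpr ?_⟩
    rw [← e, commute_iff_conj]
    exact h.Ta u (h.toDbl.JT hu)
  have hJ'2 : IsPGroup 2 J' := hJ2.map _
  have hp : Fact (Nat.Prime 2) := ⟨Nat.prime_two⟩
  obtain ⟨R, hR⟩ := (hJ2.comap_of_injective C.subtype C.subtype_injective).exists_le_sylow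
  obtain ⟨R', hR'⟩ := (hJ'2.comap_of_injective C.subtype C.subtype_injective).exists_le_sylow
  obtain ⟨c, hc⟩ := MulAction.exists_smul_eq C R' R
  have hR2 : IsPGroup 2 ((R : Subgroup C).map C.subtype) := R.isPGroup'.map _
  obtain ⟨k, hk⟩ := h.syl _ hR2
  have h1 : ∀ y ∈ P ⊔ Q, k * y * k⁻¹ ∈ S := by
    intro y hy
    refine hk y ⟨⟨y, hJC hy⟩, hR ?_, rfl⟩
    exact hy
  have h2 : ∀ y ∈ P ⊔ Q, (k * c * g) * y * (k * c * g)⁻¹ ∈ S := by
    intro y hy
    have h3 : g * y * g⁻¹ ∈ J' := conj_mem_cjg.mpr hy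
    have h4 : (⟨g * y * g⁻¹, hJ'C h3⟩ : C) ∈ (R' : Subgroup C) := hR' h3
    have h5 : c * ⟨g * y * g⁻¹, hJ'C h3⟩ * c⁻¹ ∈ (R : Subgroup C) := by
      rw [← hc]
      exact ⟨_, h4, rfl⟩
    have h6 := hk _ ⟨_, h5, rfl⟩
    have h7 : k * (C.subtype (c * ⟨g * y * g⁻¹, hJ'C h3⟩ * c⁻¹)) * k⁻¹ =
        (k * c * g) * y * (k * c * g)⁻¹ := by
      simp only [Subgroup.coe_subtype, Subgroup.coe_mul, InvMemClass.coe_inv]
      group
    rwa [h7] at h6
  have h3 := hB.wc k h1
  have h4 := hB.wc _ h2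
  -- `c g` normalises `J`
  have h5 : ∀ y ∈ P ⊔ Q, (c * g) * y * (c * g)⁻¹ ∈ P ⊔ Q := by
    intro y hy
    have h6 : (P ⊔ Q).map (MulAut.conj k).toMonoidHom = P ⊔ Q := by
      apply Subgroup.eq_of_le_of_card_ge
      · rintro _ ⟨z, hz, rfl⟩
        exact h3 z hz
      · rw [card_map_of_injective (MulAut.conj k).injective]
    have h7 : (k * c * g) * y * (k * c * g)⁻¹ ∈ (P ⊔ Q).map (MulAut.conj k).toMonoidHom := by
      rw [h6]; exact h4 y hy
    obtain ⟨z, hz, e1⟩ := h7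
    have h8 : k * z * k⁻¹ = k * ((c * g) * y * (c * g)⁻¹) * k⁻¹ := by
      have e2 : k * z * k⁻¹ = (k * c * g) * y * (k * c * g)⁻¹ := e1
      rw [e2]; group
    have h9 : z = (c * g) * y * (c * g)⁻¹ := mul_left_cancel (mul_right_cancel h8)
    rw [← h9]; exact hz
  have h6 := h.norm_Q hB (n := c * g) (X.mul_mem c.2.1 hg) h5 a h.toDbl.aQ
  have h7 : (c : G) * g * a * ((c : G) * g)⁻¹ = b := by
    have hc2 : (c : G) * b = b * c := (mem_centralizer_singleton_iff.mp c.2.2)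
    calc (c : G) * g * a * ((c : G) * g)⁻¹ = c * (g * a * g⁻¹) * (c : G)⁻¹ := by group
      _ = b := by rw [e, hc2]; group
  rw [h7] at h6
  exact h.toDbl.bnQ h6

/-- **(zeta)** involutions of `Q` are `X`-conjugate inside `S` only to involutions of `Q`. -/
theorem mem_Q (h : DblX S T P Q Z A K a b t x X Inn Fix) (hB : BZ S T P Q X a) {q g : G} (hq : q ∈ Q)
    (hqq : q * q = 1) (hg : g ∈ X) (hS : g * q * g⁻¹ ∈ S) : g * q * g⁻¹ ∈ Q := by
  by_cases hq1 : q = 1
  · rw [hq1, mul_one, mul_inv_cancel]; exact Q.one_mem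
  obtain ⟨k, hk, e⟩ := h.toDbl.clsQ hq hqq hq1
  have hkX : t * k * t⁻¹ ∈ X := h.Xn.conj_mem _ (h.KX hk) t
  obtain ⟨l, hl⟩ : ∃ l, l = t * k * t⁻¹ := ⟨_, rfl⟩
  rw [← hl] at e hkX
  have h1 : q = l⁻¹ * a * l := by rw [← e]; group
  have h2 : g * q * g⁻¹ = (g * l⁻¹) * a * (g * l⁻¹)⁻¹ := by rw [h1]; group
  rcases hB.be (g * l⁻¹) (h2 ▸ hS) with h3 | h3
  · exfalso
    have h4 : (g * q * g⁻¹) * (g * q * g⁻¹) = 1 := by
      calc (g * q * g⁻¹) * (g * q * g⁻¹) = g * (q * q) * g⁻¹ := by group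
        _ = 1 := by rw [hqq]; group
    obtain ⟨k', hk', e'⟩ := h.cls _ (h2 ▸ h3) h4 (by
      intro e3
      apply hq1
      calc q = g⁻¹ * (g * q * g⁻¹) * g := by group
        _ = 1 := by rw [e3]; group)
    refine h.not_conj hB (g := k' * (g * l⁻¹)) (X.mul_mem (h.KX hk') (X.mul_mem hg (X.inv_mem hkX))) ?_
    rw [← e', h2]
    group
  · rw [h2]; exact h3

/-- **(eta)** `Q` is strongly closed in `S ∩ X` with respect to `X`. -/
theorem closed (h : DblX S T P Q Z A K a b t x X Inn Fix) (hB : BZ S T P Q X a) {q g : G} (hq : q ∈ Q)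
    (hg : g ∈ X) (hS : g * q * g⁻¹ ∈ S) : g * q * g⁻¹ ∈ Q := by
  by_cases hq1 : q = 1
  · rw [hq1, mul_one, mul_inv_cancel]; exact Q.one_mem
  -- the involution of `⟨q⟩`
  obtain ⟨k, hk⟩ := (h.two.to_le h.QT) ⟨q, hq⟩
  have hk' : q ^ (2 ^ k) = 1 := congrArg Subtype.val hk
  obtain ⟨i, hi, hi'⟩ : ∃ i : ℕ, q ^ (2 ^ i) ≠ 1 ∧ q ^ (2 ^ (i + 1)) = 1 := by
    by_contra hcon
    push Not at hcon
    have : ∀ i : ℕ, q ^ (2 ^ i) ≠ 1 := by
      intro i
      induction i with
      | zero => simpa using hq1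
      | succ i ih => exact hcon i ih
    exact this k hk'
  obtain ⟨e0, he0⟩ : ∃ e0, e0 = q ^ (2 ^ i) := ⟨_, rfl⟩
  have he0Q : e0 ∈ Q := he0 ▸ Q.pow_mem hq _
  have he0e : e0 * e0 = 1 := by
    rw [he0, ← pow_add, ← two_mul, ← pow_succ']
    exact hi'
  have he01 : e0 ≠ 1 := he0 ▸ hi
  have hqe : q * e0 = e0 * q := by rw [he0]; exact (Commute.refl q).pow_right _
  have hy : g * q * g⁻¹ ∈ T := hB.ep _ hS (X.mul_mem (X.mul_mem hg (h.QX hq)) (X.inv_mem hg))
  have he1 : g * e0 * g⁻¹ ∈ S := by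
    rw [he0]
    have h1 : g * q ^ (2 ^ i) * g⁻¹ = (g * q * g⁻¹) ^ (2 ^ i) := by
      rw [conj_pow]
    rw [h1]
    exact S.pow_mem hS _
  have he1Q := h.mem_Q hB he0Q he0e hg he1
  have h1 : q ∈ Fix e0 := (h.FixQ e0 he0Q he0e he01 q (h.QT hq) hqe).mpr hq
  have h2 := h.Fixc g e0 q h1
  refine (h.FixQ _ he1Q ?_ ?_ _ hy ?_).mp h2
  · calc g * e0 * g⁻¹ * (g * e0 * g⁻¹) = g * (e0 * e0) * g⁻¹ := by group
      _ = 1 := by rw [he0e]; group
  · intro e
    apply he01
    calc e0 = g⁻¹ * (g * e0 * g⁻¹) * g := by group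
      _ = 1 := by rw [e]; group
  · rw [commute_iff_conj]; exact hqe

end DblX

end

end Cfsg.Agent.UGT.L34T2
end
end

-- part: UGT/L34T2/BigDelta
section
prune_inst 0xc0302204502202000000000220003c4282000000000b000131000600068edc2089002620c0200e021000280400310040031000500230000000000000411d01a08022c0028308a10427000f80b007180c00000000000000000000000000041000000000000
set_option linter.all false
open scoped Cfsg.Agent.FastGrp

/-!
# Type `L₃(4)`, case BIG, steps (delta) and (eps) (UGT #14882 (4))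

* `alpha_of` : `Alpha S T` from `NoMix`;
* `delta` : no involution of `S - T` lies in `X`;
* `eps` : `S ∩ X ≤ T`.
-/

set_option autoImplicit false

open Subgroup MulAction

namespace Cfsg.Agent.UGT.L34T2.BigDelta

open BigAlpha

variable {G : Type*} [Group G] {S T P Q Z : Subgroup G} {A : Bool → Subgroup G} {K : Subgroup G} {a b t x : G}
  {X : Subgroup G} {Inn Fix : G → Subgroup G}

theorem not_isConj (h : Dbl S T P Q Z A K a b t x) (hmix : Big.NoMix P Q a) : ¬ IsConj a (a * b) := by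
  intro hc
  obtain ⟨c, hc⟩ := isConj_iff.mp hc
  have hab := h.comm b (bP h) a (aQ h)
  refine hmix b (bP h) a (aQ h) (b2 h) h.b1 (a2 h) (a1 h) c⁻¹ ?_
  rw [hab, ← hc]
  group

theorem alpha_of [Finite G] (h : Dbl S T P Q Z A K a b t x) (hmix : Big.NoMix P Q a) : Big.Alpha S T := by
  rintro w v g hw hwT hw2 rfl hvT hC hfull
  refine alpha h (not_isConj h hmix) hw hwT hw2 hvT hC fun R hR hc => ?_
  refine (hfull R hR hc).trans (le_of_eq ?_)
  refine Nat.card_congr (Equiv.subtypeEquivRight fun s => ?_)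
  rw [mem_inf, mem_centralizer_singleton_iff]

/-! ### the sign of `S / T` -/

/-- `T` has index 2 in `S` -/
theorem mul_iff (h : Dbl S T P Q Z A K a b t x) {s r : G} (hs : s ∈ S) (hr : r ∈ S) :
    s * r ∈ T ↔ (s ∈ T ↔ r ∈ T) := by
  by_cases hsT : s ∈ T
  · simp only [hsT, true_iff]
    exact mul_mem_cancel_left hsT
  · by_cases hrT : r ∈ T
    · simp only [hrT, iff_true]
      exact mul_mem_cancel_right hrT
    · simp only [hsT, hrT, iff_true]
      exact mul_mem_T h hs hsT hr hrT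

theorem conj_iff (h : Dbl S T P Q Z A K a b t x) {s r : G} (hs : s ∈ S) (hr : r ∈ S) :
    s⁻¹ * r * s ∈ T ↔ r ∈ T := by
  rw [mul_iff h (mul_mem (inv_mem hs) hr) hs, mul_iff h (inv_mem hs) hr, inv_mem_iff]
  tauto

/-- the parity on `G / S` -/
def ev (S T : Subgroup G) (ω : G ⧸ S) (y : G) : Prop := ω.out⁻¹ * y * ω.out ∈ T

theorem smul_iff {g y : G} : y • (g : G ⧸ S) = g ↔ g⁻¹ * y * g ∈ S := by
  change ((y * g : G) : G ⧸ S) = (g : G ⧸ S) ↔ _
  rw [eq_comm, QuotientGroup.eq, mul_assoc]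

theorem smul_out_iff {ω : G ⧸ S} {y : G} : y • ω = ω ↔ ω.out⁻¹ * y * ω.out ∈ S := by
  conv_lhs => rw [← QuotientGroup.out_eq' ω]
  exact smul_iff

theorem ev_mk (h : Dbl S T P Q Z A K a b t x) {g y : G} (hy : g⁻¹ * y * g ∈ S) :
    ev S T (g : G ⧸ S) y ↔ g⁻¹ * y * g ∈ T := by
  obtain ⟨s, hs⟩ := QuotientGroup.mk_out_eq_mul S g
  unfold ev
  rw [hs]
  have e : (g * (s : G))⁻¹ * y * (g * s) = (s : G)⁻¹ * (g⁻¹ * y * g) * s := by group
  rw [e]
  exact conj_iff h s.2 hy

theorem isParity (h : Dbl S T P Q Z A K a b t x) : Parity.IsParity (ev S T) where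
  mul := by
    intro ω g k hg hk
    rw [smul_out_iff] at hg hk
    unfold ev
    have e : ω.out⁻¹ * (g * k) * ω.out = (ω.out⁻¹ * g * ω.out) * (ω.out⁻¹ * k * ω.out) := by group
    rw [e]
    exact mul_iff h hg hk
  conj := by
    intro ω g k hk
    have hk' := smul_out_iff.mp hk
    have e1 : g • ω = ((g * ω.out : G) : G ⧸ S) := by
      conv_lhs => rw [← QuotientGroup.out_eq' ω]
      rfl
    have e : (g * ω.out)⁻¹ * (g * k * g⁻¹) * (g * ω.out) = ω.out⁻¹ * k * ω.out := by group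
    rw [e1, ev_mk h (by rw [e]; exact hk'), e]
    rfl

/-- `|G : S|` is odd -/
theorem odd_index [Finite G] (h : Dbl S T P Q Z A K a b t x) : Odd (Nat.card (G ⧸ S)) := by
  have hp : Fact (Nat.Prime 2) := ⟨Nat.prime_two⟩
  obtain ⟨R, hR⟩ := h.S2.exists_le_sylow
  have h1 : (R : Subgroup G) = S := by
    symm
    apply Subgroup.eq_of_le_of_card_ge hR
    obtain ⟨g, hg⟩ := h.syl R R.isPGroup'
    exact Nat.card_le_card_of_injective (fun r : (R : Subgroup G) => (⟨g * r * g⁻¹, hg r r.2⟩ : S)) (by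
      intro r r' e
      have e1 : g * (r : G) * g⁻¹ = g * r' * g⁻¹ := congrArg Subtype.val e
      exact Subtype.ext (mul_left_cancel (mul_right_cancel e1)))
  have h2 := R.not_dvd_index
  rw [h1] at h2
  rw [← Nat.not_even_iff_odd, even_iff_two_dvd]
  exact h2

/-- a 2-subgroup of `C(w)` containing `C_S(w)`, of maximal order -/
theorem exists_R [Finite G] (hS : IsPGroup 2 S) (w : G) : ∃ R : Subgroup G, IsPGroup 2 R ∧
    R ≤ centralizer ({w} : Set G) ∧ S ⊓ centralizer ({w} : Set G) ≤ R ∧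
    ∀ R' : Subgroup G, IsPGroup 2 R' → R' ≤ centralizer ({w} : Set G) → Nat.card R' ≤ Nat.card R := by
  have hp : Fact (Nat.Prime 2) := ⟨Nat.prime_two⟩
  obtain ⟨C, hC⟩ : ∃ C, C = centralizer ({w} : Set G) := ⟨_, rfl⟩
  rw [← hC]
  have h1 : IsPGroup 2 (S.subgroupOf C) := hS.comap_of_injective C.subtype C.subtype_injective
  obtain ⟨R, hR⟩ := h1.exists_le_sylow
  refine ⟨(R : Subgroup C).map C.subtype, R.isPGroup'.map _, map_subtype_le _, ?_, ?_⟩
  · rintro s ⟨hs, hsC⟩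
    exact ⟨⟨s, hsC⟩, hR (mem_subgroupOf.mpr hs), rfl⟩
  · intro R' hR' hR'C
    have h2 : IsPGroup 2 (R'.subgroupOf C) := hR'.comap_of_injective C.subtype C.subtype_injective
    obtain ⟨R1, hR1⟩ := h2.exists_le_sylow
    have h3 := Subgroup.card_le_of_le hR1
    rw [Nat.card_congr (Subgroup.subgroupOfEquivOfLe hR'C).toEquiv] at h3
    rw [card_map_of_injective C.subtype_injective]
    have h4 : Nat.card (R1 : Subgroup C) = Nat.card (R : Subgroup C) := by
      rw [Sylow.card_eq_multiplicity, Sylow.card_eq_multiplicity]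
    omega

/-- **(delta)** -/
theorem delta [Finite G] (D : DblX S T P Q Z A K a b t x X Inn Fix) (hα : Big.Alpha S T) {w : G} (hw : w ∈ S)
    (hwT : w ∉ T) (hw2 : w * w = 1) : w ∉ X := by
  intro hwX
  have hp : Fact (Nat.Prime 2) := ⟨Nat.prime_two⟩
  have h := D.toDbl
  obtain ⟨R, hR2, hRC, hSR, hRmax⟩ := exists_R h.S2 w
  have hwR : w ∈ R := hSR ⟨hw, mem_centralizer_singleton_iff.mpr rfl⟩
  obtain ⟨f, hf⟩ := Parity.exists_hom_fixed (isParity h)
  have h1 := hf w R hw2 hR2 hRC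
  have h2 : f w = 1 := by
    have h3 := D.perf (f.comp X.subtype)
    exact congrArg (fun φ : X →* ℤˣ => φ ⟨w, hwX⟩) h3
  have h3 := hR2.card_modEq_card_fixedPoints (G ⧸ S)
  have h4 := odd_index h
  -- some point fixed by `R` has value in `T`
  obtain ⟨ω, hω, hev⟩ : ∃ ω : G ⧸ S, (∀ r ∈ R, r • ω = ω) ∧ ev S T ω w := by
    by_contra hcon
    push Not at hcon
    have e : fixedPoints ↥R (G ⧸ S) ≃
        {ω : G ⧸ S // (w • ω = ω ∧ ¬ ev S T ω w) ∧ ∀ r ∈ R, r • ω = ω} :=
      { toFun := fun ω => ⟨ω.1, ⟨ω.2 ⟨w, hwR⟩, hcon ω.1 fun r hr => ω.2 ⟨r, hr⟩⟩, fun r hr => ω.2 ⟨r, hr⟩⟩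
        invFun := fun ω => ⟨ω.1, fun r => ω.2.2 r r.2⟩
        left_inv := fun _ => rfl
        right_inv := fun _ => rfl }
    rw [Nat.card_congr e] at h3
    have h5 : Odd (Nat.card {ω : G ⧸ S // (w • ω = ω ∧ ¬ ev S T ω w) ∧ ∀ r ∈ R, r • ω = ω}) := by
      rw [Nat.odd_iff] at h4 ⊢
      rw [← h4]; exact h3.symm
    rw [h2, h5.neg_one_pow] at h1
    exact absurd h1 (by decide)
  have hR' : ∀ r ∈ R, ω.out⁻¹ * r * ω.out ∈ S := fun r hr => smul_out_iff.mp (hω r hr)
  refine hα w (ω.out⁻¹ * w * ω.out) ω.out⁻¹ hw hwT hw2 (by group) hev ?_ ?_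
  · intro y hy hyw
    rw [inv_inv]
    exact hR' y (hSR ⟨hy, mem_centralizer_singleton_iff.mpr hyw⟩)
  · intro R1 hR1 hc
    have h5 := hRmax (R1.map (MulAut.conj ω.out).toMonoidHom) (hR1.map _) (by
      rintro _ ⟨r, hr, rfl⟩
      rw [mem_centralizer_singleton_iff]
      have h6 := hc r hr
      change ω.out * r * ω.out⁻¹ * w = w * (ω.out * r * ω.out⁻¹)
      calc ω.out * r * ω.out⁻¹ * w = ω.out * (r * (ω.out⁻¹ * w * ω.out)) * ω.out⁻¹ := by group
        _ = ω.out * ((ω.out⁻¹ * w * ω.out) * r) * ω.out⁻¹ := by rw [h6]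
        _ = w * (ω.out * r * ω.out⁻¹) := by group)
    rw [card_map_of_injective (MulAut.conj ω.out).injective] at h5
    refine h5.trans ?_
    refine Nat.card_le_card_of_injective (fun r : R => (⟨ω.out⁻¹ * r * ω.out, hR' r r.2,
      mem_centralizer_singleton_iff.mpr ?_⟩ :
      (S ⊓ centralizer ({ω.out⁻¹ * w * ω.out} : Set G) : Subgroup G))) ?_
    · have h6 : (r : G) * w = w * r := mem_centralizer_singleton_iff.mp (hRC r.2)
      calc ω.out⁻¹ * r * ω.out * (ω.out⁻¹ * w * ω.out) = ω.out⁻¹ * (r * w) * ω.out := by group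
        _ = ω.out⁻¹ * (w * r) * ω.out := by rw [h6]
        _ = ω.out⁻¹ * w * ω.out * (ω.out⁻¹ * r * ω.out) := by group
    · intro r r' e
      have e1 : ω.out⁻¹ * (r : G) * ω.out = ω.out⁻¹ * r' * ω.out := congrArg Subtype.val e
      exact Subtype.ext (mul_left_cancel (mul_right_cancel e1))

/-! ### (eps) -/

open scoped Classical in
/-- the sign of `S / T` -/
noncomputable def sg (h : Dbl S T P Q Z A K a b t x) : ↥S →* ℤˣ where
  toFun s := if (s : G) ∈ T then 1 else -1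
  map_one' := if_pos (one_mem T)
  map_mul' s r := by
    have h1 := mul_iff h s.2 r.2
    change (if (s : G) * r ∈ T then (1 : ℤˣ) else -1) = _
    by_cases hs : (s : G) ∈ T <;> by_cases hr : (r : G) ∈ T <;> simp_all

theorem sg_pos (h : Dbl S T P Q Z A K a b t x) {s : ↥S} (hs : (s : G) ∈ T) : sg h s = 1 := if_pos hs

theorem sg_neg (h : Dbl S T P Q Z A K a b t x) {s : ↥S} (hs : (s : G) ∉ T) : sg h s = -1 := if_neg hs

/-- an element of order 4 of `X` with all values on the fixed points outside `T` -/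
theorem false_of_four [Finite G] (D : DblX S T P Q Z A K a b t x X Inn Fix) {u : G} (huX : u ∈ X)
    (h4 : u * u * (u * u) = 1) (h2 : ∀ g : G, g⁻¹ * (u * u) * g ∈ S → g⁻¹ * (u * u) * g ∈ T)
    (h1 : ∀ g : G, g⁻¹ * u * g ∈ S → g⁻¹ * u * g ∉ T) : False := by
  classical
  have hp : Fact (Nat.Prime 2) := ⟨Nat.prime_two⟩
  have h := D.toDbl
  have hfin : Fintype (Quotient (orbitRel (zpowers u) (G ⧸ S))) := Fintype.ofFinite _
  have hV := MonoidHom.transfer_eq_prod_quotient_orbitRel_zpowers_quot (ϕ := sg h) u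
  have hV1 : MonoidHom.transfer (sg h) u = 1 := by
    have h3 := D.perf ((MonoidHom.transfer (sg h)).comp X.subtype)
    exact congrArg (fun φ : X →* ℤˣ => φ ⟨u, huX⟩) h3
  rw [hV1] at hV
  have hu4 : u ^ 4 = 1 := by
    rw [← h4, show (4 : ℕ) = 1 + 1 + 1 + 1 from rfl]
    simp only [pow_add, pow_one, mul_assoc]
  have hval : ∀ q : Quotient (orbitRel (zpowers u) (G ⧸ S)),
      sg h ⟨q.out.out⁻¹ * u ^ Function.minimalPeriod (u • ·) q.out * q.out.out,
        QuotientGroup.out_conj_pow_minimalPeriod_mem S u q.out⟩ =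
      if u • q.out = q.out then -1 else 1 := by
    intro q
    obtain ⟨n, hn⟩ : ∃ n, n = Function.minimalPeriod (u • ·) q.out := ⟨_, rfl⟩
    have hmem := QuotientGroup.out_conj_pow_minimalPeriod_mem S u q.out
    have hdvd : n ∣ 4 := by
      rw [hn]
      refine Function.IsPeriodicPt.minimalPeriod_dvd ?_
      change ((u • ·)^[4]) q.out = q.out
      rw [smul_iterate, hu4]
      exact one_smul _ _
    have hn0 : n ≤ 4 := Nat.le_of_dvd (by norm_num) hdvd
    by_cases hfix : u • q.out = q.out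
    · rw [if_pos hfix]
      refine sg_neg h ?_
      have h5 : Function.minimalPeriod (u • ·) q.out = 1 :=
        Function.minimalPeriod_eq_one_iff_isFixedPt.mpr hfix
      change q.out.out⁻¹ * u ^ Function.minimalPeriod (u • ·) q.out * q.out.out ∉ T
      rw [h5] at hmem ⊢
      rw [pow_one] at hmem ⊢
      exact h1 _ hmem
    · rw [if_neg hfix]
      refine sg_pos h ?_
      change q.out.out⁻¹ * u ^ Function.minimalPeriod (u • ·) q.out * q.out.out ∈ T
      rw [← hn] at hmem ⊢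
      have hn1 : n ≠ 1 := by
        intro e
        rw [e] at hn
        exact hfix (Function.minimalPeriod_eq_one_iff_isFixedPt.mp hn.symm)
      have hn2 : n = 2 ∨ n = 4 := by
        interval_cases n <;> omega
      rcases hn2 with e | e
      · rw [e, pow_two] at hmem ⊢
        exact h2 _ hmem
      · rw [e, hu4]
        have e2 : q.out.out⁻¹ * 1 * q.out.out = (1 : G) := by group
        rw [e2]
        exact one_mem T
  rw [Finset.prod_congr rfl (fun q _ => hval q), Finset.prod_ite, Finset.prod_const_one, mul_one,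
    Finset.prod_const] at hV
  -- the number of fixed points is odd
  have hz2 : IsPGroup 2 ↥(zpowers u) := by
    rintro ⟨g, hg⟩
    obtain ⟨k, rfl⟩ := mem_zpowers_iff.mp hg
    refine ⟨2, Subtype.ext ?_⟩
    change (u ^ k) ^ 2 ^ 2 = 1
    rw [← zpow_natCast, ← zpow_mul, mul_comm, zpow_mul]
    have : u ^ ((2 ^ 2 : ℕ) : ℤ) = 1 := by
      rw [zpow_natCast]; exact hu4
    rw [this, one_zpow]
  have h3 := hz2.card_modEq_card_fixedPoints (G ⧸ S)
  have h5 := odd_index h
  have hfixz : ∀ ω : G ⧸ S, u • ω = ω → ∀ z : zpowers u, z • ω = ω := by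
    rintro ω hω ⟨z, hz⟩
    obtain ⟨k, rfl⟩ := mem_zpowers_iff.mp hz
    change u ^ k • ω = ω
    have h6 : u ∈ stabilizer G ω := hω
    exact (stabilizer G ω).zpow_mem h6 k
  have e : fixedPoints ↥(zpowers u) (G ⧸ S) ≃
      {q // q ∈ Finset.univ.filter (fun q : Quotient (orbitRel (zpowers u) (G ⧸ S)) => u • q.out = q.out)} :=
    { toFun := fun ω => ⟨⟦ω.1⟧, by
        rw [Finset.mem_filter]
        refine ⟨Finset.mem_univ _, ?_⟩
        have h6 : (orbitRel (zpowers u) (G ⧸ S)).r (Quotient.out ⟦ω.1⟧) ω.1 := Quotient.mk_out ω.1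
        obtain ⟨z, hz⟩ := h6
        have h7 : z • ω.1 = ω.1 := ω.2 z
        have h8 : (Quotient.out (⟦ω.1⟧ : Quotient (orbitRel (zpowers u) (G ⧸ S)))) = ω.1 := by
          rw [← hz]; exact h7
        rw [h8]
        exact ω.2 ⟨u, mem_zpowers u⟩⟩
      invFun := fun q => ⟨q.1.out, hfixz _ (Finset.mem_filter.mp q.2).2⟩
      left_inv := by
        rintro ⟨ω, hω⟩
        refine Subtype.ext ?_
        have h6 : (orbitRel (zpowers u) (G ⧸ S)).r (Quotient.out ⟦ω⟧) ω := Quotient.mk_out ω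
        obtain ⟨z, hz⟩ := h6
        have h7 : z • ω = ω := hω z
        change (Quotient.out (⟦ω⟧ : Quotient (orbitRel (zpowers u) (G ⧸ S)))) = ω
        rw [← hz]; exact h7
      right_inv := by
        rintro ⟨q, hq⟩
        exact Subtype.ext (Quotient.out_eq q) }
  have h7 := Nat.card_eq_fintype_card (α := {q // q ∈ Finset.univ.filter
    (fun q : Quotient (orbitRel (zpowers u) (G ⧸ S)) => u • q.out = q.out)})
  rw [Fintype.card_coe] at h7
  rw [Nat.card_congr e, h7] at h3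
  have h6 : Odd (Finset.univ.filter (fun q : Quotient (orbitRel (zpowers u) (G ⧸ S)) =>
      u • q.out = q.out)).card := by
    rw [Nat.odd_iff] at h5 ⊢
    rw [← h5]; exact h3.symm
  rw [h6.neg_one_pow] at hV
  exact absurd hV (by decide)

theorem PX (D : DblX S T P Q Z A K a b t x X Inn Fix) : P ≤ X := D.PK.trans D.KX

/-- `u² ∉ J` for `u ∈ X ∩ (S - T)` -/
theorem sq_not_mem [Finite G] (D : DblX S T P Q Z A K a b t x X Inn Fix) (hα : Big.Alpha S T) {u : G}
    (hu : u ∈ S) (huT : u ∉ T) (huX : u ∈ X) : u * u ∉ P ⊔ Q := by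
  intro huJ
  have h := D.toDbl
  obtain ⟨p, hp, q, hq, e⟩ := (mem_J h).mp huJ
  have h1 : u * (p * q) = p * q * u := by rw [← e, mul_assoc]
  obtain ⟨h2, h3⟩ := comm_sw h hu huT hp hq h1
  have hw : u * p⁻¹ ∈ S := mul_mem hu (h.TS (h.PT (inv_mem hp)))
  have hwT : u * p⁻¹ ∉ T := by
    intro hc
    apply huT
    have e2 : u = u * p⁻¹ * p := by group
    rw [e2]
    exact mul_mem hc (h.PT hp)
  refine delta D hα hw hwT ?_ (mul_mem huX (inv_mem (PX D hp)))
  have e3 : u⁻¹ * p * u = q := by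
    rw [h3]; group
  calc u * p⁻¹ * (u * p⁻¹) = (u * u) * (u⁻¹ * p * u)⁻¹ * p⁻¹ := by group
    _ = p * q * q⁻¹ * p⁻¹ := by rw [e, e3]
    _ = 1 := by group

/-- **(eps)** -/
theorem eps [Finite G] (D : DblX S T P Q Z A K a b t x X Inn Fix) (hmix : Big.NoMix P Q a)
    (hα : Big.Alpha S T) : ∀ s ∈ S, s ∈ X → s ∈ T := by
  intro s hs hsX
  by_contra hsT
  have h := D.toDbl
  have hyJ := sq_not_mem D hα hs hsT hsX
  have hyT : s * s ∈ T := mul_mem_T h hs hsT hs hsT
  obtain ⟨p, hp, hpq⟩ := h.inv2 (s * s) hyT (fun hc => hyJ ((mem_J h).mpr hc))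
  have hpX := PX D hp
  -- `u = s p`
  obtain ⟨u, hu⟩ : ∃ u, u = s * p := ⟨_, rfl⟩
  have huS : u ∈ S := by rw [hu]; exact mul_mem hs (h.TS (h.PT hp))
  have huX : u ∈ X := by rw [hu]; exact mul_mem hsX hpX
  have huT : u ∉ T := by
    intro hc
    apply hsT
    have e2 : s = u * p⁻¹ := by rw [hu]; group
    rw [e2]
    exact mul_mem hc (inv_mem (h.PT hp))
  have hq' : s⁻¹ * p * s ∈ Q := by
    have h1 := sw_P h (inv_mem hs) (fun hc => hsT (inv_mem_iff.mp hc)) hp
    rwa [inv_inv] at h1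
  have e1 : u * u = (s * s * p) * (s⁻¹ * p * s) := by
    have h1 := h.comm p hp _ hq'
    calc u * u = (s * s) * ((s⁻¹ * p * s) * p) := by rw [hu]; group
      _ = (s * s) * (p * (s⁻¹ * p * s)) := by rw [h1]
      _ = (s * s * p) * (s⁻¹ * p * s) := by group
  have hspT : s * s * p ∈ T := mul_mem hyT (h.PT hp)
  have h4Q : u * u * (u * u) ∈ Q := by
    have e2 : u * u * (u * u) = (s * s * p * (s * s * p)) *
        ((s * s * p)⁻¹ * (s⁻¹ * p * s) * (s * s * p)) * (s⁻¹ * p * s) := by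
      rw [e1]; group
    rw [e2]
    exact mul_mem (mul_mem hpq (inv_nQ h hspT hq')) hq'
  have h4 : u * u * (u * u) = 1 := by
    refine h.disj _ ?_ h4Q
    have h5 := sw_Q h huS huT h4Q
    have e3 : u * (u * u * (u * u)) * u⁻¹ = u * u * (u * u) := by group
    rwa [e3] at h5
  have hzJ := sq_not_mem D hα huS huT huX
  have hzT : u * u ∈ T := mul_mem_T h huS huT huS huT
  refine false_of_four D huX h4 ?_ ?_
  · intro g hg
    by_contra hgT
    refine delta D hα hg hgT ?_ ?_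
    · calc g⁻¹ * (u * u) * g * (g⁻¹ * (u * u) * g) = g⁻¹ * (u * u * (u * u)) * g := by group
        _ = 1 := by rw [h4]; group
    · have h5 := D.Xn.conj_mem _ (mul_mem huX huX) g⁻¹
      rwa [inv_inv] at h5
  · intro g _ hgT
    have h5 := h.toFr.sq_mem hgT
    have e4 : g⁻¹ * u * g * (g⁻¹ * u * g) = g⁻¹ * (u * u) * g⁻¹⁻¹ := by group
    rw [e4] at h5
    refine Big.gamma D hmix hα (y := u * u) (g := g⁻¹) hzT (fun hc => hzJ ((mem_J h).mpr hc)) h4 ?_
    exact (mem_J h).mp h5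

end Cfsg.Agent.UGT.L34T2.BigDelta
end

-- part: UGT/L34T2/BigBZ
section
set_option linter.all false
open scoped Cfsg.Agent.FastGrp

/-!
# Type `L₃(4)`, `T < S`, case BIG: the record `BZ`

* `Dbl.nJ`: `N(J)` permutes `{P, Q}`.
* `Dbl.noMix`, `DblX.bz`.
-/

set_option autoImplicit false

open Subgroup

namespace Cfsg.Agent.UGT.L34T2

variable {G : Type*} [Group G] [Finite G]

variable {S T P Q Z K X : Subgroup G} {A : Bool → Subgroup G} {a b t x : G} {Inn Fix : G → Subgroup G}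

namespace Dbl

theorem noMix (h : Dbl S T P Q Z A K a b t x) : Big.NoMix P Q a := by
  intro p hp q hq hpp hp1 hqq hq1 g e
  have hpq := h.comm p hp q hq
  have h1 : (p * q) * (p * q) = 1 := by
    calc (p * q) * (p * q) = p * (q * p) * q := by group
      _ = p * (p * q) * q := by rw [hpq]
      _ = (p * p) * (q * q) := by group
      _ = 1 := by rw [hpp, hqq, one_mul]
  have h2 : p * q ≠ 1 := by
    intro e1
    apply hp1
    have e2 : p = q⁻¹ := eq_inv_of_mul_eq_one_left e1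
    exact h.disj p hp (e2 ▸ Q.inv_mem hq)
  rcases (h.pure_iff (h.mem_J.mpr ⟨p, hp, q, hq, rfl⟩) h1 h2).mp ⟨g, e⟩ with h3 | h3
  · apply hq1
    refine h.disj q ?_ hq
    have := P.mul_mem (P.inv_mem hp) h3
    rwa [inv_mul_cancel_left] at this
  · apply hp1
    refine h.disj p hp ?_
    have := Q.mul_mem h3 (Q.inv_mem hq)
    rwa [mul_inv_cancel_right] at this

/-- `N(J)` permutes `{P, Q}` -/
theorem nJ_PQ (h : Dbl S T P Q Z A K a b t x) {g : G} (hg : ∀ y ∈ P ⊔ Q, g * y * g⁻¹ ∈ P ⊔ Q) :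
    (∀ q ∈ Q, g * q * g⁻¹ ∈ Q) ∨ (∀ q ∈ Q, g * q * g⁻¹ ∈ P) := by
  have haQ := h.a_mem_Q
  -- the involutions go where `a` goes
  have key : ∀ R R' : Subgroup G, (∀ j, j ∈ R → j ∈ R' → j = 1) → g * a * g⁻¹ ∈ R →
      (∀ j ∈ Q, j * j = 1 → j ≠ 1 → g * j * g⁻¹ ∈ R ∨ g * j * g⁻¹ ∈ R') →
      ∀ q ∈ Q, g * q * g⁻¹ ∈ R := by
    intro R R' hRR ha hor
    have hinv : ∀ u ∈ Q, u * u = 1 → g * u * g⁻¹ ∈ R := by
      intro u hu huu
      by_cases hu1 : u = 1
      · rw [hu1, mul_one, mul_inv_cancel]; exact R.one_mem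
      by_cases hua : u = a
      · rw [hua]; exact ha
      rcases hor u hu huu hu1 with h1 | h1
      · exact h1
      · exfalso
        have hua' : u * a = a * u := h.Ta u (h.QT hu)
        have h2 : (u * a) * (u * a) = 1 := by
          calc (u * a) * (u * a) = u * (a * u) * a := by group
            _ = u * (u * a) * a := by rw [hua']
            _ = (u * u) * (a * a) := by group
            _ = 1 := by rw [huu, h.a_sq, one_mul]
        have h3 : u * a ≠ 1 := by
          intro e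
          apply hua
          have e1 : u = a⁻¹ := eq_inv_of_mul_eq_one_left e
          rw [e1]
          exact inv_eq_of_mul_eq_one_left h.a_sq
        have e1 : g * (u * a) * g⁻¹ = (g * u * g⁻¹) * (g * a * g⁻¹) := by group
        rcases hor _ (Q.mul_mem hu haQ) h2 h3 with h4 | h4
        · rw [e1] at h4
          have h5 : g * u * g⁻¹ ∈ R := by
            have := R.mul_mem h4 (R.inv_mem ha)
            rwa [mul_inv_cancel_right] at this
          have h6 := hRR _ h5 h1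
          apply hu1
          calc u = g⁻¹ * (g * u * g⁻¹) * g := by group
            _ = 1 := by rw [h6]; group
        · rw [e1] at h4
          have h5 : g * a * g⁻¹ ∈ R' := by
            have := R'.mul_mem (R'.inv_mem h1) h4
            rwa [inv_mul_cancel_left] at this
          have h6 := hRR _ ha h5
          apply h.a_ne
          calc a = g⁻¹ * (g * a * g⁻¹) * g := by group
            _ = 1 := by rw [h6]; group
    intro q hq
    obtain ⟨u, hu, v, hv, rfl⟩ := h.symm.sup q hq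
    have e : g * (u * v) * g⁻¹ = (g * u * g⁻¹) * (g * v * g⁻¹) := by group
    rw [e]
    exact R.mul_mem (hinv u (h.symm.AP _ hu) (h.symm.Asq _ u hu))
      (hinv v (h.symm.AP _ hv) (h.symm.Asq _ v hv))
  have hor : ∀ j ∈ Q, j * j = 1 → j ≠ 1 → g * j * g⁻¹ ∈ P ∨ g * j * g⁻¹ ∈ Q := by
    intro j hj hjj hj1
    exact h.pure_conj (Or.inr hj) hjj hj1 (hg j (mem_sup_right hj))
  rcases hor a haQ h.a_sq h.a_ne with h1 | h1
  · right
    exact key P Q (fun j hj hj' => h.disj j hj hj') h1 hor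
  · left
    exact key Q P (fun j hj hj' => h.disj j hj' hj) h1 (fun j hj hjj hj1 => (hor j hj hjj hj1).symm)

end Dbl

/-- the record `BZ` -/
theorem DblX.bz (h : DblX S T P Q Z A K a b t x X Inn Fix) : BZ S T P Q X a := by
  have hmix := h.toDbl.noMix
  have hα := BigDelta.alpha_of h.toDbl hmix
  refine ⟨?_, fun g hg => h.toDbl.nJ_PQ hg, ?_, BigDelta.eps h hmix hα⟩
  · intro g hg y hy
    have h1 := h.toDbl.cjg_eq_of_le_S (g := g) (by
      intro u hu
      obtain ⟨v, hv, rfl⟩ := exists_of_cjg hu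
      exact hg v hv)
    rw [← h1]
    exact conj_mem_cjg.mpr hy
  · intro g hg
    refine Big.beta h.toDbl hmix hα (g := g⁻¹) hg ?_
    group

end Cfsg.Agent.UGT.L34T2
end
end
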